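import Cfsg.Agent.LieRecognition.ReeSetup
import Cfsg.Agent.LieRecognition.ReeFinal
import Cfsg.Agent.H147.ReeInvol
import Cfsg.Agent.LFourB.KSL

/-!
# Small Ree groups: a factorization (helper708)

`G` a group with the Bruhat normal form of `²G₂(q)`, `E` a Sylow 2-subgroup (of order 8) containing `a = h (-1)`, `Y` the
torus of order `(q + 1) / 4` in the centraliser of a four-group of `E`.  If a subgroup `M` contains `E` and `Y` and is
normalised by `N(E)`, then it contains the centralisers of the involutions of `E` and `G = M B`, `B` the Borel subgroup.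
-/

set_option autoImplicit false
set_option linter.unusedSectionVars false

namespace Cfsg.Agent.H708.ReeSix

open Cfsg.Agent.LieRecognition Cfsg.Agent.LieRecognition.ReeInv Cfsg.Agent.LieRecognition.ReeTorusB
open Subgroup

section loc

variable {G : Type*} [Group G] {L : Type*} [Group L] {q : ℕ} {a : G} {f : L →* G} {i j u t₀ : L} {T : Subgroup L}

/-- the four-group of `L` -/
def K4 (hk : KleinData L i j u) : Subgroup L where
  carrier := {x | x = 1 ∨ x = i ∨ x = j ∨ x = i * j}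
  one_mem' := Or.inl rfl
  mul_mem' := by
    have h1 := hk.ii
    have h2 := hk.jj
    have h3 := hk.ij
    have h4 : j * i = i * j := h3.symm
    have h5 : i * (i * j) = j := by rw [← mul_assoc, h1, one_mul]
    have h6 : j * (i * j) = i := by rw [← mul_assoc, h4, mul_assoc, h2, mul_one]
    have h7 : i * j * i = j := by rw [mul_assoc, h4, h5]
    have h8 : i * j * j = i := by rw [mul_assoc, h2, mul_one]
    have h9 : i * j * (i * j) = 1 := by rw [← mul_assoc, h7, h2]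
    rintro x y (rfl | rfl | rfl | rfl) (rfl | rfl | rfl | rfl) <;>
      simp only [one_mul, mul_one, Set.mem_ofPred_eq, h1, h2, h4, h5, h6, h7, h8, h9, true_or,
        or_true]
  inv_mem' := by
    have i1 : i⁻¹ = i := inv_eq_of_mul_eq_one_left hk.ii
    have i2 : j⁻¹ = j := inv_eq_of_mul_eq_one_left hk.jj
    rintro x (rfl | rfl | rfl | rfl)
    · simp
    · rw [i1]; right; left; rfl
    · rw [i2]; right; right; left; rfl
    · rw [mul_inv_rev, i1, i2, ← hk.ij]; right; right; right; rfl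

theorem mem_K4 (hk : KleinData L i j u) {x : L} : x ∈ K4 hk ↔ x = 1 ∨ x = i ∨ x = j ∨ x = i * j := Iff.rfl

theorem K4_sq (hk : KleinData L i j u) {x : L} (hx : x ∈ K4 hk) : x * x = 1 := by
  rcases (mem_K4 hk).1 hx with rfl | rfl | rfl | rfl
  · simp
  · exact hk.ii
  · exact hk.jj
  · calc i * j * (i * j) = i * (j * i) * j := by group
      _ = i * (i * j) * j := by rw [hk.ij]
      _ = (i * i) * (j * j) := by group
      _ = 1 := by rw [hk.ii, hk.jj, one_mul]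

theorem K4_comm (hk : KleinData L i j u) {x y : L} (hx : x ∈ K4 hk) (hy : y ∈ K4 hk) : x * y = y * x :=
  comm_of_sq (K4 hk) (fun _ h => K4_sq hk h) hx hy

theorem ij_ne_one (hk : KleinData L i j u) : i * j ≠ 1 := by
  intro h
  apply hk.ne
  calc i = (i * j) * j⁻¹ := by group
    _ = j⁻¹ := by rw [h, one_mul]
    _ = j := inv_eq_of_mul_eq_one_left hk.jj

theorem card_K4 (hk : KleinData L i j u) : Nat.card (K4 hk) = 4 := by
  have h1 : (K4 hk : Set L) = ({1, i, j, i * j} : Set L) := by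
    ext x
    simp only [SetLike.mem_coe, mem_K4, Set.mem_insert_iff, Set.mem_singleton_iff]
  have h2 : Nat.card (K4 hk) = Set.ncard (K4 hk : Set L) := rfl
  rw [h2, h1]
  have h3 : (1 : L) ∉ ({i, j, i * j} : Set L) := by
    simp only [Set.mem_insert_iff, Set.mem_singleton_iff, not_or]
    exact ⟨fun h => hk.i_ne h.symm, fun h => hk.j_ne h.symm, fun h => ij_ne_one hk h.symm⟩
  have h4 : i ∉ ({j, i * j} : Set L) := by
    simp only [Set.mem_insert_iff, Set.mem_singleton_iff, not_or]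
    exact ⟨hk.ne, fun h => hk.j_ne (mul_eq_left.1 h.symm)⟩
  have h5 : j ≠ i * j := fun h => hk.i_ne (mul_eq_right.1 h.symm)
  rw [Set.ncard_insert_of_notMem h3 (Set.toFinite _), Set.ncard_insert_of_notMem h4 (Set.toFinite _),
    Set.ncard_pair h5]

theorem K4_conj (hk : KleinData L i j u) {x : L} (hx : x ∈ K4 hk) : u⁻¹ * x * u ∈ K4 hk := by
  have h1 : u⁻¹ * j * u = i := by rw [← hk.uiu]; group
  have h2 : u⁻¹ * (i * j) * u = j := by rw [← hk.uju]; group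
  have h3 : u⁻¹ * i * u = i * j := by
    have : u⁻¹ * i * u = (u⁻¹ * (i * j) * u) * (u⁻¹ * j * u)⁻¹ := by group
    rw [this, h2, h1, inv_eq_of_mul_eq_one_left hk.ii, hk.ij]
  rcases (mem_K4 hk).1 hx with rfl | rfl | rfl | rfl
  · simp [(K4 hk).one_mem]
  · rw [h3]; exact (mem_K4 hk).2 (Or.inr (Or.inr (Or.inr rfl)))
  · rw [h1]; exact (mem_K4 hk).2 (Or.inr (Or.inl rfl))
  · rw [h2]; exact (mem_K4 hk).2 (Or.inr (Or.inr (Or.inl rfl)))

variable (S : Setup G L q a f i j u t₀ T)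

/-- the elementary abelian group of order eight -/
def E8 : Subgroup G where
  carrier := {x | ∃ l ∈ K4 S.hk, x = f l ∨ x = a * f l}
  one_mem' := ⟨1, (K4 S.hk).one_mem, Or.inl (map_one f).symm⟩
  mul_mem' := by
    have haa := S.hc.sq
    rintro x y ⟨l, hl, rfl | rfl⟩ ⟨l', hl', rfl | rfl⟩
    · exact ⟨l * l', (K4 S.hk).mul_mem hl hl', Or.inl (map_mul f _ _).symm⟩
    · refine ⟨l * l', (K4 S.hk).mul_mem hl hl', Or.inr ?_⟩
      rw [map_mul, ← mul_assoc, ← S.hc.comm, mul_assoc]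
    · refine ⟨l * l', (K4 S.hk).mul_mem hl hl', Or.inr ?_⟩
      rw [map_mul, mul_assoc]
    · refine ⟨l * l', (K4 S.hk).mul_mem hl hl', Or.inl ?_⟩
      calc a * f l * (a * f l') = a * (f l * a) * f l' := by group
        _ = (a * a) * (f l * f l') := by rw [← S.hc.comm]; group
        _ = f (l * l') := by rw [haa, one_mul, map_mul]
  inv_mem' := by
    have i1 : a⁻¹ = a := inv_eq_of_mul_eq_one_left S.hc.sq
    rintro x ⟨l, hl, rfl | rfl⟩
    · exact ⟨l⁻¹, (K4 S.hk).inv_mem hl, Or.inl (map_inv f _).symm⟩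
    · refine ⟨l⁻¹, (K4 S.hk).inv_mem hl, Or.inr ?_⟩
      rw [mul_inv_rev, i1, ← map_inv, S.hc.comm]

theorem mem_E8 {x : G} : x ∈ E8 S ↔ ∃ l ∈ K4 S.hk, x = f l ∨ x = a * f l := Iff.rfl

theorem E8_sq {x : G} (hx : x ∈ E8 S) : x * x = 1 := by
  obtain ⟨l, hl, rfl | rfl⟩ := (mem_E8 S).1 hx
  · rw [← map_mul, K4_sq S.hk hl, map_one]
  · calc a * f l * (a * f l) = a * (f l * a) * f l := by group
      _ = (a * a) * (f l * f l) := by rw [← S.hc.comm]; group
      _ = 1 := by rw [S.hc.sq, one_mul, ← map_mul, K4_sq S.hk hl, map_one]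

theorem a_mem_E8 : a ∈ E8 S := ⟨1, (K4 S.hk).one_mem, Or.inr (by rw [map_one, mul_one])⟩

theorem f_mem_E8 {l : L} (hl : l ∈ K4 S.hk) : f l ∈ E8 S := ⟨l, hl, Or.inl rfl⟩

theorem V_le_E8 : S.V ≤ E8 S := by
  intro x hx
  have hi : i ∈ K4 S.hk := (mem_K4 S.hk).2 (Or.inr (Or.inl rfl))
  rcases S.mem_V.1 hx with rfl | rfl | rfl | rfl
  · exact (E8 S).one_mem
  · exact a_mem_E8 S
  · exact f_mem_E8 S hi
  · exact (E8 S).mul_mem (a_mem_E8 S) (f_mem_E8 S hi)

theorem fj_mem_E8 : f j ∈ E8 S := f_mem_E8 S ((mem_K4 S.hk).2 (Or.inr (Or.inr (Or.inl rfl))))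

theorem E8_cov {x : G} (hx : x ∈ E8 S) : x ∈ S.V ∨ ∃ v ∈ S.V, x = v * f j := by
  have hjj : f j * f j = 1 := by rw [← map_mul, S.hk.jj, map_one]
  obtain ⟨l, hl, h⟩ := (mem_E8 S).1 hx
  rcases (mem_K4 S.hk).1 hl with rfl | rfl | rfl | rfl
  · left
    rcases h with rfl | rfl
    · rw [map_one]; exact S.V.one_mem
    · rw [map_one, mul_one]; exact S.a_mem
  · left
    rcases h with rfl | rfl
    · exact S.b_mem
    · exact S.V.mul_mem S.a_mem S.b_mem
  · right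
    rcases h with rfl | rfl
    · exact ⟨1, S.V.one_mem, by rw [one_mul]⟩
    · exact ⟨a, S.a_mem, rfl⟩
  · right
    rcases h with rfl | rfl
    · exact ⟨f i, S.b_mem, by rw [map_mul]⟩
    · exact ⟨a * f i, S.V.mul_mem S.a_mem S.b_mem, by rw [map_mul, mul_assoc]⟩

theorem card_E8 [Finite G] : Nat.card (E8 S) = 8 := by
  have hLfin : Finite L := Finite.of_injective f S.hc.inj
  have e : (K4 S.hk) × Bool ≃ E8 S := Equiv.ofBijective
    (fun p => ⟨if p.2 then a * f p.1 else f p.1, by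
      refine ⟨p.1, p.1.2, ?_⟩
      cases p.2
      · left; rfl
      · right; rfl⟩) ⟨by
    rintro ⟨⟨l, hl⟩, b⟩ ⟨⟨l', hl'⟩, b'⟩ h
    have h1 := congrArg Subtype.val h
    cases b <;> cases b' <;> simp only [Bool.false_eq_true, if_false, if_true] at h1
    · rw [Prod.mk.injEq]; exact ⟨Subtype.ext (S.hc.inj h1), rfl⟩
    · exfalso
      apply S.hc.not_mem (l * l'⁻¹)
      rw [map_mul, h1, map_inv, mul_inv_cancel_right]
    · exfalso
      apply S.hc.not_mem (l' * l⁻¹)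
      rw [map_mul, ← h1, map_inv, mul_inv_cancel_right]
    · rw [Prod.mk.injEq]; exact ⟨Subtype.ext (S.hc.inj (mul_left_cancel h1)), rfl⟩, by
    rintro ⟨x, l, hl, rfl | rfl⟩
    · exact ⟨(⟨l, hl⟩, false), rfl⟩
    · exact ⟨(⟨l, hl⟩, true), rfl⟩⟩
  rw [← Nat.card_congr e, Nat.card_prod, card_K4, Nat.card_eq_fintype_card, Fintype.card_bool]

theorem fu_norm {x : G} (hx : x ∈ E8 S) : (f u)⁻¹ * x * f u ∈ E8 S := by
  obtain ⟨l, hl, rfl | rfl⟩ := (mem_E8 S).1 hx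
  · exact ⟨_, K4_conj S.hk hl, Or.inl (by rw [map_mul, map_mul, map_inv])⟩
  · refine ⟨_, K4_conj S.hk hl, Or.inr ?_⟩
    rw [map_mul, map_mul, map_inv]
    have h1 := S.hc.comm u⁻¹
    rw [map_inv] at h1
    rw [← mul_assoc, ← h1]
    simp only [mul_assoc]

variable {M : Subgroup G} (hE : E8 S ≤ M) (hY : f t₀ ^ 2 ∈ M)
  (hN : ∀ x : G, (∀ s ∈ E8 S, x⁻¹ * s * x ∈ E8 S) → ∀ k ∈ M, x * k * x⁻¹ ∈ M)

include hE hY hN

theorem f_mem_of [Finite G] (hq : 3 < q) (hco : IsCoatom (centralizer ({i} : Set L))) (l : L) : f l ∈ M := by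
  have hLfin : Finite L := Finite.of_injective f S.hc.inj
  set M1 : Subgroup L := M.comap f with hM1
  have hmem : ∀ l : L, l ∈ M1 ↔ f l ∈ M := fun _ => Iff.rfl
  have hiM : i ∈ M1 := hE (f_mem_E8 S ((mem_K4 S.hk).2 (Or.inr (Or.inl rfl))))
  have hjM : j ∈ M1 := hE (fj_mem_E8 S)
  have hTM : ∀ t ∈ T, t ∈ M1 := by
    have h1 : zpowers (t₀ ^ 2) ≤ M1 := by
      rw [zpowers_le, hmem, map_pow]
      exact hY
    intro t ht
    obtain ⟨r, hr, rfl | rfl⟩ := S.mem_T_cases ht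
    · exact h1 hr
    · exact M1.mul_mem hiM (h1 hr)
  have hle : centralizer ({i} : Set L) ≤ M1 := by
    intro x hx
    rw [mem_centralizer_singleton_iff] at hx
    rcases S.ht.cent_i x hx with h | h
    · exact hTM x h
    · have : x = (x * j) * j := by rw [mul_assoc, S.hk.jj, mul_one]
      rw [this]
      exact M1.mul_mem (hTM _ h) hjM
  have huM : u * t₀ * u⁻¹ ∈ M1 := by
    rw [hmem, map_mul, map_mul, map_inv]
    exact hN (f u) (fun s hs => fu_norm S hs) _ (hTM t₀ S.t0_mem)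
  have htop : M1 = ⊤ := by
    rcases hco.le_iff.1 hle with h | h
    · exact h
    · exfalso
      rw [h, mem_centralizer_singleton_iff] at huM
      have h1 : t₀ * i = i * t₀ := S.T_comm S.t0_mem S.ht.i_mem
      have h2 : (u * t₀ * u⁻¹) * j = j * (u * t₀ * u⁻¹) := by
        rw [← S.hk.uiu]
        calc (u * t₀ * u⁻¹) * (u * i * u⁻¹) = u * (t₀ * i) * u⁻¹ := by group
          _ = (u * i * u⁻¹) * (u * t₀ * u⁻¹) := by rw [h1]; group
      have h3 := K4_sq S.hk ((mem_K4 S.hk).2 (S.hk.cent _ huM h2))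
      have h4 : t₀ * t₀ = 1 := by
        have : t₀ * t₀ = u⁻¹ * ((u * t₀ * u⁻¹) * (u * t₀ * u⁻¹)) * u := by group
        rw [this, h3]; group
      have h5 : orderOf t₀ ≤ 2 := Nat.le_of_dvd (by norm_num) (orderOf_dvd_of_pow_eq_one (by rw [pow_two, h4]))
      have h6 := S.orderOf_t0
      omega
  have h1 : l ∈ M1 := by rw [htop]; exact mem_top l
  exact h1

theorem cent_le_of [Finite G] (hq : 3 < q) (hco : IsCoatom (centralizer ({i} : Set L))) {x : G}
    (hx : x * a = a * x) : x ∈ M := by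
  obtain ⟨l, rfl | rfl⟩ := S.hc.surj x hx
  · exact f_mem_of S hE hY hN hq hco l
  · exact M.mul_mem (hE (a_mem_E8 S)) (f_mem_of S hE hY hN hq hco l)

/-- all involutions of `E` are conjugate in `M` -/
theorem conj_E8 [Finite G] (hq : 3 < q) (hco : IsCoatom (centralizer ({i} : Set L)))
    {g : G} (hg : ∀ s ∈ E8 S, g⁻¹ * s * g ∈ E8 S) (hg7 : g ^ 7 = 1) (hfix : ∀ s ∈ E8 S, g⁻¹ * s * g = s → s = 1)
    {x : G} (hx : x ∈ E8 S) (hx1 : x ≠ 1) : ∃ k ∈ M, x = k * a * k⁻¹ := by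
  classical
  have hfL := f_mem_of S hE hY hN hq hco
  have hi1 : f i ≠ 1 := S.b_ne
  have hKI : ∀ l ∈ K4 S.hk, l ≠ 1 → ∃ k ∈ M, f l = k * f i * k⁻¹ := by
    intro l hl hl1
    obtain ⟨k, hk⟩ := S.conjL l hl1 (K4_sq S.hk hl)
    exact ⟨f k, hfL k, by rw [← hk, map_mul, map_mul, map_inv]⟩
  have hpow : ∀ n : ℕ, ∀ s ∈ E8 S, (g ^ n)⁻¹ * s * g ^ n ∈ E8 S := by
    intro n
    induction n with
    | zero => intro s hs; simpa using hs
    | succ n ih =>
      intro s hs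
      have : (g ^ (n + 1))⁻¹ * s * g ^ (n + 1) = g⁻¹ * ((g ^ n)⁻¹ * s * g ^ n) * g := by rw [pow_succ]; group
      rw [this]
      exact hg _ (ih s hs)
  -- `g⁻¹ (f i) g` is conjugate to `f i` in `M`
  have hfin : Finite (E8 S) := inferInstance
  have hginv : ∀ s ∈ E8 S, g * s * g⁻¹ ∈ E8 S := by
    intro s hs
    have h1 := hpow 6 s hs
    have h2 : g ^ 6 = g⁻¹ := by
      rw [eq_inv_iff_mul_eq_one, ← pow_succ, hg7]
    rwa [h2, inv_inv] at h1
  have step : ∃ k ∈ M, g⁻¹ * f i * g = k * f i * k⁻¹ := by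
    -- a common element of `f K4` and its conjugate
    have hex : ∃ l ∈ K4 S.hk, ∃ l' ∈ K4 S.hk, l ≠ 1 ∧ l' ≠ 1 ∧ g⁻¹ * f l * g = f l' := by
      by_contra hcon
      push Not at hcon
      have hinj : Function.Injective (fun p : K4 S.hk × K4 S.hk =>
          (⟨(g⁻¹ * f p.1 * g) * f p.2, (E8 S).mul_mem (hg _ (f_mem_E8 S p.1.2)) (f_mem_E8 S p.2.2)⟩ : E8 S)) := by
        rintro ⟨⟨l, hl⟩, l₁, hl₁⟩ ⟨⟨l', hl'⟩, l₁', hl₁'⟩ h
        have h1 : g⁻¹ * f l * g * f l₁ = g⁻¹ * f l' * g * f l₁' := congrArg Subtype.val h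
        have h2 : g⁻¹ * f (l'⁻¹ * l) * g = f (l₁' * l₁⁻¹) := by
          rw [map_mul, map_mul, map_inv, map_inv]
          calc g⁻¹ * ((f l')⁻¹ * f l) * g = (g⁻¹ * f l' * g)⁻¹ * (g⁻¹ * f l * g * f l₁) * (f l₁)⁻¹ := by group
            _ = f l₁' * (f l₁)⁻¹ := by rw [h1]; group
        have h3 : l'⁻¹ * l = 1 := by
          by_contra h4
          by_cases h5 : l₁' * l₁⁻¹ = 1
          · rw [h5, map_one] at h2
            apply h4
            apply S.hc.inj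
            rw [map_one]
            calc f (l'⁻¹ * l) = g * (g⁻¹ * f (l'⁻¹ * l) * g) * g⁻¹ := by group
              _ = 1 := by rw [h2]; group
          · exact hcon _ ((K4 S.hk).mul_mem ((K4 S.hk).inv_mem hl') hl) _ ((K4 S.hk).mul_mem hl₁' ((K4 S.hk).inv_mem hl₁))
              h4 h5 h2
        have h4 : l = l' := (inv_mul_eq_one.1 h3).symm
        subst h4
        have h5 := S.hc.inj (mul_left_cancel h1)
        subst h5
        rfl
      have hc := Nat.card_le_card_of_injective _ hinj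
      rw [Nat.card_prod, card_K4, card_E8 S] at hc
      omega
    obtain ⟨l, hl, l', hl', h1, h1', he⟩ := hex
    obtain ⟨k, hk, hkl⟩ := hKI l hl h1
    obtain ⟨k', hk', hkl'⟩ := hKI l' hl' h1'
    -- `g⁻¹ (f l) g = f l'`
    have hNg : g⁻¹ * k⁻¹ * g ∈ M := by
      have := hN g⁻¹ (fun s hs => by rw [inv_inv]; exact hginv s hs) k⁻¹ (M.inv_mem hk)
      rwa [inv_inv] at this
    refine ⟨(g⁻¹ * k⁻¹ * g) * k', M.mul_mem hNg hk', ?_⟩
    calc g⁻¹ * f i * g = (g⁻¹ * k⁻¹ * g) * (g⁻¹ * (k * f i * k⁻¹) * g) * (g⁻¹ * k⁻¹ * g)⁻¹ := by group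
      _ = (g⁻¹ * k⁻¹ * g) * (k' * f i * k'⁻¹) * (g⁻¹ * k⁻¹ * g)⁻¹ := by rw [← hkl, he, hkl']
      _ = _ := by group
  have hall : ∀ n : ℕ, ∃ k ∈ M, (g ^ n)⁻¹ * f i * g ^ n = k * f i * k⁻¹ := by
    intro n
    induction n with
    | zero => exact ⟨1, M.one_mem, by simp⟩
    | succ n ih =>
      obtain ⟨k, hk, hke⟩ := ih
      obtain ⟨k', hk', hke'⟩ := step
      have hNg : g⁻¹ * k * g ∈ M := by
        have := hN g⁻¹ (fun s hs => by rw [inv_inv]; exact hginv s hs) k hk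
        rwa [inv_inv] at this
      refine ⟨(g⁻¹ * k * g) * k', M.mul_mem hNg hk', ?_⟩
      have h1 : (g ^ (n + 1))⁻¹ * f i * g ^ (n + 1) = g⁻¹ * ((g ^ n)⁻¹ * f i * g ^ n) * g := by
        rw [pow_succ]; group
      rw [h1, hke]
      calc g⁻¹ * (k * f i * k⁻¹) * g = (g⁻¹ * k * g) * (g⁻¹ * f i * g) * (g⁻¹ * k * g)⁻¹ := by group
        _ = (g⁻¹ * k * g) * (k' * f i * k'⁻¹) * (g⁻¹ * k * g)⁻¹ := by rw [hke']
        _ = _ := by group
  -- transitivity
  have htr : ∀ z ∈ E8 S, z ≠ 1 → ∃ n : ℕ, (g ^ n)⁻¹ * f i * g ^ n = z := by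
    have hfixn : ∀ n : ℕ, 0 < n → n < 7 → ∀ z ∈ E8 S, (g ^ n)⁻¹ * z * g ^ n = z → z = 1 := by
      intro n h0 h7 z hz h
      -- `g` is a power of `g ^ n`
      have hcop : Nat.Coprime n 7 := by
        interval_cases n <;> decide
      obtain ⟨m, hm⟩ := Nat.exists_mul_mod_eq_one_of_coprime hcop (by norm_num)
      have h1 : g = (g ^ n) ^ m := by
        rw [← pow_mul, ← Nat.div_add_mod (n * m) 7, hm.2, pow_add, pow_mul, hg7, one_pow, one_mul, pow_one]
      have h2 : Commute (g ^ n) z := by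
        show g ^ n * z = z * g ^ n
        calc g ^ n * z = g ^ n * ((g ^ n)⁻¹ * z * g ^ n) := by rw [h]
          _ = z * g ^ n := by group
      have h3 : Commute g z := by
        rw [h1]
        exact h2.pow_left m
      apply hfix z hz
      rw [mul_assoc, ← h3.eq]
      group
    have hinj : Function.Injective (fun n : Fin 7 => (⟨⟨(g ^ (n : ℕ))⁻¹ * f i * g ^ (n : ℕ), hpow n _
        (V_le_E8 S S.b_mem)⟩, fun h => hi1 (by
          have h1 : (g ^ (n : ℕ))⁻¹ * f i * g ^ (n : ℕ) = 1 := congrArg Subtype.val h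
          calc f i = g ^ (n : ℕ) * ((g ^ (n : ℕ))⁻¹ * f i * g ^ (n : ℕ)) * (g ^ (n : ℕ))⁻¹ := by group
            _ = 1 := by rw [h1]; group)⟩ : {x : E8 S // x ≠ 1})) := by
      have key : ∀ n m : Fin 7, (n : ℕ) < m → (g ^ (n : ℕ))⁻¹ * f i * g ^ (n : ℕ) ≠
          (g ^ (m : ℕ))⁻¹ * f i * g ^ (m : ℕ) := by
        intro n m hnm h
        have h1 := hfixn ((m : ℕ) - n) (by omega) (by omega) (f i) (V_le_E8 S S.b_mem) (by
          have h2 : g ^ (m : ℕ) = g ^ ((m : ℕ) - n) * g ^ (n : ℕ) := by rw [← pow_add]; congr 1; omega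
          rw [h2] at h
          calc (g ^ ((m : ℕ) - n))⁻¹ * f i * g ^ ((m : ℕ) - n) = g ^ (n : ℕ) * ((g ^ ((m : ℕ) - n) * g ^ (n : ℕ))⁻¹ *
                f i * (g ^ ((m : ℕ) - n) * g ^ (n : ℕ))) * (g ^ (n : ℕ))⁻¹ := by group
            _ = f i := by rw [← h]; group)
        exact hi1 h1
      intro n m h
      have h1 : (g ^ (n : ℕ))⁻¹ * f i * g ^ (n : ℕ) = (g ^ (m : ℕ))⁻¹ * f i * g ^ (m : ℕ) :=
        congrArg (fun x : {x : E8 S // x ≠ 1} => ((x : E8 S) : G)) h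
      rcases lt_trichotomy (n : ℕ) m with h2 | h2 | h2
      · exact absurd h1 (key n m h2)
      · exact Fin.ext h2
      · exact absurd h1.symm (key m n h2)
    have := Fintype.ofFinite (E8 S)
    have hcard : Fintype.card {x : E8 S // x ≠ 1} = 7 := by
      rw [Fintype.card_subtype_compl, Fintype.card_subtype_eq, ← Nat.card_eq_fintype_card, card_E8 S]
    have hbij := (Fintype.bijective_iff_injective_and_card _).2 ⟨hinj, by rw [Fintype.card_fin, hcard]⟩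
    intro z hz hz1
    obtain ⟨n, hn⟩ := hbij.2 ⟨⟨z, hz⟩, fun h => hz1 (congrArg Subtype.val h)⟩
    exact ⟨n, congrArg (fun x : {x : E8 S // x ≠ 1} => ((x : E8 S) : G)) hn⟩
  obtain ⟨n, hn⟩ := htr x hx hx1
  obtain ⟨n', hn'⟩ := htr a (a_mem_E8 S) S.hc.ne_one
  obtain ⟨k, hk, hke⟩ := hall n
  obtain ⟨k', hk', hke'⟩ := hall n'
  refine ⟨k * k'⁻¹, M.mul_mem hk (M.inv_mem hk'), ?_⟩
  rw [← hn, hke, ← hn', hke']
  group

/-- involutions commuting with `a` are conjugate to `a` in `M` -/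
theorem conj_cent [Finite G] (hq : 3 < q) (hco : IsCoatom (centralizer ({i} : Set L)))
    {g : G} (hg : ∀ s ∈ E8 S, g⁻¹ * s * g ∈ E8 S) (hg7 : g ^ 7 = 1) (hfix : ∀ s ∈ E8 S, g⁻¹ * s * g = s → s = 1)
    {z : G} (hz : z * a = a * z) (hz1 : z ≠ 1) (hzz : z * z = 1) : ∃ k ∈ M, z = k * a * k⁻¹ := by
  have hfL := f_mem_of S hE hY hN hq hco
  have key : ∀ l : L, l * l = 1 → ∀ ε : G, (ε = 1 ∨ ε = a) → ε * f l ≠ 1 → ∃ k ∈ M, ε * f l = k * a * k⁻¹ := by
    intro l hl ε hε hne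
    have hεc : ∀ l, ε * f l = f l * ε := by
      intro l
      rcases hε with rfl | rfl
      · simp
      · exact S.hc.comm l
    have hεE : ε ∈ E8 S := by
      rcases hε with rfl | rfl
      · exact (E8 S).one_mem
      · exact a_mem_E8 S
    by_cases h1 : l = 1
    · subst h1
      exact conj_E8 S hE hY hN hq hco hg hg7 hfix (by rw [map_one, mul_one]; exact hεE) hne
    · obtain ⟨k, hk⟩ := S.conjL l h1 hl
      have hmem : ε * f i ∈ E8 S := (E8 S).mul_mem hεE (V_le_E8 S S.b_mem)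
      have hne' : ε * f i ≠ 1 := by
        intro h
        apply hne
        rw [← hk, map_mul, map_mul, map_inv]
        calc ε * (f k * f i * (f k)⁻¹) = f k * (ε * f i) * (f k)⁻¹ := by
              rw [← mul_assoc, ← mul_assoc, hεc k]; group
          _ = 1 := by rw [h]; group
      obtain ⟨k', hk', hke⟩ := conj_E8 S hE hY hN hq hco hg hg7 hfix hmem hne'
      refine ⟨f k * k', M.mul_mem (hfL k) hk', ?_⟩
      rw [← hk, map_mul, map_mul, map_inv]
      calc ε * (f k * f i * (f k)⁻¹) = f k * (ε * f i) * (f k)⁻¹ := by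
            rw [← mul_assoc, ← mul_assoc, hεc k]; group
        _ = _ := by rw [hke]; group
  obtain ⟨l, h | h⟩ := S.hc.surj z hz
  · have hl : l * l = 1 := S.hc.inj (by rw [map_mul, ← h, hzz, map_one])
    have := key l hl 1 (Or.inl rfl) (by rw [one_mul, ← h]; exact hz1)
    rwa [one_mul, ← h] at this
  · have hl : l * l = 1 := S.hc.inj (by
      rw [map_mul, map_one]
      have h1 : f l = a * z := by rw [h, ← mul_assoc, S.hc.sq, one_mul]
      rw [h1]
      calc a * z * (a * z) = a * (z * a) * z := by group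
        _ = (a * a) * (z * z) := by rw [hz]; group
        _ = 1 := by rw [S.hc.sq, hzz, one_mul])
    have := key l hl a (Or.inr rfl) (by rw [← h]; exact hz1)
    rwa [← h] at this

end loc

section fac

open Cfsg.Agent.LieRecognition.ReeAbs

variable {K : Type*} [Field K] [Fintype K] {G : Type*} [Group G] {m : ℕ}
  {U : K → K → K → G} {h : Kˣ → G} {n : G}

theorem mem_bSub (D : ReeAbs.Data m U h n) {g : G} : g ∈ ReeSplit.bSub D ↔ ∃ t u v a, g = U t u v * h a := Iff.rfl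

theorem U_mem_bSub (D : ReeAbs.Data m U h n) (t u v : K) : U t u v ∈ ReeSplit.bSub D :=
  ⟨t, u, v, 1, by rw [D.h_one, mul_one]⟩

theorem h_mem_bSub (D : ReeAbs.Data m U h n) (a : Kˣ) : h a ∈ ReeSplit.bSub D :=
  ⟨0, 0, 0, a, by rw [D.U_zero, one_mul]⟩

/-- the involutions of the Borel subgroup are conjugate in it -/
theorem conj_bSub (D : ReeAbs.Data m U h n) (hK : Fintype.card K = 3 ^ (2 * m + 1)) {w : G}
    (hw : w ∈ ReeSplit.bSub D) (hw1 : w ≠ 1) (hww : w * w = 1) :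
    ∃ b ∈ ReeSplit.bSub D, w = b * h (-1) * b⁻¹ := by
  obtain ⟨t, u, v, a, rfl⟩ := (mem_bSub D).1 hw
  obtain ⟨rfl, hu⟩ := (Cfsg.Agent.H147.ReeInvol.inv_iff D hK t u v a).1 ⟨hw1, hww⟩
  have h3 : (3 : K) = 0 := by
    have := charP_three hK
    exact CharP.cast_eq_zero K 3
  refine ⟨U (-t) 0 (u * t - v), U_mem_bSub D _ _ _, ?_⟩
  rw [eq_mul_inv_iff_mul_eq, mul_assoc, D.inv_mul_U, ← mul_assoc, D.U_mul]
  congr 2
  · linear_combination t * h3
  · rw [neg_neg, hu]; ring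
  · rw [neg_neg]
    linear_combination (v - u * t) * h3

/-- an involution of the Borel subgroup commuting with a given involution -/
theorem exists_comm (D : ReeAbs.Data m U h n) (hK : Fintype.card K = 3 ^ (2 * m + 1)) {y : G} (hy1 : y ≠ 1)
    (hyy : y * y = 1) : ∃ w ∈ ReeSplit.bSub D, w ≠ 1 ∧ w * w = 1 ∧ w * y = y * w := by
  rcases D.bruhat y with ⟨t, u, v, a, rfl⟩ | ⟨t, u, v, a, t', u', v', hy⟩
  · exact ⟨_, (mem_bSub D).2 ⟨t, u, v, a, rfl⟩, hy1, hyy, rfl⟩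
  · set p := U t' u' v' with hp
    have hpB : p ∈ ReeSplit.bSub D := U_mem_bSub D _ _ _
    set x := U t' u' v' * U t u v with hx
    obtain ⟨t₁, u₁, v₁, hx₁⟩ : ∃ t₁ u₁ v₁, x = U t₁ u₁ v₁ := ⟨_, _, _, D.U_mul _ _ _ _ _ _⟩
    have hy' : p * y * p⁻¹ = U t₁ u₁ v₁ * h a * n := by
      rw [hy, ← hx₁, hx, hp]; group
    have hsq : (U t₁ u₁ v₁ * h a * n) * (U t₁ u₁ v₁ * h a * n) = 1 := by
      rw [← hy']
      calc p * y * p⁻¹ * (p * y * p⁻¹) = p * (y * y) * p⁻¹ := by group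
        _ = 1 := by rw [hyy]; group
    -- the inverse of `x` is in `U`
    obtain ⟨t₂, u₂, v₂, hx₂⟩ : ∃ t₂ u₂ v₂, (U t₁ u₁ v₁)⁻¹ = U t₂ u₂ v₂ := by
      have h1 : U t₁ u₁ v₁ ∈ ReeSylowThree.uSub D := ⟨t₁, u₁, v₁, rfl⟩
      obtain ⟨t₂, u₂, v₂, h2⟩ := (ReeSylowThree.uSub D).inv_mem h1
      exact ⟨t₂, u₂, v₂, h2⟩
    have h1 : U t₁ u₁ v₁ * h a * n * U 0 0 0 = U 0 0 0 * h a * n * U t₂ u₂ v₂ := by
      rw [D.U_zero, mul_one, one_mul, ← hx₂]
      have e := eq_inv_of_mul_eq_one_left hsq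
      calc U t₁ u₁ v₁ * h a * n = (U t₁ u₁ v₁ * h a * n)⁻¹ := e
        _ = n⁻¹ * (h a)⁻¹ * (U t₁ u₁ v₁)⁻¹ := by group
        _ = n * h a⁻¹ * (U t₁ u₁ v₁)⁻¹ := by rw [D.n_inv, D.h_inv]
        _ = h a * n * (U t₁ u₁ v₁)⁻¹ := by rw [D.n_h, inv_inv]
    obtain ⟨rfl, rfl, rfl, -⟩ := D.inj₂ _ _ _ _ _ _ _ _ _ _ _ _ _ _ h1
    rw [D.U_zero, one_mul] at hy'
    refine ⟨p⁻¹ * h (-1) * p, ?_, ?_, ?_, ?_⟩
    · exact mul_mem (mul_mem (inv_mem hpB) (h_mem_bSub D _)) hpB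
    · intro hh
      apply D.inv_ne_one hK
      calc h (-1) = p * (p⁻¹ * h (-1) * p) * p⁻¹ := by group
        _ = 1 := by rw [hh]; group
    · calc p⁻¹ * h (-1) * p * (p⁻¹ * h (-1) * p) = p⁻¹ * (h (-1) * h (-1)) * p := by group
        _ = 1 := by rw [D.inv_sq]; group
    · have hcomm : h (-1) * (h a * n) = (h a * n) * h (-1) := by
        rw [← mul_assoc, D.h_comm, mul_assoc, D.inv_mul_n, mul_assoc]
      have hy2 : y = p⁻¹ * (h a * n) * p := by rw [← hy']; group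
      calc p⁻¹ * h (-1) * p * y = p⁻¹ * (h (-1) * (h a * n)) * p := by rw [hy2]; group
        _ = y * (p⁻¹ * h (-1) * p) := by rw [hcomm, hy2]; group

/-- **The factorization.** -/
theorem factor [Finite G] {L : Type*} [Group L] {q : ℕ} {f : L →* G} {i j u t₀ : L} {T : Subgroup L}
    (D : ReeAbs.Data m U h n) (hK : Fintype.card K = 3 ^ (2 * m + 1)) (S : Setup G L q (h (-1)) f i j u t₀ T)
    {M : Subgroup G} (hE : E8 S ≤ M) (hY : f t₀ ^ 2 ∈ M)
    (hN : ∀ x : G, (∀ s ∈ E8 S, x⁻¹ * s * x ∈ E8 S) → ∀ k ∈ M, x * k * x⁻¹ ∈ M)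
    (hq : 3 < q) (hco : IsCoatom (centralizer ({i} : Set L)))
    {g : G} (hg : ∀ s ∈ E8 S, g⁻¹ * s * g ∈ E8 S) (hg7 : g ^ 7 = 1) (hfix : ∀ s ∈ E8 S, g⁻¹ * s * g = s → s = 1)
    (x : G) : ∃ k ∈ M, ∃ b ∈ ReeSplit.bSub D, x = k * b := by
  obtain ⟨w, hwB, hw1, hww, hwy⟩ := exists_comm D hK (y := x⁻¹ * h (-1) * x)
    (by
      intro hh
      apply D.inv_ne_one hK
      calc h (-1) = x * (x⁻¹ * h (-1) * x) * x⁻¹ := by group
        _ = 1 := by rw [hh]; group)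
    (by
      calc x⁻¹ * h (-1) * x * (x⁻¹ * h (-1) * x) = x⁻¹ * (h (-1) * h (-1)) * x := by group
        _ = 1 := by rw [D.inv_sq]; group)
  obtain ⟨k, hk, hke⟩ := conj_cent S hE hY hN hq hco hg hg7 hfix (z := x * w * x⁻¹)
    (by
      calc x * w * x⁻¹ * h (-1) = x * (w * (x⁻¹ * h (-1) * x)) * x⁻¹ := by group
        _ = h (-1) * (x * w * x⁻¹) := by rw [hwy]; group)
    (by
      intro hh
      apply hw1
      calc w = x⁻¹ * (x * w * x⁻¹) * x := by group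
        _ = 1 := by rw [hh]; group)
    (by
      calc x * w * x⁻¹ * (x * w * x⁻¹) = x * (w * w) * x⁻¹ := by group
        _ = 1 := by rw [hww]; group)
  obtain ⟨b, hb, hbe⟩ := conj_bSub D hK hwB hw1 hww
  have hc : (k⁻¹ * x * b) * h (-1) = h (-1) * (k⁻¹ * x * b) := by
    calc (k⁻¹ * x * b) * h (-1) = k⁻¹ * (x * (b * h (-1) * b⁻¹) * x⁻¹) * x * b := by group
      _ = h (-1) * (k⁻¹ * x * b) := by rw [← hbe, hke]; group
  have hmem := cent_le_of S hE hY hN hq hco hc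
  refine ⟨k * (k⁻¹ * x * b), M.mul_mem hk hmem, b⁻¹, inv_mem hb, ?_⟩
  group

end fac

end Cfsg.Agent.H708.ReeSix
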