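import Cfsg.Agent.H708.WtSeven
import Cfsg.Agent.H905.MdO
import Cfsg.Agent.H915.LD
import Cfsg.Agent.S1157

/-!
# Ree groups in characteristic three: lower bounds for the degree (helper708)

`P ≤ GL(ι, F)` a core (`H915.LD.Core`), `char F = 3`, `P` modulo scalars a Ree group `²G₂(3^(2m+1))`, `m ≥ 1`.

* **`ree_seven`** : `7 ≤ |ι|`;
* **`ree_fixA`** : `14 ≤ |ι|` if `P` fixes a non-degenerate alternating form;
* `ree_six`, `ree_fixA_false` : the same as `False`.

A Sylow 2-subgroup `S` of the Ree group has order 8 and is normalised by an element of order 7 acting without fixed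
points; so the seven non-trivial weights of `S` occur equally often; their weight spaces are non-degenerate for an
invariant alternating form.
-/

set_option autoImplicit false
set_option linter.unusedSectionVars false

namespace Cfsg.Agent.H708.ReeSix

open Cfsg Cfsg.Geo Matrix Cfsg.Agent.H915.LD

universe u v

theorem fix_trivial {G : Type*} [Group G] {S : Subgroup G} (h8 : Nat.card S = 8) {g : G}
    (hg : ∀ s ∈ S, g⁻¹ * s * g ∈ S) (hg7 : g ^ 7 = 1) (hne : ∃ s ∈ S, g⁻¹ * s * g ≠ s) :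
    ∀ s ∈ S, g⁻¹ * s * g = s → s = 1 := by
  classical
  have hfin : Finite S := Nat.finite_of_card_ne_zero (by omega)
  have := Fintype.ofFinite S
  let f : S →* S :=
    { toFun := fun s => ⟨g⁻¹ * s * g, hg s s.2⟩
      map_one' := Subtype.ext (by simp)
      map_mul' := fun s t => Subtype.ext (by simp [mul_assoc]) }
  have hf : ∀ s : S, ((f s : S) : G) = g⁻¹ * s * g := fun _ => rfl
  have hfn : ∀ (n : ℕ) (s : S), ((f^[n] s : S) : G) = (g ^ n)⁻¹ * s * g ^ n := by
    intro n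
    induction n with
    | zero => intro s; simp
    | succ n ih =>
      intro s
      rw [Function.iterate_succ_apply', hf, ih, pow_succ]
      group
  let L : Subgroup S := MonoidHom.eqLocus f (MonoidHom.id S)
  have hL : ∀ s : S, s ∈ L ↔ f s = s := fun s => Iff.rfl
  have hdvd : Nat.card L ∣ 8 := h8 ▸ Subgroup.card_subgroup_dvd_card L
  have hmod : 8 ≡ Nat.card L [MOD 7] := by
    have : Fact (Nat.Prime 7) := ⟨by norm_num⟩
    let F : Function.End S := fun s => f s
    have h1 : F ^ 7 ^ 1 = 1 := by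
      funext s
      have h2 : ∀ n : ℕ, ∀ s, (F ^ n) s = f^[n] s := by
        intro n
        induction n with
        | zero => intro s; rfl
        | succ n ih =>
          intro s
          rw [pow_succ', Function.iterate_succ_apply', ← ih]
          rfl
      rw [h2]
      apply Subtype.ext
      rw [hfn, pow_one, hg7, inv_one, one_mul, mul_one]
      rfl
    have h3 := Equiv.Perm.card_fixedPoints_modEq (f := F) (p := 7) (n := 1) h1
    rw [← Nat.card_eq_fintype_card, h8, ← Nat.card_eq_fintype_card] at h3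
    exact h3
  have hle := Nat.le_of_dvd (by norm_num) hdvd
  have hpos : 0 < Nat.card L := Nat.card_pos
  have h18 : Nat.card L = 1 ∨ Nat.card L = 8 := by
    have h4 : 8 % 7 = Nat.card L % 7 := hmod
    omega
  rcases h18 with h1 | h1
  · have hbot : L = ⊥ := Subgroup.card_eq_one.1 h1
    intro s hs hss
    have h2 : (⟨s, hs⟩ : S) ∈ L := (hL _).2 (Subtype.ext hss)
    rw [hbot, Subgroup.mem_bot] at h2
    exact congrArg Subtype.val h2
  · exfalso
    obtain ⟨s, hs, hne⟩ := hne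
    have htop : L = ⊤ := Subgroup.eq_top_of_card_eq L (by rw [h1, h8])
    have h2 : (⟨s, hs⟩ : S) ∈ L := by rw [htop]; exact Subgroup.mem_top _
    exact hne (congrArg Subtype.val ((hL _).1 h2))

/-- the group-theoretic input for the Ree groups -/
theorem ree_data {K : Type*} [Field K] [Fintype K] {m : ℕ} (hm : 1 ≤ m) (hK : Fintype.card K = 3 ^ (2 * m + 1)) :
    ∃ (S : Subgroup ↥(Cfsg.Lie.twistedG2 K (3 ^ m))) (g : ↥(Cfsg.Lie.twistedG2 K (3 ^ m))),
      Nat.card S = 8 ∧ (∀ s ∈ S, s * s = 1) ∧ (∀ s ∈ S, g⁻¹ * s * g ∈ S) ∧ g ^ 7 = 1 ∧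
        ∀ s ∈ S, g⁻¹ * s * g = s → s = 1 := by
  obtain ⟨S⟩ : Nonempty (Sylow 2 ↥(Cfsg.Lie.twistedG2 K (3 ^ m))) := inferInstance
  obtain ⟨a, haH, ha1, ha2⟩ := Cfsg.Agent.S1157.exists_involution hK
  obtain ⟨h8, hS⟩ := (Cfsg.Agent.S1152.result hK a haH ha1 ha2).2 S
  obtain ⟨hc, hn⟩ := Cfsg.Agent.S1157.result hm hK S
  have : Fact (Nat.Prime 7) := ⟨by norm_num⟩
  have hfinN : Finite (Subgroup.normalizer ((S : Subgroup ↥(Cfsg.Lie.twistedG2 K (3 ^ m))) :
      Set ↥(Cfsg.Lie.twistedG2 K (3 ^ m)))) := Nat.finite_of_card_ne_zero (by omega)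
  obtain ⟨⟨g, hgN⟩, hg⟩ := exists_prime_orderOf_dvd_card' (G := Subgroup.normalizer ((S : Subgroup
    ↥(Cfsg.Lie.twistedG2 K (3 ^ m))) : Set ↥(Cfsg.Lie.twistedG2 K (3 ^ m)))) 7 (by rw [hn]; norm_num)
  rw [Subgroup.orderOf_mk] at hg
  have hg7 : g ^ 7 = 1 := by rw [← hg, pow_orderOf_eq_one]
  have hgN' : ∀ s ∈ (S : Subgroup ↥(Cfsg.Lie.twistedG2 K (3 ^ m))), g⁻¹ * s * g ∈
      (S : Subgroup ↥(Cfsg.Lie.twistedG2 K (3 ^ m))) := by
    intro s hs
    have h1 := (Subgroup.mem_normalizer_iff.1 (inv_mem hgN) s).1 hs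
    rwa [inv_inv] at h1
  refine ⟨S, g, h8, hS, hgN', hg7, fix_trivial h8 hgN' hg7 ?_⟩
  by_contra h
  push Not at h
  have h1 : g ∈ Subgroup.centralizer ((S : Subgroup ↥(Cfsg.Lie.twistedG2 K (3 ^ m))) :
      Set ↥(Cfsg.Lie.twistedG2 K (3 ^ m))) := by
    rw [Subgroup.mem_centralizer_iff]
    intro s hs
    have h2 := h s hs
    calc s * g = g * (g⁻¹ * s * g) := by group
      _ = g * s := by rw [h2]
  rw [hc] at h1
  have h2 := hS g h1
  have h3 : orderOf g ∣ 2 := orderOf_dvd_of_pow_eq_one (by rw [pow_two, h2])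
  rw [hg] at h3
  have := Nat.le_of_dvd (by norm_num) h3
  omega

variable {F : Type u} [Field F] {ι : Type} [Fintype ι] [DecidableEq ι]

/-- `GL(ι, F)` acting on column vectors -/
noncomputable def actHom (ι : Type) [Fintype ι] [DecidableEq ι] (F : Type u) [Field F] : GL ι F →* Module.End F (ι → F) :=
  ((Matrix.toLinAlgEquiv' : Matrix ι ι F ≃ₐ[F] ((ι → F) →ₗ[F] ι → F)) : Matrix ι ι F →*
    Module.End F (ι → F)).comp (Units.coeHom (Matrix ι ι F))

theorem actHom_apply (g : GL ι F) (v : ι → F) : actHom ι F g v = (g : Matrix ι ι F) *ᵥ v :=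
  Matrix.toLinAlgEquiv'_apply _ _

theorem actHom_inj {g : GL ι F} (h : actHom ι F g = 1) : g = 1 := by
  apply Units.ext
  have h1 : (Matrix.toLinAlgEquiv' : Matrix ι ι F ≃ₐ[F] ((ι → F) →ₗ[F] ι → F)) (g : Matrix ι ι F) = 1 := h
  rw [Units.val_one]
  exact (Matrix.toLinAlgEquiv' : Matrix ι ι F ≃ₐ[F] ((ι → F) →ₗ[F] ι → F)).injective (h1.trans (map_one _).symm)

section main

variable {P : Subgroup (GL ι F)} {G : Type*} [Group G] {S : Subgroup G} {g : G}

theorem seven_le (h2 : (2 : F) ≠ 0) (φ : G →* GL ι F) (hφ : Function.Injective φ) (h8 : Nat.card S = 8)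
    (hS : ∀ s ∈ S, s * s = 1) (hg : ∀ s ∈ S, g⁻¹ * s * g ∈ S) (hg7 : g ^ 7 = 1)
    (hfix : ∀ s ∈ S, g⁻¹ * s * g = s → s = 1) : 7 ≤ Fintype.card ι := by
  have hfin : Finite S := Nat.finite_of_card_ne_zero (by omega)
  obtain ⟨s₀, hs₀⟩ : ∃ s : S, s ≠ 1 := by
    have : Nontrivial S := (Finite.one_lt_card_iff_nontrivial).1 (by omega)
    exact exists_ne 1
  obtain ⟨χ, hχ, v, hv, hwt⟩ := exists_wt ((actHom ι F).comp φ) h2 hS s₀.2 (fun h => hs₀ (Subtype.ext
    (hφ (by rw [actHom_inj h, Subgroup.coe_one, map_one]))))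
  have h := bound ((actHom ι F).comp φ) h2 hS hg hg7 hfix hχ (J := Unit) (b := fun _ => v)
    (LinearIndependent.of_subsingleton (R := F) () hv) (fun _ s => hwt s)
  rwa [Module.finrank_fintype_fun_eq_card, Fintype.card_unit, mul_one] at h

theorem fourteen_le (h2 : (2 : F) ≠ 0) (φ : G →* GL ι F) (hφ : Function.Injective φ) {f : (ι → F) → (ι → F) → F}
    (hf : IsSymplecticForm f) (hφf : ∀ x u v, f ((φ x : Matrix ι ι F) *ᵥ u) ((φ x : Matrix ι ι F) *ᵥ v) = f u v)
    (h8 : Nat.card S = 8)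
    (hS : ∀ s ∈ S, s * s = 1) (hg : ∀ s ∈ S, g⁻¹ * s * g ∈ S) (hg7 : g ^ 7 = 1)
    (hfix : ∀ s ∈ S, g⁻¹ * s * g = s → s = 1) : 14 ≤ Fintype.card ι := by
  classical
  have hfin : Finite S := Nat.finite_of_card_ne_zero (by omega)
  have := Fintype.ofFinite S
  obtain ⟨s₀, hs₀⟩ : ∃ s : S, s ≠ 1 := by
    have : Nontrivial S := (Finite.one_lt_card_iff_nontrivial).1 (by omega)
    exact exists_ne 1
  set ρ := (actHom ι F).comp φ with hρ
  have hρf : ∀ x u v, f (ρ x u) (ρ x v) = f u v := by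
    intro x u v
    rw [hρ, MonoidHom.comp_apply, actHom_apply, actHom_apply, hφf]
  obtain ⟨χ, hχ, v, hv, hwt⟩ := exists_wt ρ h2 hS s₀.2 (fun h => hs₀ (Subtype.ext
    (hφ (by rw [actHom_inj h, Subgroup.coe_one, map_one]))))
  obtain ⟨w₀, hw₀⟩ := (hf.nondegenerate v hv).2
  have hχ2 : ∀ s : S, χ s * χ s = 1 := by
    intro s
    rw [← map_mul]
    have : s * s = 1 := Subtype.ext (hS s s.2)
    rw [this, map_one]
  have hinv : ∀ s : S, s⁻¹ = s := fun s => inv_eq_of_mul_eq_one_left (Subtype.ext (hS s s.2))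
  set w := ∑ s : S, χ s • ρ s w₀ with hw
  have hww : ∀ t : S, ρ t w = χ t • w := by
    intro t
    have htt : ∀ s : S, t * (t * s) = s := fun s => by
      have : t * t = 1 := Subtype.ext (hS t t.2)
      rw [← mul_assoc, this, one_mul]
    calc ρ t w = ∑ s : S, χ s • ρ ((t * s : S) : G) w₀ := by
          rw [hw, map_sum]
          refine Finset.sum_congr rfl fun s _ => ?_
          rw [map_smul, ← Module.End.mul_apply, ← map_mul, Subgroup.coe_mul]
      _ = ∑ s : S, χ (t * s) • ρ ((t * (t * s) : S) : G) w₀ :=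
          (Equiv.sum_comp (Equiv.mulLeft t) fun s : S => χ s • ρ ((t * s : S) : G) w₀).symm
      _ = χ t • w := by
          rw [hw, Finset.smul_sum]
          refine Finset.sum_congr rfl fun s _ => ?_
          rw [htt, map_mul, smul_smul]
  have hfw : f v w ≠ 0 := by
    have h3 : f v w = ∑ s : S, f v (χ s • ρ s w₀) := by
      rw [hw]
      exact map_sum (AddMonoidHom.mk' (f v) (hf.bilinear.add_right v)) _ _
    have h4 : ∀ s : S, f v (χ s • ρ s w₀) = f v w₀ := by
      intro s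
      rw [hf.bilinear.smul_right]
      have h5 : f v (ρ s w₀) = χ s * f v w₀ := by
        have h6 := hρf s (ρ s v) w₀
        have h7 : ρ s (ρ s v) = v := by
          rw [← Module.End.mul_apply, ← map_mul, hS s s.2, map_one, Module.End.one_apply]
        rw [h7] at h6
        rw [h6, hwt, hf.bilinear.smul_left]
      rw [h5, ← mul_assoc, hχ2, one_mul]
    rw [h3, Finset.sum_congr rfl fun s _ => h4 s, Finset.sum_const, Finset.card_univ, ← Nat.card_eq_fintype_card, h8,
      nsmul_eq_mul]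
    refine mul_ne_zero ?_ hw₀
    have : ((8 : ℕ) : F) = 2 ^ 3 := by norm_num
    rw [this]
    exact pow_ne_zero 3 h2
  have hlin : LinearIndependent F ![v, w] := by
    rw [LinearIndependent.pair_iff]
    intro a b hab
    have h3 : f v (a • v + b • w) = b * f v w := by
      rw [hf.bilinear.add_right, hf.bilinear.smul_right, hf.bilinear.smul_right, hf.alternating, mul_zero, zero_add]
    have h4 : f v 0 = 0 := by
      have h5 := hf.bilinear.smul_right 0 v 0
      rwa [smul_zero, zero_mul] at h5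
    rw [hab, h4] at h3
    have hb : b = 0 := (mul_eq_zero.1 h3.symm).resolve_right hfw
    rw [hb, zero_smul, add_zero] at hab
    exact ⟨(smul_eq_zero.1 hab).resolve_right hv, hb⟩
  have h := bound ρ h2 hS hg hg7 hfix hχ (b := ![v, w]) hlin (fun j s => by
    fin_cases j
    · exact hwt s
    · exact hww s)
  rw [Module.finrank_fintype_fun_eq_card, Fintype.card_fin] at h
  omega

end main

theorem two_ne_zero_of_char [CharP F 3] : (2 : F) ≠ 0 := by
  intro h
  have h1 : ((2 : ℕ) : F) = 0 := by exact_mod_cast h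
  have h3 := (CharP.cast_eq_zero_iff F 3 2).1 h1
  omega

variable [Finite F] {P : Subgroup (GL ι F)} {K : Type v} [Field K] [Fintype K] {m : ℕ}

open Cfsg.Agent.H905.Md in
theorem exists_hom [CharP F 3] (hC : Core P) (hm : 1 ≤ m) (hK : Fintype.card K = 3 ^ (2 * m + 1))
    (e : Soc P ≃* ↥(Cfsg.Lie.twistedG2 K (3 ^ m))) :
    ∃ φ : ↥(Cfsg.Lie.twistedG2 K (3 ^ m)) →* GL ι F, φ.range = P ∧ Function.Injective φ := by
  have : Fact (Nat.Prime 3) := ⟨Nat.prime_three⟩
  obtain ⟨φ, hφ, hk, -⟩ := exists_cover (p := 3) hC.perfect e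
    (Cfsg.Agent.ChevalleyStructure.Ree.Perfect.commutator_eq_top hK hm)
    (fun r hr hne => by
      rcases lt_trichotomy r 3 with h | h | h
      · have h2 : r = 2 := by
          have := hr.two_le
          omega
        subst h2
        exact Cfsg.Agent.S2113.noPCov_two hm hK
      · exact absurd h hne
      · have : Fact r.Prime := ⟨hr⟩
        exact Cfsg.Agent.H67.NoPCov.of_cyclic_sylow hr fun P => Cfsg.Agent.S1156.result hm hK h P)
    (πG := MonoidHom.id _) Function.surjective_id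
    (by rw [(MonoidHom.ker_eq_bot_iff _).2 Function.injective_id]; exact bot_le)
  refine ⟨φ, hφ, ?_⟩
  rw [← MonoidHom.ker_eq_bot_iff]
  rw [(MonoidHom.ker_eq_bot_iff (MonoidHom.id _)).2 Function.injective_id] at hk
  exact le_bot_iff.1 hk

/-- **Ree groups in characteristic three**: the degree is at least 7. -/
theorem ree_seven [CharP F 3] (hC : Core P) (hm : 1 ≤ m) (hK : Fintype.card K = 3 ^ (2 * m + 1))
    (e : Soc P ≃* ↥(Cfsg.Lie.twistedG2 K (3 ^ m))) : 7 ≤ Fintype.card ι := by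
  obtain ⟨φ, -, hφ⟩ := exists_hom hC hm hK e
  obtain ⟨S, g, h8, hS, hg, hg7, hfix⟩ := ree_data (K := K) hm hK
  exact seven_le (two_ne_zero_of_char) φ hφ h8 hS hg hg7 hfix

/-- **Ree groups in characteristic three**: no symplectic module of degree less than 14. -/
theorem ree_fixA [CharP F 3] (hC : Core P) (hA : FixA P) (hm : 1 ≤ m) (hK : Fintype.card K = 3 ^ (2 * m + 1))
    (e : Soc P ≃* ↥(Cfsg.Lie.twistedG2 K (3 ^ m))) : 14 ≤ Fintype.card ι := by
  obtain ⟨φ, hr, hφ⟩ := exists_hom hC hm hK e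
  obtain ⟨S, g, h8, hS, hg, hg7, hfix⟩ := ree_data (K := K) hm hK
  obtain ⟨f, hf, hPf⟩ := hA
  refine fourteen_le (two_ne_zero_of_char) φ hφ hf (fun x u v => hPf _ ⟨φ x, ?_, rfl⟩ u v) h8 hS hg hg7 hfix
  rw [← hr]
  exact ⟨x, rfl⟩

theorem ree_six [CharP F 3] (hC : Core P) (hm : 1 ≤ m) (hK : Fintype.card K = 3 ^ (2 * m + 1))
    (e : Soc P ≃* ↥(Cfsg.Lie.twistedG2 K (3 ^ m))) (hn : Fintype.card ι = 6) : False := by
  have := ree_seven hC hm hK e
  omega

theorem ree_fixA_false [CharP F 3] (hC : Core P) (hA : FixA P) (hm : 1 ≤ m)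
    (hK : Fintype.card K = 3 ^ (2 * m + 1)) (e : Soc P ≃* ↥(Cfsg.Lie.twistedG2 K (3 ^ m)))
    (hn : Fintype.card ι ≤ 12) : False := by
  have := ree_fixA hC hA hm hK e
  omega

end Cfsg.Agent.H708.ReeSix
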