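import Cfsg.Agent.H708.WtLoc
import Cfsg.Agent.H708.ReeGen
import Cfsg.Agent.H708.ReeSix

/-!
# Ree groups in characteristic three: degree at most 13 is degree 7 (helper708)

`P ≤ GL(ι, F)` a core (`H915.LD.Core`), `char F = 3`, `P` modulo scalars a Ree group `²G₂(3^(2m+1))`, `m ≥ 1`.

* **`ree_eq_seven`** : `|ι| ≤ 13 → |ι| = 7`.

Let `E` be a Sylow 2-subgroup (order 8), `Y` the torus of order `(q + 1) / 4`. If `8 ≤ |ι| ≤ 13`, the non-trivial weights of
`E` have multiplicity one, so `E` fixes a vector `c ≠ 0`, and `Y` centralises the fixed vectors of the four-group that it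
centralises.  Hence the pointwise stabiliser `M` of `C_V(E)` contains `E`, `Y`, it is normalised by `N(E)`, and `G = M B`
(`ReeGen.factor`).  A functional fixed by the Sylow 3-subgroup is then constant on the orbit of `c`, so it is `G`-invariant.
-/

set_option autoImplicit false
set_option linter.unusedSectionVars false

namespace Cfsg.Agent.H708.ReeSix

open Cfsg Cfsg.Geo Matrix Cfsg.Agent.H915.LD
open Cfsg.Agent.LieRecognition

universe u v

theorem exists_dual_fixed {F : Type*} [Field F] [Finite F] {p : ℕ} [hp : Fact p.Prime] [CharP F p] {V : Type*}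
    [AddCommGroup V] [Module F V] [FiniteDimensional F V] [Nontrivial V] {Q : Type*} [Group Q] (hQ : IsPGroup p Q)
    (ρ : Q →* Module.End F V) : ∃ f : Module.Dual F V, f ≠ 0 ∧ ∀ x v, f (ρ x v) = f v := by
  classical
  let act : MulAction Q (Module.Dual F V) :=
    { smul := fun x f => f ∘ₗ ρ x⁻¹
      one_smul := fun f => by
        change f ∘ₗ ρ (1 : Q)⁻¹ = f
        rw [inv_one, map_one]
        rfl
      mul_smul := fun x y f => by
        change f ∘ₗ ρ (x * y)⁻¹ = (f ∘ₗ ρ y⁻¹) ∘ₗ ρ x⁻¹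
        rw [_root_.mul_inv_rev, map_mul]
        rfl }
  have hsm : ∀ (x : Q) (f : Module.Dual F V) (v : V), (x • f) v = f (ρ x⁻¹ v) := fun _ _ _ => rfl
  have hfinV : Finite V := Module.finite_of_finite F
  have hfinD : Finite (Module.Dual F V) := Module.finite_of_finite F
  have hcard : p ∣ Nat.card (Module.Dual F V) := by
    have h1 := Module.natCard_eq_pow_finrank (K := F) (V := Module.Dual F V)
    rw [h1, Subspace.dual_finrank_eq]
    have h2 : 0 < Module.finrank F V := Module.finrank_pos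
    have h3 : p ∣ Nat.card F := by
      have := Fintype.ofFinite F
      obtain ⟨n, -, hn⟩ := FiniteField.card F p
      rw [Nat.card_eq_fintype_card, hn]
      exact dvd_pow_self p n.pos.ne'
    exact h3.trans (dvd_pow_self _ h2.ne')
  obtain ⟨f, hf, hne⟩ := hQ.exists_fixed_point_of_prime_dvd_card_of_fixed_point (Module.Dual F V) hcard
    (a := 0) (fun x => by ext v; rw [hsm]; rfl)
  refine ⟨f, fun h => hne h.symm, fun x v => ?_⟩
  have h1 := hf x⁻¹
  have h2 := congrArg (fun g : Module.Dual F V => g v) h1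
  simp only [hsm, inv_inv] at h2
  exact h2

/-- an element of order 7 for a given Sylow 2-subgroup -/
theorem ree_data' {K : Type*} [Field K] [Fintype K] {m : ℕ} (hm : 1 ≤ m) (hK : Fintype.card K = 3 ^ (2 * m + 1))
    (S : Sylow 2 ↥(Cfsg.Lie.twistedG2 K (3 ^ m))) :
    ∃ g : ↥(Cfsg.Lie.twistedG2 K (3 ^ m)), (∀ s ∈ (S : Subgroup ↥(Cfsg.Lie.twistedG2 K (3 ^ m))), g⁻¹ * s * g ∈
      (S : Subgroup ↥(Cfsg.Lie.twistedG2 K (3 ^ m)))) ∧ g ^ 7 = 1 ∧
        ∀ s ∈ (S : Subgroup ↥(Cfsg.Lie.twistedG2 K (3 ^ m))), g⁻¹ * s * g = s → s = 1 := by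
  obtain ⟨a, haH, ha1, ha2⟩ := Cfsg.Agent.S1157.exists_involution hK
  obtain ⟨h8, hS⟩ := (Cfsg.Agent.S1152.result hK a haH ha1 ha2).2 S
  obtain ⟨hc, hn⟩ := Cfsg.Agent.S1157.result hm hK S
  have : Fact (Nat.Prime 7) := ⟨by norm_num⟩
  have hfinN : Finite (Subgroup.normalizer ((S : Subgroup ↥(Cfsg.Lie.twistedG2 K (3 ^ m))) :
      Set ↥(Cfsg.Lie.twistedG2 K (3 ^ m)))) := Nat.finite_of_card_ne_zero (by omega)
  obtain ⟨⟨g, hgN⟩, hg⟩ := exists_prime_orderOf_dvd_card' (G := Subgroup.normalizer ((S : Subgroup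
    ↥(Cfsg.Lie.twistedG2 K (3 ^ m))) : Set ↥(Cfsg.Lie.twistedG2 K (3 ^ m)))) 7 (by rw [hn]; norm_num)
  rw [Subgroup.orderOf_mk] at hg
  have hg7 : g ^ 7 = 1 := by rw [← hg, pow_orderOf_eq_one]
  have hgN' : ∀ s ∈ (S : Subgroup ↥(Cfsg.Lie.twistedG2 K (3 ^ m))), g⁻¹ * s * g ∈
      (S : Subgroup ↥(Cfsg.Lie.twistedG2 K (3 ^ m))) := by
    intro s hs
    have h1 := (Subgroup.mem_normalizer_iff.1 (inv_mem hgN) s).1 hs
    rwa [inv_inv] at h1
  refine ⟨g, hgN', hg7, fix_trivial h8 hgN' hg7 ?_⟩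
  by_contra h
  push Not at h
  have h1 : g ∈ Subgroup.centralizer ((S : Subgroup ↥(Cfsg.Lie.twistedG2 K (3 ^ m))) :
      Set ↥(Cfsg.Lie.twistedG2 K (3 ^ m))) := by
    rw [Subgroup.mem_centralizer_iff]
    intro s hs
    have h2 := h s hs
    calc s * g = g * (g⁻¹ * s * g) := by group
      _ = g * s := by rw [h2]
  rw [hc] at h1
  have h2 := hS g h1
  have h3 : orderOf g ∣ 2 := orderOf_dvd_of_pow_eq_one (by rw [pow_two, h2])
  rw [hg] at h3
  have := Nat.le_of_dvd (by norm_num) h3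
  omega

section base

variable {F : Type*} [Field F] {ι : Type} [Fintype ι] [DecidableEq ι]

/-- the torus `⟨f t₀ ^ 2⟩` centralises the fixed vectors of the four-group `V` -/
theorem torus_fix [CharP F 3] {G : Type*} [Group G] [Finite G] {L : Type*} [Group L] {q : ℕ} {a : G} {f : L →* G}
    {i j u t₀ : L} {T : Subgroup L} (S : ReeTorusB.Setup G L q a f i j u t₀ T) (φ : G →* GL ι F)
    (hn : Fintype.card ι < 14) {g : G} (hg : ∀ s ∈ E8 S, g⁻¹ * s * g ∈ E8 S) (hg7 : g ^ 7 = 1)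
    (hfix : ∀ s ∈ E8 S, g⁻¹ * s * g = s → s = 1) {v : ι → F}
    (hv : ∀ b ∈ S.V, (φ b : Matrix ι ι F) *ᵥ v = v) : (φ (f t₀ ^ 2) : Matrix ι ι F) *ᵥ v = v := by
  classical
  have h3p : Fact (Nat.Prime 3) := ⟨Nat.prime_three⟩
  set κ : F →+* AlgebraicClosure F := algebraMap F (AlgebraicClosure F) with hκ
  have hinj : Function.Injective κ := κ.injective
  have : CharP (AlgebraicClosure F) 3 := charP_of_injective_ringHom hinj 3
  set φ' : G →* GL ι (AlgebraicClosure F) := (Matrix.GeneralLinearGroup.map κ).comp φ with hφ'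
  have hφv : ∀ (x : G) (w : ι → F), (φ' x : Matrix ι ι (AlgebraicClosure F)) *ᵥ (κ ∘ w) =
      κ ∘ ((φ x : Matrix ι ι F) *ᵥ w) := by
    intro x w
    have h1 : (φ' x : Matrix ι ι (AlgebraicClosure F)) = (φ x : Matrix ι ι F).map κ := rfl
    rw [h1]
    funext k
    exact (RingHom.map_mulVec κ (φ x : Matrix ι ι F) w k).symm
  -- an element of order three of `N(V)`
  have hfinN : Finite S.N := inferInstance
  obtain ⟨⟨r, hrN⟩, hr⟩ := exists_prime_orderOf_dvd_card' (G := S.N) 3 (by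
    rw [S.card_N]
    exact Dvd.dvd.mul_right (by norm_num) _)
  rw [Subgroup.orderOf_mk] at hr
  have hr3 : r ^ 3 = 1 := by rw [← hr, pow_orderOf_eq_one]
  have hyA : f t₀ ^ 2 ∈ S.A := Subgroup.mem_zpowers _
  obtain ⟨k, hk⟩ : ∃ k : ℕ, r⁻¹ * (f t₀ ^ 2) * r = (f t₀ ^ 2) ^ k := by
    have h1 : r⁻¹ * (f t₀ ^ 2) * r ∈ Subgroup.zpowers (f t₀ ^ 2) := S.N_norm_A hrN hyA
    rw [← mem_powers_iff_mem_zpowers] at h1
    obtain ⟨k, hk⟩ := h1
    exact ⟨k, hk.symm⟩
  have h := fix_of_loc ((actHom ι (AlgebraicClosure F)).comp φ') (S := E8 S) (V := S.V)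
    (two_ne_zero_of_char (F := AlgebraicClosure F)) (by rw [Module.finrank_fintype_fun_eq_card]; exact hn)
    (fun s hs => E8_sq S hs) hg hg7 hfix (V_le_E8 S) (fj_mem_E8 S) (fun x hx => E8_cov S hx) (y := f t₀ ^ 2)
    (fun v hv => (S.A_comm_V hyA hv).symm)
    (by
      intro h0
      exact S.not_three_dvd hyA ((CharP.cast_eq_zero_iff (AlgebraicClosure F) 3 _).1 h0))
    (S.odd_of_mem_A hyA)
    (by
      have h1 := S.ht.inv t₀ S.t0_mem
      have h2 : f j * f t₀ * (f j)⁻¹ = (f t₀)⁻¹ := by rw [← map_mul, ← map_inv, ← map_mul, h1, map_inv]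
      calc f j * f t₀ ^ 2 * (f j)⁻¹ = (f j * f t₀ * (f j)⁻¹) ^ 2 := (conj_pow (i := 2)).symm
        _ = (f t₀ ^ 2)⁻¹ := by rw [h2, inv_pow])
    hr3
    (fun v hv => by
      have := S.N_conj (S.N.inv_mem hrN) hv
      rwa [inv_inv] at this)
    hk
    (fun n hn' => by
      by_contra hne
      have hyn : (f t₀ ^ 2) ^ n ∈ S.A := S.A.pow_mem hyA n
      apply S.no3 r hr ((f t₀ ^ 2) ^ n) (S.odd_of_mem_A hyn) (S.not_three_dvd hyn) hne
      calc r * (f t₀ ^ 2) ^ n = r * (r⁻¹ * (f t₀ ^ 2) ^ n * r) := by rw [hn']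
        _ = (f t₀ ^ 2) ^ n * r := by group)
    (v := κ ∘ v)
    (fun b hb => by
      rw [MonoidHom.comp_apply, actHom_apply, hφv, hv b hb])
  rw [MonoidHom.comp_apply, actHom_apply, hφv] at h
  funext k'
  exact hinj (congrFun h k')

end base

variable {F : Type u} [Field F] [Finite F] {ι : Type} [Fintype ι] [DecidableEq ι]
variable {P : Subgroup (GL ι F)} {K : Type v} [Field K] [Fintype K] {m : ℕ}

/-- **Ree groups in characteristic three**: degree at most 13 implies degree 7. -/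
theorem ree_eq_seven [CharP F 3] (hC : Core P) (hm : 1 ≤ m) (hK : Fintype.card K = 3 ^ (2 * m + 1))
    (e : Soc P ≃* ↥(Cfsg.Lie.twistedG2 K (3 ^ m))) (hn : Fintype.card ι ≤ 13) : Fintype.card ι = 7 := by
  classical
  have h3p : Fact (Nat.Prime 3) := ⟨Nat.prime_three⟩
  have h7 := ree_seven hC hm hK e
  by_contra hne
  have h8 : 8 ≤ Fintype.card ι := by omega
  obtain ⟨φ, hr, hφ⟩ := exists_hom hC hm hK e
  have hfin : Finite ↥(Cfsg.Lie.twistedG2 K (3 ^ m)) := by
    apply Nat.finite_of_card_ne_zero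
    rw [Cfsg.Agent.LieRecognition.ReeFinal.card hK]
    have h1 : 0 < 3 ^ (2 * m + 1) := by positivity
    have h2 : 0 < 3 ^ (2 * m + 1) - 1 := by
      have : 3 ^ 1 ≤ 3 ^ (2 * m + 1) := Nat.pow_le_pow_right (by norm_num) (by omega)
      omega
    positivity
  have hch : CharP K 3 := ReeAbs.charP_three hK
  have hq27 : 27 ≤ 3 ^ (2 * m + 1) := by
    calc 27 = 3 ^ 3 := by norm_num
      _ ≤ 3 ^ (2 * m + 1) := Nat.pow_le_pow_right (by norm_num) (by omega)
  obtain ⟨U, h, n, D⟩ : ∃ U h n, ReeAbs.Data (K := K) (G := ↥(Cfsg.Lie.twistedG2 K (3 ^ m))) m U h n :=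
    ⟨_, _, _, ReeFinal.data hK⟩
  obtain ⟨f, t₀, S⟩ := ReeSetup.exists_setup D hK (Cfsg.Agent.S1116.result hK hm) (ReeSetup.local_of_data D hK)
  -- the Sylow 2-subgroup
  have hE8 := card_E8 S
  have hE2 : IsPGroup 2 (E8 S) := IsPGroup.of_card (n := 3) (by rw [hE8]; norm_num)
  obtain ⟨Q, hQ⟩ := hE2.exists_le_sylow
  have hQ8 : Nat.card Q = 8 := (D.sylow_two hK (ReeFinal.card hK) Q).1
  have hEQ : E8 S = (Q : Subgroup ↥(Cfsg.Lie.twistedG2 K (3 ^ m))) := by
    apply Subgroup.eq_of_le_of_card_ge hQ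
    rw [hE8]
    exact hQ8.le
  obtain ⟨g, hg, hg7, hfix⟩ := ree_data' hm hK Q
  rw [← hEQ] at hg hfix
  have h2F : (2 : F) ≠ 0 := two_ne_zero_of_char
  set ρ := (actHom ι F).comp φ with hρ
  have hρa : ∀ x v, ρ x v = (φ x : Matrix ι ι F) *ᵥ v := fun x v => by
    rw [hρ, MonoidHom.comp_apply, actHom_apply]
  -- the pointwise stabiliser of the fixed space
  let M : Subgroup ↥(Cfsg.Lie.twistedG2 K (3 ^ m)) :=
    { carrier := {x | ∀ v, (∀ s ∈ E8 S, ρ s v = v) → ρ x v = v}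
      one_mem' := fun v _ => by rw [map_one, Module.End.one_apply]
      mul_mem' := fun {x y} hx hy v hv => by
        rw [map_mul, Module.End.mul_apply, hy v hv, hx v hv]
      inv_mem' := fun {x} hx v hv => by
        have h1 : ρ x⁻¹ (ρ x v) = v := by
          rw [← Module.End.mul_apply, ← map_mul, inv_mul_cancel, map_one, Module.End.one_apply]
        rwa [hx v hv] at h1 }
  have hM : ∀ x, x ∈ M ↔ ∀ v, (∀ s ∈ E8 S, ρ s v = v) → ρ x v = v := fun _ => Iff.rfl
  have hEM : E8 S ≤ M := fun x hx v hv => hv x hx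
  have hYM : f t₀ ^ 2 ∈ M := by
    intro v hv
    rw [hρa]
    refine torus_fix S φ (by omega) hg hg7 hfix fun b hb => ?_
    rw [← hρa]
    exact hv b (V_le_E8 S hb)
  have hNM : ∀ x, (∀ s ∈ E8 S, x⁻¹ * s * x ∈ E8 S) → ∀ k ∈ M, x * k * x⁻¹ ∈ M := by
    intro x hx k hk v hv
    have hx' : ∀ s ∈ E8 S, x * s * x⁻¹ ∈ E8 S := by
      intro s hs
      have hinj : Function.Injective fun s : E8 S => (⟨x⁻¹ * s * x, hx s s.2⟩ : E8 S) := by
        intro a b hab
        have h1 : x⁻¹ * (a : ↥(Cfsg.Lie.twistedG2 K (3 ^ m))) * x = x⁻¹ * b * x := congrArg Subtype.val hab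
        exact Subtype.ext (mul_left_cancel (mul_right_cancel h1))
      obtain ⟨s', hs'⟩ := (Finite.surjective_of_injective hinj) ⟨s, hs⟩
      have h1 : x⁻¹ * (s' : ↥(Cfsg.Lie.twistedG2 K (3 ^ m))) * x = s := congrArg Subtype.val hs'
      rw [← h1]
      have : x * (x⁻¹ * (s' : ↥(Cfsg.Lie.twistedG2 K (3 ^ m))) * x) * x⁻¹ = s' := by group
      rw [this]
      exact s'.2
    have h1 : ∀ s ∈ E8 S, ρ s (ρ x⁻¹ v) = ρ x⁻¹ v := by
      intro s hs
      have h2 : s * x⁻¹ = x⁻¹ * (x * s * x⁻¹) := by group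
      rw [← Module.End.mul_apply, ← map_mul, h2, map_mul, Module.End.mul_apply, hv _ (hx' s hs)]
    rw [map_mul, map_mul, Module.End.mul_apply, Module.End.mul_apply, hk _ h1, ← Module.End.mul_apply, ← map_mul,
      mul_inv_cancel, map_one, Module.End.one_apply]
  -- maximality of the centraliser of an involution of `PSL₂`
  have hco : IsCoatom (Subgroup.centralizer ({ReePSL.pr K Cfsg.Agent.ClassicalGeometry.SLTwoFour.w} :
      Set (ReePSL.L K))) := by
    have h2K : (2 : K) ≠ 0 := by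
      intro h0
      have h1 : ((2 : ℕ) : K) = 0 := by exact_mod_cast h0
      have h3 := (CharP.cast_eq_zero_iff K 3 2).1 h1
      omega
    exact Cfsg.Agent.LFourB.KSL.isCoatom_centralizer h2K (by rw [hK]; omega) S.hk.i_ne S.hk.ii
  have hfac := factor D hK S hEM hYM hNM (by omega) hco hg hg7 hfix
  -- the fixed vector
  obtain ⟨c, hc0, hc⟩ := exists_fixed ρ h2F hE8 (fun s hs => E8_sq S hs) hg hg7 hfix
    (by rw [Module.finrank_fintype_fun_eq_card]; omega) (by rw [Module.finrank_fintype_fun_eq_card]; exact h8)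
  have hcM : ∀ k ∈ M, ρ k c = c := fun k hk => hk c hc
  -- the functional
  have hne' : Nonempty ι := Fintype.card_pos_iff.1 (by omega)
  have hU3 : IsPGroup 3 (ReeSylowThree.uSub D) := by
    apply IsPGroup.of_card (n := (2 * m + 1) * 3)
    rw [ReeSylowThree.card_uSub D, hK, pow_mul]
  obtain ⟨F₀, hF₀, hF₀U⟩ := exists_dual_fixed (p := 3) hU3 (ρ.comp (ReeSylowThree.uSub D).subtype)
  have hUv : ∀ t u v w, F₀ (ρ (U t u v) w) = F₀ w := fun t u v w => hF₀U ⟨U t u v, t, u, v, rfl⟩ w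
  have hhc : ∀ a, ρ (h a) c = c := fun a => hcM _ (cent_le_of S hEM hYM hNM (by omega) hco (D.h_comm _ _))
  have hconst : ∀ x, F₀ (ρ x c) = F₀ c := by
    intro x
    obtain ⟨k, hk, b, hb, hx⟩ := hfac x⁻¹
    obtain ⟨t, u, v, a, hbe⟩ := (mem_bSub D).1 ((ReeSplit.bSub D).inv_mem hb)
    have h1 : x = U t u v * h a * k⁻¹ := by
      rw [← hbe, ← _root_.mul_inv_rev, ← hx, inv_inv]
    rw [h1, map_mul, map_mul, Module.End.mul_apply, Module.End.mul_apply, hcM _ (M.inv_mem hk), hhc, hUv]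
  -- irreducibility
  have hirr : ∀ W : Submodule F (ι → F), (∀ x, ∀ w ∈ W, ρ x w ∈ W) → W = ⊥ ∨ W = ⊤ := by
    intro W hW
    apply hC.absIrred.1 W
    rintro _ ⟨y, hy, rfl⟩
    rw [SetLike.mem_coe, ← hr] at hy
    obtain ⟨x, rfl⟩ := hy
    rintro _ ⟨w, hw, rfl⟩
    rw [Matrix.toLin'_apply, ← hρa]
    exact hW x w hw
  let W : Submodule F (ι → F) :=
    { carrier := {v | ∀ x, F₀ (ρ x v) = F₀ v}
      add_mem' := fun {a b} ha hb x => by rw [map_add, map_add, map_add, ha, hb]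
      zero_mem' := fun x => by rw [map_zero]
      smul_mem' := fun r a ha x => by rw [map_smul, map_smul, map_smul, ha] }
  have hWtop : W = ⊤ := by
    rcases hirr W (fun x w hw y => by
      rw [← Module.End.mul_apply, ← map_mul, hw (y * x), hw x]) with h1 | h1
    · exfalso
      have h2 : c ∈ W := hconst
      rw [h1, Submodule.mem_bot] at h2
      exact hc0 h2
    · exact h1
  have hFinv : ∀ v x, F₀ (ρ x v) = F₀ v := by
    intro v
    have h1 : v ∈ W := by rw [hWtop]; exact Submodule.mem_top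
    exact h1
  rcases hirr (LinearMap.ker F₀) (fun x w hw => by
    rw [LinearMap.mem_ker] at hw ⊢
    rw [hFinv, hw]) with h1 | h1
  · have h2 := LinearMap.finrank_le_finrank_of_injective (LinearMap.ker_eq_bot.1 h1)
    rw [Module.finrank_fintype_fun_eq_card, Module.finrank_self] at h2
    omega
  · exact hF₀ (LinearMap.ker_eq_top.1 h1)

end Cfsg.Agent.H708.ReeSix
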