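import Mathlib

/-!
# Many classes of real elements under the automorphism group (helper708, S4851)

* `RF G n` : `G` has `n` real elements (conjugate to their inverses) in different `Aut(G)`-orbits.
* `RF.of_hom_orders` : from a subgroup with real elements of different orders.
* `RF.of_alt` : from a subgroup isomorphic to an alternating group of degree at least `2 n + 3`.
* `RF.of_family` : from a family of real elements, bounded fusion in `G`, and a bound for `|Out G|`.
* `card_conj_le` : bounded fusion from eigenvalues, projectively.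
-/

set_option autoImplicit false

namespace Cfsg.Agent.H708.RFam

/-- `G` has `n` real elements in different `Aut(G)`-orbits. -/
def RF (G : Type*) [Group G] (n : ℕ) : Prop :=
  ∃ f : Fin n → G, (∀ i, IsConj (f i) (f i)⁻¹) ∧ ∀ i j, ∀ φ : MulAut G, φ (f i) = f j → i = j

theorem RF.congr {G H : Type*} [Group G] [Group H] (e : G ≃* H) {n : ℕ} (h : RF G n) : RF H n := by
  obtain ⟨f, hf, hij⟩ := h
  refine ⟨fun i => e (f i), fun i => ?_, fun i j φ hφ => ?_⟩
  · rw [← map_inv]
    exact e.toMonoidHom.map_isConj (hf i)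
  · refine hij i j ((e.trans φ).trans e.symm) ?_
    change e.symm (φ (e (f i))) = f j
    rw [hφ, MulEquiv.symm_apply_apply]

theorem RF.mono {G : Type*} [Group G] {n m : ℕ} (h : RF G n) (hmn : m ≤ n) : RF G m := by
  obtain ⟨f, hf, hij⟩ := h
  refine ⟨fun i => f (Fin.castLE hmn i), fun i => hf _, fun i j φ hφ => ?_⟩
  exact Fin.castLE_injective hmn (hij _ _ φ hφ)

/-- Real elements of different orders in a group mapping injectively to `G`. -/
theorem RF.of_hom_orders {A G : Type*} [Group A] [Group G] (g : A →* G) (hg : Function.Injective g)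
    {n : ℕ} (f : Fin n → A) (hf : ∀ i, IsConj (f i) (f i)⁻¹)
    (ho : ∀ i j, orderOf (f i) = orderOf (f j) → i = j) : RF G n := by
  refine ⟨fun i => g (f i), fun i => ?_, fun i j φ hφ => ho i j ?_⟩
  · rw [← map_inv]
    exact g.map_isConj (hf i)
  · have h1 : orderOf (φ (g (f i))) = orderOf (g (f i)) := φ.orderOf_eq _
    rw [hφ, orderOf_injective g hg, orderOf_injective g hg] at h1
    exact h1.symm

/-- `G` contains an alternating group of large degree. -/
theorem RF.of_alt {G : Type*} [Group G] (n m : ℕ) (hm : 2 * n + 3 ≤ m)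
    (g : alternatingGroup (Fin m) →* G) (hg : Function.Injective g) : RF G n := by
  have hlt : ∀ j : Fin n, 2 * (j : ℕ) + 2 < m := fun j => by have := j.2; omega
  let c : Fin n → Equiv.Perm (Fin m) := fun j => Fin.cycleRange ⟨2 * (j : ℕ) + 2, hlt j⟩
  have hm0 : NeZero m := ⟨by omega⟩
  have hsign : ∀ j, c j ∈ alternatingGroup (Fin m) := by
    intro j
    rw [Equiv.Perm.mem_alternatingGroup]
    change Equiv.Perm.sign (Fin.cycleRange _) = 1
    rw [Fin.sign_cycleRange]
    exact Even.neg_one_pow ⟨(j : ℕ) + 1, by simp; ring⟩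
  have htype : ∀ j, (c j).cycleType = {2 * (j : ℕ) + 3} := by
    intro j
    change (Fin.cycleRange _).cycleType = _
    rw [Fin.cycleType_cycleRange]
    intro h
    have h2 := congrArg Fin.val h
    simp at h2
  have hord : ∀ j, orderOf (c j) = 2 * (j : ℕ) + 3 := by
    intro j
    rw [← Equiv.Perm.lcm_cycleType, htype]
    simp
  have hsupp : ∀ j, (c j).support.card = 2 * (j : ℕ) + 3 := by
    intro j
    rw [← Equiv.Perm.sum_cycleType, htype]
    simp
  refine RF.of_hom_orders g hg (fun j => ⟨c j, hsign j⟩) (fun j => ?_) fun i j hij => ?_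
  · refine alternatingGroup.isConj_of ?_ ?_
    · change IsConj (c j) (c j)⁻¹
      rw [Equiv.Perm.isConj_iff_cycleType_eq, Equiv.Perm.cycleType_inv]
    · change (c j).support.card + 2 ≤ _
      rw [hsupp, Fintype.card_fin]
      have := j.2
      omega
  · rw [← Subgroup.orderOf_coe, ← Subgroup.orderOf_coe] at hij
    change orderOf (c i) = orderOf (c j) at hij
    rw [hord, hord] at hij
    apply Fin.ext
    omega

section family

variable {G : Type*} [Group G] [Finite G]

/-- The number of classes in an `Aut(G)`-orbit is at most `|Out(G)|`. -/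
theorem card_classes_le (x : G) {B : ℕ} (hB : (MulAut.conj : G →* MulAut G).range.index ≤ B) :
    (Set.range fun φ : MulAut G => ConjClasses.mk (φ x)).ncard ≤ B := by
  classical
  refine le_trans ?_ hB
  let F : (MulAut G ⧸ (MulAut.conj : G →* MulAut G).range) → ConjClasses G :=
    Quotient.lift (fun φ : MulAut G => ConjClasses.mk (φ x)) (by
      intro φ ψ h
      have h1 : φ⁻¹ * ψ ∈ (MulAut.conj : G →* MulAut G).range := QuotientGroup.leftRel_apply.1 h
      obtain ⟨g, hg⟩ := h1
      have h2 : ψ = φ * MulAut.conj g := by rw [hg]; group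
      rw [h2]
      change ConjClasses.mk (φ x) = ConjClasses.mk (φ (g * x * g⁻¹))
      rw [ConjClasses.mk_eq_mk_iff_isConj, map_mul, map_mul, map_inv]
      exact isConj_iff.2 ⟨φ g, rfl⟩)
  have h3 : (Set.range fun φ : MulAut G => ConjClasses.mk (φ x)) ⊆ Set.range F := by
    rintro _ ⟨φ, rfl⟩
    exact ⟨QuotientGroup.mk φ, rfl⟩
  have h4 : (Set.range F).ncard ≤ Nat.card (MulAut G ⧸ (MulAut.conj : G →* MulAut G).range) := by
    rw [← Set.image_univ]
    refine (Set.ncard_image_le Set.finite_univ).trans ?_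
    rw [Set.ncard_univ]
  exact (Set.ncard_le_ncard h3 (Set.toFinite _)).trans h4

/-- **Family lemma**. -/
theorem RF.of_family {I : Type*} [Fintype I] (f : I → G) (hf : ∀ i, IsConj (f i) (f i)⁻¹)
    (c B n : ℕ) (hc0 : 0 < c) (hc : ∀ i, {j : I | IsConj (f j) (f i)}.ncard ≤ c)
    (hB : (MulAut.conj : G →* MulAut G).range.index ≤ B) (hn : n * (c * B) ≤ Fintype.card I) :
    RF G n := by
  classical
  have hB0 : 0 < B := lt_of_lt_of_le (Nat.pos_of_ne_zero Subgroup.index_ne_zero_of_finite) hB
  let r : Setoid I :=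
    { r := fun i j => ∃ φ : MulAut G, φ (f i) = f j
      iseqv :=
        { refl := fun i => ⟨1, rfl⟩
          symm := by
            rintro i j ⟨φ, h⟩
            exact ⟨φ⁻¹, by rw [← h]; exact φ.symm_apply_apply _⟩
          trans := by
            rintro i j k ⟨φ, h⟩ ⟨ψ, h'⟩
            exact ⟨ψ * φ, by rw [← h', ← h]; rfl⟩ } }
  have hfib : ∀ q : Quotient r, (Finset.univ.filter fun i : I => (Quotient.mk r i) = q).card ≤ c * B := by
    intro q
    obtain ⟨i, rfl⟩ := Quotient.exists_rep q
    -- map to the classes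
    set s : Finset I := Finset.univ.filter fun j : I => (Quotient.mk r j) = Quotient.mk r i with hs
    have h1 : s.card ≤ c * (s.image fun j => ConjClasses.mk (f j)).card := by
      refine Finset.card_le_mul_card_image _ _ fun y hy => ?_
      obtain ⟨j, hj, rfl⟩ := Finset.mem_image.1 hy
      have h2 : ((s.filter fun a => ConjClasses.mk (f a) = ConjClasses.mk (f j) : Finset I) : Set I) ⊆
          {a : I | IsConj (f a) (f j)} := by
        intro a ha
        rw [Finset.mem_coe, Finset.mem_filter] at ha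
        exact ConjClasses.mk_eq_mk_iff_isConj.1 ha.2
      rw [← Set.ncard_coe_finset]
      exact (Set.ncard_le_ncard h2 (Set.toFinite _)).trans (hc j)
    have h3 : (s.image fun j => ConjClasses.mk (f j)).card ≤ B := by
      rw [← Set.ncard_coe_finset]
      refine (Set.ncard_le_ncard ?_ (Set.toFinite _)).trans (card_classes_le (f i) hB)
      intro y hy
      obtain ⟨j, hj, rfl⟩ := Finset.mem_image.1 (Finset.mem_coe.1 hy)
      have h4 : Quotient.mk r j = Quotient.mk r i := (Finset.mem_filter.1 hj).2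
      obtain ⟨φ, hφ⟩ := Quotient.exact h4.symm
      exact ⟨φ, by simp only [hφ]⟩
    exact h1.trans (Nat.mul_le_mul_left c h3)
  have hcard : Fintype.card I ≤ c * B * Fintype.card (Quotient r) := by
    rw [← Finset.card_univ, ← Finset.card_univ]
    exact Finset.card_le_mul_card_image_of_maps_to (f := fun i => Quotient.mk r i)
      (fun i _ => Finset.mem_univ _) _ fun q _ => hfib q
  have hle : n ≤ Fintype.card (Quotient r) := by
    have h5 : c * B * n ≤ c * B * Fintype.card (Quotient r) := by
      rw [mul_comm (c * B) n]; exact hn.trans hcard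
    exact Nat.le_of_mul_le_mul_left h5 (Nat.mul_pos hc0 hB0)
  obtain ⟨e⟩ : Nonempty (Fin n ↪ Quotient r) := by
    apply Function.Embedding.nonempty_of_card_le
    rw [Fintype.card_fin]
    exact hle
  refine ⟨fun k => f (e k).out, fun k => hf _, fun k l φ hφ => ?_⟩
  apply e.injective
  have h6 : Quotient.mk r (e k).out = Quotient.mk r (e l).out := Quotient.sound ⟨φ, hφ⟩
  rwa [Quotient.out_eq, Quotient.out_eq] at h6

end family

section eigenvalue

variable {ι K : Type*} [Fintype ι] [DecidableEq ι] [Field K]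

/-- Conjugate diagonal matrices have the same entries. -/
theorem exists_entry (R : GL ι K) (d d' : ι → K)
    (h : (R : Matrix ι ι K) * Matrix.diagonal d = Matrix.diagonal d' * (R : Matrix ι ι K)) (j : ι) :
    ∃ a, d j = d' a := by
  by_contra hcon
  push Not at hcon
  have h1 : ∀ a, (R : Matrix ι ι K) a j = 0 := by
    intro a
    have h2 := congrFun (congrFun h a) j
    rw [Matrix.mul_diagonal, Matrix.diagonal_mul, mul_comm] at h2
    have h3 : (d j - d' a) * (R : Matrix ι ι K) a j = 0 := by rw [sub_mul, h2, sub_self]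
    exact (mul_eq_zero.1 h3).resolve_left (sub_ne_zero.2 (hcon a))
  have h4 : ((R⁻¹ : GL ι K) : Matrix ι ι K) * (R : Matrix ι ι K) = 1 := by
    rw [← Units.val_mul, inv_mul_cancel, Units.val_one]
  have h5 := congrFun (congrFun h4 j) j
  rw [Matrix.mul_apply, Matrix.one_apply_eq] at h5
  rw [Finset.sum_eq_zero (fun a _ => by rw [h1, mul_zero])] at h5
  exact zero_ne_one h5

/-- Bounded fusion from eigenvalues, projective version. -/
theorem card_conj_le {S T I : Type*} [Group S] [Group T] [Finite I] (π : T →* S)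
    (hπ : Function.Surjective π) (ρ : T →* GL ι K)
    (hz : ∀ z, π z = 1 → ∃ l : K, (ρ z : Matrix ι ι K) = l • (1 : Matrix ι ι K)) (f : I → T)
    (d : I → ι → K) (hd : ∀ i, (ρ (f i) : Matrix ι ι K) = Matrix.diagonal (d i)) (j₀ j₁ : ι)
    (e : ℕ) (he : ∀ y : K, {i : I | d i j₀ / d i j₁ = y}.ncard ≤ e) (i : I) :
    {j : I | IsConj (π (f j)) (π (f i))}.ncard ≤ e * Fintype.card ι ^ 2 := by
  classical
  have h1 : {j : I | IsConj (π (f j)) (π (f i))} ⊆
      ⋃ ab ∈ (Finset.univ : Finset (ι × ι)), {j : I | d j j₀ / d j j₁ = d i ab.1 / d i ab.2} := by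
    intro j hj
    obtain ⟨g', hg'⟩ := isConj_iff.1 hj
    obtain ⟨g, rfl⟩ := hπ g'
    have h2 : π ((f i)⁻¹ * (g * f j * g⁻¹)) = 1 := by
      rw [map_mul, map_inv, map_mul, map_mul, map_inv, hg', inv_mul_cancel]
    obtain ⟨l, hl⟩ := hz _ h2
    have h3 : g * f j = f i * ((f i)⁻¹ * (g * f j * g⁻¹)) * g := by group
    have h4 : (ρ g : Matrix ι ι K) * Matrix.diagonal (d j) =
        Matrix.diagonal (fun a => l * d i a) * (ρ g : Matrix ι ι K) := by
      have h5 := congrArg (fun x : GL ι K => (x : Matrix ι ι K)) (congrArg ρ h3)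
      simp only [map_mul ρ, Units.val_mul] at h5
      have h6 : ((ρ (f i)⁻¹ : GL ι K) : Matrix ι ι K) * ((ρ g : Matrix ι ι K) * (ρ (f j) : Matrix ι ι K) *
          (ρ g⁻¹ : Matrix ι ι K)) = l • (1 : Matrix ι ι K) := by
        rw [← hl]
        simp only [map_mul ρ, Units.val_mul]
      rw [h6] at h5
      rw [← hd j, h5, hd i]
      ext a b
      simp [Matrix.diagonal_mul]
      ring
    have h7 := exists_entry (ρ g) _ _ h4
    obtain ⟨a, ha⟩ := h7 j₀
    obtain ⟨b, hb⟩ := h7 j₁
    have hl0 : l ≠ 0 := by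
      rintro rfl
      rw [zero_smul] at hl
      have h8 : ((ρ ((f i)⁻¹ * (g * f j * g⁻¹)) : GL ι K) : Matrix ι ι K) *
          ((ρ ((f i)⁻¹ * (g * f j * g⁻¹)))⁻¹ : GL ι K) = 1 := by
        rw [← Units.val_mul, mul_inv_cancel, Units.val_one]
      rw [hl, zero_mul] at h8
      have h9 := congrFun (congrFun h8 j₀) j₀
      rw [Matrix.one_apply_eq] at h9
      exact zero_ne_one h9
    simp only [Finset.mem_univ, Set.iUnion_true, Set.mem_iUnion, Set.mem_ofPred_eq]
    refine ⟨(a, b), ?_⟩
    simp only
    rw [ha, hb, mul_div_mul_left _ _ hl0]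
  refine (Set.ncard_le_ncard h1 (Set.toFinite _)).trans ?_
  refine (Finset.set_ncard_biUnion_le _ _).trans ?_
  refine (Finset.sum_le_card_nsmul _ _ e fun ab _ => he _).trans ?_
  rw [Finset.card_univ, Fintype.card_prod, smul_eq_mul, pow_two, mul_comm]

end eigenvalue

end Cfsg.Agent.H708.RFam
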