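import Mathlib
import Cfsg.Agent.H708.RFTools
import Cfsg.Agent.H183.OutPSL
import Cfsg.Agent.S0813

/-!
# Real elements of `PSL_n(q)` (helper708, S4851)
-/

set_option autoImplicit false

namespace Cfsg.Agent.H708.RFam

open Matrix

/-- The index of `Inn` from the order of `Aut`. -/
theorem index_le_of_card {S : Type*} [Group S] [Finite S] (hZ : Subgroup.center S = ⊥) {B : ℕ}
    (h : Nat.card (MulAut S) ≤ B * Nat.card S) : (MulAut.conj : S →* MulAut S).range.index ≤ B := by
  have h1 := Cfsg.Agent.H183.OutAbs.card_out_mul hZ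
  have h2 : Nat.card (Cfsg.Out S) = (MulAut.conj : S →* MulAut S).range.index := rfl
  rw [← h1, h2] at h
  exact Nat.le_of_mul_le_mul_right h Nat.card_pos

variable {F : Type*} [Field F]

/-- Even permutation matrices in `SL`. -/
def altSL (n : ℕ) : alternatingGroup (Fin n) →* SpecialLinearGroup (Fin n) F where
  toFun σ := ⟨((pG (σ : Equiv.Perm (Fin n)) : GL (Fin n) F) : Matrix (Fin n) (Fin n) F), by
    rw [coe_pG, Matrix.det_permutation, Equiv.Perm.sign_inv]
    have := Equiv.Perm.mem_alternatingGroup.1 σ.2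
    rw [this]
    simp⟩
  map_one' := by
    apply Subtype.ext
    simp
  map_mul' σ τ := by
    apply Subtype.ext
    change ((pG ((σ * τ : alternatingGroup (Fin n)) : Equiv.Perm (Fin n)) : GL (Fin n) F) :
      Matrix (Fin n) (Fin n) F) = ((pG (σ : Equiv.Perm (Fin n)) : GL (Fin n) F) :
      Matrix (Fin n) (Fin n) F) * ((pG (τ : Equiv.Perm (Fin n)) : GL (Fin n) F) : Matrix (Fin n) (Fin n) F)
    rw [Subgroup.coe_mul, map_mul, Units.val_mul]

theorem altSL_injective (n : ℕ) : Function.Injective (altSL (F := F) n) := by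
  intro σ τ h
  apply Subtype.ext
  apply pG_injective (F := F)
  exact Units.ext (congrArg Subtype.val h)

theorem psl_alt (n k : ℕ) (h : 2 * k + 5 ≤ n) :
    RF (Matrix.ProjectiveSpecialLinearGroup (Fin n) F) k := by
  refine RF.of_alt_cover (QuotientGroup.mk' (Subgroup.center (SpecialLinearGroup (Fin n) F)))
    (fun z hz t => ?_) k n h (altSL n) (altSL_injective n)
  exact (Subgroup.mem_center_iff.1 ((QuotientGroup.eq_one_iff z).1 hz) t).symm

/-- The entries of the torus elements. -/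
def tEnt {n : ℕ} (a b : Fin n) (t : Fˣ) : Fin n → Fˣ :=
  fun i => if i = a then t else if i = b then t⁻¹ else 1

theorem tEnt_swap {n : ℕ} {a b : Fin n} (hab : a ≠ b) (t : Fˣ) :
    tEnt a b t ∘ (Equiv.swap a b).symm = tEnt a b t⁻¹ := by
  funext i
  rw [Equiv.symm_swap, Function.comp_apply]
  unfold tEnt
  by_cases h1 : i = a
  · subst h1
    rw [Equiv.swap_apply_left, if_neg hab.symm, if_pos rfl, if_pos rfl]
  · by_cases h2 : i = b
    · subst h2
      rw [Equiv.swap_apply_right, if_pos rfl, if_neg h1, if_pos rfl, inv_inv]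
    · rw [Equiv.swap_apply_of_ne_of_ne h1 h2, if_neg h1, if_neg h1, if_neg h2, if_neg h2]

theorem tEnt_inv {n : ℕ} (a b : Fin n) (t : Fˣ) : (tEnt a b t)⁻¹ = tEnt a b t⁻¹ := by
  funext i
  rw [Pi.inv_apply]
  unfold tEnt
  split_ifs <;> simp

theorem tEnt_prod {n : ℕ} {a b : Fin n} (hab : a ≠ b) (t : Fˣ) : ∏ i, tEnt a b t i = 1 := by
  classical
  unfold tEnt
  rw [Finset.prod_ite, Finset.prod_ite]
  have h1 : (Finset.univ.filter fun i : Fin n => i = a) = {a} := by
    ext i; simp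
  have h2 : ((Finset.univ.filter fun i : Fin n => ¬ i = a).filter fun i => i = b) = {b} := by
    ext i
    simp only [Finset.mem_filter, Finset.mem_univ, true_and, Finset.mem_singleton]
    constructor
    · exact fun h => h.2
    · rintro rfl; exact ⟨hab.symm, rfl⟩
  rw [h1, h2]
  simp

/-- The signs making the determinant one. -/
def sEnt {n : ℕ} (a : Fin n) : Fin n → Fˣ := fun i => if i = a then -1 else 1

/-- The torus elements in `SL`. -/
def tSL {n : ℕ} (a b : Fin n) (hab : a ≠ b) (t : Fˣ) : SpecialLinearGroup (Fin n) F :=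
  ⟨((dG (tEnt a b t) : GL (Fin n) F) : Matrix (Fin n) (Fin n) F), by
    rw [coe_dG, Matrix.det_diagonal]
    have := congrArg (fun u : Fˣ => (u : F)) (tEnt_prod (F := F) hab t)
    simpa using this⟩

/-- The Weyl element in `SL`. -/
def wSL {n : ℕ} (a b : Fin n) (hab : a ≠ b) : SpecialLinearGroup (Fin n) F :=
  ⟨((pG (Equiv.swap a b) * dG (sEnt a) : GL (Fin n) F) : Matrix (Fin n) (Fin n) F), by
    rw [Units.val_mul, Matrix.det_mul, coe_pG, coe_dG, Matrix.det_permutation, Matrix.det_diagonal,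
      Equiv.Perm.sign_inv, Equiv.Perm.sign_swap hab]
    have h1 : ∏ i, ((sEnt (F := F) a i : Fˣ) : F) = -1 := by
      unfold sEnt
      rw [Finset.prod_eq_single a]
      · simp
      · intro b _ hb
        rw [if_neg hb]
        simp
      · intro h
        exact absurd (Finset.mem_univ a) h
    rw [h1]
    simp⟩

theorem toGL_tSL {n : ℕ} (a b : Fin n) (hab : a ≠ b) (t : Fˣ) :
    SpecialLinearGroup.toGL (tSL a b hab t) = dG (tEnt a b t) := Units.ext rfl

theorem toGL_wSL {n : ℕ} (a b : Fin n) (hab : a ≠ b) :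
    SpecialLinearGroup.toGL (wSL (F := F) a b hab) = pG (Equiv.swap a b) * dG (sEnt a) := Units.ext rfl

theorem wSL_tSL {n : ℕ} (a b : Fin n) (hab : a ≠ b) (t : Fˣ) :
    wSL a b hab * tSL a b hab t * (wSL a b hab)⁻¹ = (tSL a b hab t)⁻¹ := by
  apply SpecialLinearGroup.toGL_injective
  rw [map_mul, map_mul, map_inv, map_inv, toGL_tSL, toGL_wSL]
  have h1 : (dG (sEnt (F := F) a) : GL (Fin n) F) * dG (tEnt a b t) = dG (tEnt a b t) * dG (sEnt a) := by
    rw [← map_mul, ← map_mul, mul_comm]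
  rw [mul_assoc (pG _), h1, ← mul_assoc, pG_dG, tEnt_swap hab, ← tEnt_inv, map_inv]
  group

theorem ncard_sq_le (y : F) : {t : Fˣ | ((t : F) ^ 2) = y}.ncard ≤ 2 := by
  classical
  by_cases h : ∃ t₀ : Fˣ, ((t₀ : F) ^ 2) = y
  · obtain ⟨t₀, ht₀⟩ := h
    have h1 : {t : Fˣ | ((t : F) ^ 2) = y} ⊆ (({t₀, -t₀} : Finset Fˣ) : Set Fˣ) := by
      intro t ht
      have h2 : (t : F) ^ 2 = (t₀ : F) ^ 2 := ht.trans ht₀.symm
      rcases sq_eq_sq_iff_eq_or_eq_neg.1 h2 with h3 | h3
      · simp [Units.ext h3]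
      · have h4 : t = -t₀ := Units.ext h3
        simp [h4]
    refine (Set.ncard_le_ncard h1 (Finset.finite_toSet _)).trans ?_
    rw [Set.ncard_coe_finset]
    exact Finset.card_le_two
  · have : {t : Fˣ | ((t : F) ^ 2) = y} = ∅ := by
      ext t
      simp only [Set.mem_ofPred_eq, Set.mem_empty_iff_false, iff_false]
      exact fun ht => h ⟨t, ht⟩
    rw [this]
    simp

theorem psl_fam [Fintype F] (n k B : ℕ) (hn : 2 ≤ n)
    (hB : (MulAut.conj : ProjectiveSpecialLinearGroup (Fin n) F →* _).range.index ≤ B)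
    (hk : k * (2 * n ^ 2 * B) ≤ Fintype.card F - 1) :
    RF (Matrix.ProjectiveSpecialLinearGroup (Fin n) F) k := by
  classical
  let a : Fin n := ⟨0, by omega⟩
  let b : Fin n := ⟨1, by omega⟩
  have hab : a ≠ b := by
    intro h
    have := congrArg Fin.val h
    simp [a, b] at this
  have hcard : Fintype.card Fˣ = Fintype.card F - 1 := Fintype.card_units F
  refine RF.of_family (I := Fˣ)
    (fun t => QuotientGroup.mk' (Subgroup.center (SpecialLinearGroup (Fin n) F)) (tSL a b hab t))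
    (fun t => ?_) (2 * n ^ 2) B k (by positivity) (fun i => ?_) hB (by rw [hcard]; exact hk)
  · rw [← map_inv]
    refine MonoidHom.map_isConj _ (isConj_iff.2 ⟨wSL a b hab, wSL_tSL a b hab t⟩)
  · have h1 := card_conj_le (I := Fˣ) (QuotientGroup.mk' (Subgroup.center (SpecialLinearGroup (Fin n) F)))
      (QuotientGroup.mk'_surjective _) (SpecialLinearGroup.toGL (n := Fin n) (R := F)) ?_ (tSL a b hab)
      (fun t i => (tEnt a b t i : F)) (fun t => rfl) a b 2 ?_ i
    · rw [Fintype.card_fin] at h1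
      exact h1
    · intro z hz
      have h2 := (QuotientGroup.eq_one_iff z).1 hz
      obtain ⟨r, _, hr⟩ := Matrix.SpecialLinearGroup.mem_center_iff.1 h2
      refine ⟨r, ?_⟩
      change (z : Matrix (Fin n) (Fin n) F) = _
      rw [← hr, Matrix.scalar_apply, Matrix.smul_one_eq_diagonal]
    · intro y
      refine le_trans (Set.ncard_le_ncard (t := {t : Fˣ | ((t : F) ^ 2) = y}) ?_ (Set.toFinite _))
        (ncard_sq_le y)
      intro t ht
      have h3 : ((tEnt a b t a : Fˣ) : F) / ((tEnt a b t b : Fˣ) : F) = y := ht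
      unfold tEnt at h3
      rw [if_pos rfl, if_neg hab.symm, if_pos rfl, Units.val_inv_eq_inv_val, div_inv_eq_mul] at h3
      rw [Set.mem_ofPred_eq, pow_two]
      exact h3

/-- **`PSL_n(q)`**. -/
theorem psl_bound (k : ℕ) : ∃ N : ℕ, ∀ (F : Type) [Field F] [Fintype F] (n : ℕ), 2 ≤ n →
    (n = 2 → 4 ≤ Fintype.card F) → ¬ RF (Matrix.ProjectiveSpecialLinearGroup (Fin n) F) k →
    Nat.card (Matrix.ProjectiveSpecialLinearGroup (Fin n) F) ≤ N := by
  refine ⟨(8 * (k * (4 * (2 * k + 4) ^ 3)) ^ 2 + 2) ^ ((2 * k + 4) ^ 2), ?_⟩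
  intro F _ _ n hn h4 hRF
  classical
  have hn0 : n ≤ 2 * k + 4 := by
    by_contra h
    exact hRF (psl_alt n k (by omega))
  obtain ⟨p, _, f, hp, hcard⟩ := FiniteField.card' F
  have : Fact p.Prime := ⟨hp⟩
  have hf : 1 ≤ (f : ℕ) := f.pos
  have hS := Cfsg.Agent.H183.OutPSL.simple_psl (F := F) hn h4
  have hZ := Cfsg.Agent.H183.OutPSL.center_psl (F := F) hn h4
  have hAut := Cfsg.Agent.S0813.result (F := F) p f hf hcard n hn (fun h => hcard ▸ h4 h)
  have hind : (MulAut.conj : ProjectiveSpecialLinearGroup (Fin n) F →* _).range.index ≤ 2 * f * n := by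
    apply index_le_of_card hZ
    rw [hAut, Cfsg.Agent.H183.OutPSL.card_pgl_eq hn]
    have h1 : (if n = 2 then 1 else 2) ≤ 2 := by split_ifs <;> omega
    have h2 : Nat.gcd n (Fintype.card F - 1) ≤ n := Nat.gcd_le_left _ (by omega)
    calc (if n = 2 then 1 else 2) * (f : ℕ) *
          (Nat.gcd n (Fintype.card F - 1) * Nat.card (ProjectiveSpecialLinearGroup (Fin n) F))
        ≤ 2 * (f : ℕ) * (n * Nat.card (ProjectiveSpecialLinearGroup (Fin n) F)) := by gcongr
      _ = 2 * (f : ℕ) * n * Nat.card (ProjectiveSpecialLinearGroup (Fin n) F) := by ring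
  have hq : Fintype.card F - 1 < k * (4 * (2 * k + 4) ^ 3) * f := by
    by_contra h
    push Not at h
    apply hRF
    refine psl_fam n k _ hn hind (le_trans ?_ h)
    calc k * (2 * n ^ 2 * (2 * (f : ℕ) * n)) = k * (4 * n ^ 3) * f := by ring
      _ ≤ k * (4 * (2 * k + 4) ^ 3) * f := by gcongr
  have hQ := bound _ p f (Fintype.card F) hp.two_le hcard hq
  have h5 : Nat.card (ProjectiveSpecialLinearGroup (Fin n) F) ≤ Nat.card (SpecialLinearGroup (Fin n) F) :=
    Nat.card_le_card_of_surjective _ (QuotientGroup.mk'_surjective (Subgroup.center (SpecialLinearGroup (Fin n) F)))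
  have h6 : Nat.card (SpecialLinearGroup (Fin n) F) ≤ Nat.card (Matrix (Fin n) (Fin n) F) :=
    Nat.card_le_card_of_injective _ Subtype.val_injective
  have h7 : Nat.card (Matrix (Fin n) (Fin n) F) = Fintype.card F ^ (n ^ 2) := by
    have : Nat.card (Matrix (Fin n) (Fin n) F) = Nat.card (Fin n → Fin n → F) := rfl
    rw [this, Nat.card_eq_fintype_card]
    simp [pow_two, pow_mul]
  refine h5.trans (h6.trans ?_)
  rw [h7]
  calc Fintype.card F ^ (n ^ 2) ≤ (8 * (k * (4 * (2 * k + 4) ^ 3)) ^ 2 + 2) ^ (n ^ 2) := by gcongr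
    _ ≤ (8 * (k * (4 * (2 * k + 4) ^ 3)) ^ 2 + 2) ^ ((2 * k + 4) ^ 2) :=
        Nat.pow_le_pow_right (by omega) (Nat.pow_le_pow_left hn0 2)

end Cfsg.Agent.H708.RFam
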