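import Mathlib
import Cfsg.Agent.H708.RFSL
import Cfsg.Agent.LieClassical.OrthCenter

/-!
# Real elements of orthogonal groups: general part (helper708, S4851)
-/

set_option autoImplicit false
set_option linter.unusedSectionVars false

namespace Cfsg.Agent.H708.RFam

open Matrix Cfsg

variable {F : Type*} [Field F] {ι : Type} [Fintype ι] [DecidableEq ι]

/-- `Q` is the orthogonal sum of the hyperbolic form `∑ x_i y_i` on the coordinates `e` and
something else. -/
structure Hyp {m : ℕ} (Q : (ι → F) → F) (e : Fin m ⊕ Fin m ↪ ι) : Prop where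
  inv : ∀ v v' : ι → F, (∀ j, j ∉ Set.range e → v j = v' j) →
    (∑ i, v (e (Sum.inl i)) * v (e (Sum.inr i)) = ∑ i, v' (e (Sum.inl i)) * v' (e (Sum.inr i))) →
    Q v = Q v'

variable {m : ℕ} {Q : (ι → F) → F} {e : Fin m ⊕ Fin m ↪ ι}

/-- Permutations of the hyperbolic pairs. -/
noncomputable def aHom (e : Fin m ⊕ Fin m ↪ ι) : Equiv.Perm (Fin m) →* Equiv.Perm ι :=
  (Equiv.Perm.viaEmbeddingHom e).comp ((Equiv.Perm.sumCongrHom (Fin m) (Fin m)).comp
    ((MonoidHom.id _).prod (MonoidHom.id _)))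

theorem aHom_inl (e : Fin m ⊕ Fin m ↪ ι) (σ : Equiv.Perm (Fin m)) (i : Fin m) :
    aHom e σ (e (Sum.inl i)) = e (Sum.inl (σ i)) :=
  Equiv.Perm.viaEmbedding_apply _ _ _

theorem aHom_inr (e : Fin m ⊕ Fin m ↪ ι) (σ : Equiv.Perm (Fin m)) (i : Fin m) :
    aHom e σ (e (Sum.inr i)) = e (Sum.inr (σ i)) :=
  Equiv.Perm.viaEmbedding_apply _ _ _

theorem aHom_notMem (e : Fin m ⊕ Fin m ↪ ι) (σ : Equiv.Perm (Fin m)) {j : ι}
    (hj : j ∉ Set.range e) : aHom e σ j = j :=
  Equiv.Perm.viaEmbedding_apply_of_notMem _ _ _ hj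

theorem aHom_injective (e : Fin m ⊕ Fin m ↪ ι) : Function.Injective (aHom e) := by
  intro σ τ h
  ext i
  have h1 := aHom_inl e σ i
  rw [h, aHom_inl] at h1
  have h2 := Sum.inl_injective (e.injective h1)
  rw [h2]

theorem Hyp.perm (h : Hyp Q e) (σ : Equiv.Perm (Fin m)) (v : ι → F) : Q (v ∘ aHom e σ) = Q v := by
  apply h.inv
  · intro j hj
    rw [Function.comp_apply, aHom_notMem e σ hj]
  · simp only [Function.comp_apply, aHom_inl, aHom_inr]
    exact Equiv.sum_comp σ fun i => v (e (Sum.inl i)) * v (e (Sum.inr i))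

theorem Hyp.swap (h : Hyp Q e) (a : Fin m) (v : ι → F) :
    Q (v ∘ Equiv.swap (e (Sum.inl a)) (e (Sum.inr a))) = Q v := by
  apply h.inv
  · intro j hj
    rw [Function.comp_apply, Equiv.swap_apply_of_ne_of_ne]
    · rintro rfl; exact hj ⟨_, rfl⟩
    · rintro rfl; exact hj ⟨_, rfl⟩
  · refine Finset.sum_congr rfl fun i _ => ?_
    simp only [Function.comp_apply]
    by_cases hi : i = a
    · subst hi
      rw [Equiv.swap_apply_left, Equiv.swap_apply_right, mul_comm]
    · have h1 : e (Sum.inl i) ≠ e (Sum.inl a) := fun h => hi (Sum.inl_injective (e.injective h))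
      have h2 : e (Sum.inl i) ≠ e (Sum.inr a) := fun h => Sum.inl_ne_inr (e.injective h)
      have h3 : e (Sum.inr i) ≠ e (Sum.inl a) := fun h => Sum.inr_ne_inl (e.injective h)
      have h4 : e (Sum.inr i) ≠ e (Sum.inr a) := fun h => hi (Sum.inr_injective (e.injective h))
      rw [Equiv.swap_apply_of_ne_of_ne h1 h2, Equiv.swap_apply_of_ne_of_ne h3 h4]

/-- Torus entries. -/
def dEnt (e : Fin m ⊕ Fin m ↪ ι) (a : Fin m) (t : Fˣ) : ι → Fˣ :=
  fun j => if j = e (Sum.inl a) then t else if j = e (Sum.inr a) then t⁻¹ else 1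

theorem Hyp.diag (h : Hyp Q e) (a : Fin m) (t : Fˣ) (v : ι → F) :
    Q (fun j => (dEnt e a t j : F) * v j) = Q v := by
  apply h.inv
  · intro j hj
    unfold dEnt
    rw [if_neg, if_neg, Units.val_one, one_mul]
    · rintro rfl; exact hj ⟨_, rfl⟩
    · rintro rfl; exact hj ⟨_, rfl⟩
  · refine Finset.sum_congr rfl fun i _ => ?_
    unfold dEnt
    by_cases hi : i = a
    · subst hi
      have h3 : e (Sum.inr i) ≠ e (Sum.inl i) := fun h => Sum.inr_ne_inl (e.injective h)
      rw [if_pos rfl, if_neg h3, if_pos rfl]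
      have : (t : F) * ((t⁻¹ : Fˣ) : F) = 1 := by rw [← Units.val_mul, mul_inv_cancel, Units.val_one]
      calc (t : F) * v (e (Sum.inl i)) * (((t⁻¹ : Fˣ) : F) * v (e (Sum.inr i)))
          = (t : F) * ((t⁻¹ : Fˣ) : F) * (v (e (Sum.inl i)) * v (e (Sum.inr i))) := by ring
        _ = _ := by rw [this, one_mul]
    · have h1 : e (Sum.inl i) ≠ e (Sum.inl a) := fun h => hi (Sum.inl_injective (e.injective h))
      have h2 : e (Sum.inl i) ≠ e (Sum.inr a) := fun h => Sum.inl_ne_inr (e.injective h)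
      have h3 : e (Sum.inr i) ≠ e (Sum.inl a) := fun h => Sum.inr_ne_inl (e.injective h)
      have h4 : e (Sum.inr i) ≠ e (Sum.inr a) := fun h => hi (Sum.inr_injective (e.injective h))
      rw [if_neg h1, if_neg h2, if_neg h3, if_neg h4]
      simp

/-- Permutation matrices as isometries. -/
def isoP (σ : Equiv.Perm ι) (h : ∀ v, Q (v ∘ σ.symm) = Q v) : isometryGroup F Q :=
  ⟨pG σ, fun u _ => by
    change Q (((pG σ : GL ι F) : Matrix ι ι F) *ᵥ u) = Q u
    rw [pG_mulVec]
    exact h u⟩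

/-- Diagonal matrices as isometries. -/
def isoD (d : ι → Fˣ) (h : ∀ v : ι → F, Q (fun j => (d j : F) * v j) = Q v) : isometryGroup F Q :=
  ⟨dG d, fun u _ => by
    change Q (((dG d : GL ι F) : Matrix ι ι F) *ᵥ u) = Q u
    rw [dG_mulVec]
    exact h u⟩

theorem comm_mem (x y : isometryGroup F Q) : x * y * x⁻¹ * y⁻¹ ∈ Omega F Q := by
  have h := Subgroup.commutator_mem_commutator (Subgroup.mem_top x) (Subgroup.mem_top y)
  rwa [commutatorElement_def] at h

/-- The natural representation of `Omega`. -/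
def rOm (Q : (ι → F) → F) : Omega F Q →* GL ι F :=
  (isometryGroup F Q).subtype.comp (Omega F Q).subtype

theorem rOm_injective (Q : (ι → F) → F) : Function.Injective (rOm Q) :=
  Subtype.val_injective.comp Subtype.val_injective

/-- The alternating group inside `Omega`. -/
noncomputable def pIso (h : Hyp Q e) : Equiv.Perm (Fin m) →* isometryGroup F Q :=
  (pG.comp (aHom e)).codRestrict (isometryGroup F Q) fun σ =>
    (isoP (aHom e σ) (by
      intro v
      have := h.perm σ⁻¹ v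
      rwa [map_inv] at this)).2

theorem commutator_alt (hm : 5 ≤ m) : commutator (alternatingGroup (Fin m)) = ⊤ := by
  have hs : IsSimpleGroup (alternatingGroup (Fin m)) :=
    alternatingGroup.isSimpleGroup (by rw [Nat.card_eq_fintype_card, Fintype.card_fin]; omega)
  rcases (inferInstance : (commutator (alternatingGroup (Fin m))).Normal).eq_bot_or_eq_top with h | h
  · exfalso
    have h1 : Subgroup.center (alternatingGroup (Fin m)) = ⊥ :=
      alternatingGroup.center_eq_bot (by rw [Nat.card_eq_fintype_card, Fintype.card_fin]; omega)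
    rw [commutator_eq_bot_iff_center_eq_top, h1] at h
    have h4 : Nontrivial (alternatingGroup (Fin m)) := inferInstance
    exact bot_ne_top h
  · exact h

noncomputable def altOm (h : Hyp Q e) (hm : 5 ≤ m) : alternatingGroup (Fin m) →* Omega F Q :=
  ((pIso h).comp (alternatingGroup (Fin m)).subtype).codRestrict (Omega F Q) fun σ => by
    have h1 : σ ∈ commutator (alternatingGroup (Fin m)) := by
      rw [commutator_alt hm]; exact Subgroup.mem_top _
    have h2 : (commutator (alternatingGroup (Fin m))).map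
        ((pIso h).comp (alternatingGroup (Fin m)).subtype) ≤ Omega F Q := by
      rw [commutator_def, Subgroup.map_commutator]
      exact Subgroup.commutator_mono le_top le_top
    exact h2 ⟨σ, h1, rfl⟩

theorem altOm_injective (h : Hyp Q e) (hm : 5 ≤ m) : Function.Injective (altOm h hm) := by
  intro σ τ hst
  have h1 := congrArg (rOm Q) hst
  have h2 : (pG (aHom e (σ : Equiv.Perm (Fin m))) : GL ι F) = pG (aHom e (τ : Equiv.Perm (Fin m))) := h1
  exact Subtype.ext (aHom_injective e (pG_injective h2))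

theorem om_alt (h : Hyp Q e) (k : ℕ) (hk : 2 * k + 5 ≤ m) : RF (POmega F Q) k := by
  refine RF.of_alt_cover (QuotientGroup.mk' (Subgroup.center (Omega F Q)))
    (fun z hz t => ?_) k m hk (altOm h (by omega)) (altOm_injective h (by omega))
  exact (Subgroup.mem_center_iff.1 ((QuotientGroup.eq_one_iff z).1 hz) t).symm

/-- The reflection-like isometry interchanging a hyperbolic pair. -/
def isoW (h : Hyp Q e) (a : Fin m) : isometryGroup F Q :=
  isoP (Equiv.swap (e (Sum.inl a)) (e (Sum.inr a))) (by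
    intro v
    rw [Equiv.symm_swap]
    exact h.swap a v)

/-- Torus isometries. -/
def isoT (h : Hyp Q e) (a : Fin m) (t : Fˣ) : isometryGroup F Q :=
  isoD (dEnt e a t) (h.diag a t)

theorem dEnt_swap (e : Fin m ⊕ Fin m ↪ ι) (a : Fin m) (t : Fˣ) :
    dEnt e a t ∘ (Equiv.swap (e (Sum.inl a)) (e (Sum.inr a))) = (dEnt e a t)⁻¹ := by
  funext j
  rw [Function.comp_apply, Pi.inv_apply]
  unfold dEnt
  have h3 : e (Sum.inr a) ≠ e (Sum.inl a) := fun h => Sum.inr_ne_inl (e.injective h)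
  by_cases h1 : j = e (Sum.inl a)
  · subst h1
    rw [Equiv.swap_apply_left, if_neg h3, if_pos rfl, if_pos rfl]
  · by_cases h2 : j = e (Sum.inr a)
    · subst h2
      rw [Equiv.swap_apply_right, if_pos rfl, if_neg h3, if_pos rfl, inv_inv]
    · rw [Equiv.swap_apply_of_ne_of_ne h1 h2, if_neg h1, if_neg h2, inv_one]

theorem dEnt_swap_ne (e : Fin m ⊕ Fin m ↪ ι) {a b : Fin m} (hab : a ≠ b) (t : Fˣ) :
    dEnt e a t ∘ (Equiv.swap (e (Sum.inl b)) (e (Sum.inr b))) = dEnt e a t := by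
  funext j
  rw [Function.comp_apply]
  have h1 : e (Sum.inl b) ≠ e (Sum.inl a) := fun h => hab (Sum.inl_injective (e.injective h)).symm
  have h2 : e (Sum.inl b) ≠ e (Sum.inr a) := fun h => Sum.inl_ne_inr (e.injective h)
  have h3 : e (Sum.inr b) ≠ e (Sum.inl a) := fun h => Sum.inr_ne_inl (e.injective h)
  have h4 : e (Sum.inr b) ≠ e (Sum.inr a) := fun h => hab (Sum.inr_injective (e.injective h)).symm
  have hl : dEnt e a t (e (Sum.inl b)) = 1 := by
    unfold dEnt; rw [if_neg h1, if_neg h2]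
  have hr : dEnt e a t (e (Sum.inr b)) = 1 := by
    unfold dEnt; rw [if_neg h3, if_neg h4]
  by_cases h5 : j = e (Sum.inl b)
  · subst h5
    rw [Equiv.swap_apply_left, hl, hr]
  · by_cases h6 : j = e (Sum.inr b)
    · subst h6
      rw [Equiv.swap_apply_right, hl, hr]
    · rw [Equiv.swap_apply_of_ne_of_ne h5 h6]

/-- Torus elements of `Omega`. -/
def tOm (h : Hyp Q e) (a : Fin m) (t : Fˣ) : Omega F Q :=
  ⟨isoT h a t * isoW h a * (isoT h a t)⁻¹ * (isoW h a)⁻¹, comm_mem _ _⟩

theorem rOm_tOm (h : Hyp Q e) (a : Fin m) (t : Fˣ) :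
    rOm Q (tOm h a t) = dG (dEnt e a t * dEnt e a t) := by
  have h1 : rOm Q (tOm h a t) = dG (dEnt e a t) * pG (Equiv.swap (e (Sum.inl a)) (e (Sum.inr a))) *
      (dG (dEnt e a t))⁻¹ * (pG (Equiv.swap (e (Sum.inl a)) (e (Sum.inr a))))⁻¹ := rfl
  have h2 : (pG (Equiv.swap (e (Sum.inl a)) (e (Sum.inr a))) : GL ι F) * (dG (dEnt e a t))⁻¹ =
      dG (dEnt e a t) * pG (Equiv.swap (e (Sum.inl a)) (e (Sum.inr a))) := by
    have h3 := dEnt_swap e a t
    rw [← map_inv, pG_dG, Equiv.symm_swap]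
    congr 2
    have : (dEnt e a t)⁻¹ ∘ (Equiv.swap (e (Sum.inl a)) (e (Sum.inr a))) =
        (dEnt e a t ∘ (Equiv.swap (e (Sum.inl a)) (e (Sum.inr a))))⁻¹ := rfl
    rw [this, h3, inv_inv]
  rw [h1, mul_assoc (dG _) (pG _), h2, map_mul]
  group

/-- The element of `Omega` inverting the torus elements. -/
noncomputable def wOm (h : Hyp Q e) (a b : Fin m) : Omega F Q :=
  ⟨isoW h a * pIso h (Equiv.swap a b) * (isoW h a)⁻¹ * (pIso h (Equiv.swap a b))⁻¹, comm_mem _ _⟩

theorem rOm_wOm (h : Hyp Q e) (a b : Fin m) :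
    rOm Q (wOm h a b) = pG (Equiv.swap (e (Sum.inl a)) (e (Sum.inr a)) *
      (Equiv.swap (e (Sum.inl b)) (e (Sum.inr b)))) := by
  have h1 : rOm Q (wOm h a b) = pG (Equiv.swap (e (Sum.inl a)) (e (Sum.inr a))) *
      pG (aHom e (Equiv.swap a b)) * (pG (Equiv.swap (e (Sum.inl a)) (e (Sum.inr a))))⁻¹ *
      (pG (aHom e (Equiv.swap a b)))⁻¹ := rfl
  rw [h1, ← map_inv, ← map_inv, ← map_mul, ← map_mul, ← map_mul, Equiv.swap_inv, mul_assoc _ (aHom e _),
    mul_assoc]
  congr 2
  rw [Equiv.mul_swap_eq_swap_mul, aHom_inl, aHom_inr, Equiv.swap_apply_left, mul_inv_cancel_right]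

theorem wOm_tOm (h : Hyp Q e) {a b : Fin m} (hab : a ≠ b) (t : Fˣ) :
    wOm h a b * tOm h a t * (wOm h a b)⁻¹ = (tOm h a t)⁻¹ := by
  apply rOm_injective Q
  rw [map_mul, map_mul, map_inv, map_inv, rOm_wOm, rOm_tOm, pG_dG, mul_inv_cancel_right, ← map_inv]
  congr 1
  have h1 : (Equiv.swap (e (Sum.inl a)) (e (Sum.inr a)) *
      Equiv.swap (e (Sum.inl b)) (e (Sum.inr b))).symm =
      Equiv.swap (e (Sum.inl b)) (e (Sum.inr b)) * Equiv.swap (e (Sum.inl a)) (e (Sum.inr a)) := by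
    change (Equiv.swap (e (Sum.inl a)) (e (Sum.inr a)) *
      Equiv.swap (e (Sum.inl b)) (e (Sum.inr b)))⁻¹ = _
    rw [_root_.mul_inv_rev, Equiv.swap_inv, Equiv.swap_inv]
  rw [h1]
  have h2 : (dEnt e a t * dEnt e a t) ∘ (Equiv.swap (e (Sum.inl b)) (e (Sum.inr b)) *
      Equiv.swap (e (Sum.inl a)) (e (Sum.inr a)) : Equiv.Perm ι) =
      ((dEnt e a t ∘ Equiv.swap (e (Sum.inl b)) (e (Sum.inr b))) ∘
        Equiv.swap (e (Sum.inl a)) (e (Sum.inr a))) *
      ((dEnt e a t ∘ Equiv.swap (e (Sum.inl b)) (e (Sum.inr b))) ∘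
        Equiv.swap (e (Sum.inl a)) (e (Sum.inr a))) := rfl
  rw [h2, dEnt_swap_ne e hab, dEnt_swap, mul_inv]

theorem om_conj [Fintype F] (h : Hyp Q e)
    (hz : ∀ z ∈ Subgroup.center (Omega F Q), ∃ l : F, ((rOm Q z : GL ι F) : Matrix ι ι F) = l • 1)
    {a b : Fin m} (hab : a ≠ b) (i : Fˣ) :
    {j | IsConj (QuotientGroup.mk' (Subgroup.center (Omega F Q)) (tOm h a j))
      (QuotientGroup.mk' (Subgroup.center (Omega F Q)) (tOm h a i))}.ncard ≤
      2 * (Fintype.card ι) ^ 2 := by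
  refine card_conj_le (I := Fˣ) (QuotientGroup.mk' (Subgroup.center (Omega F Q)))
    (QuotientGroup.mk'_surjective _)
    (rOm Q) (fun z hz' => hz z ((QuotientGroup.eq_one_iff z).1 hz')) (tOm h a)
    (fun t j => ((dEnt e a t * dEnt e a t : ι → Fˣ) j : F)) (fun t => by rw [rOm_tOm, coe_dG])
    (e (Sum.inl a)) (e (Sum.inl b)) 2 (fun y => ?_) i
  refine le_trans (Set.ncard_le_ncard ?_ (Set.toFinite _)) (ncard_sq_le y)
  intro t ht
  have h1 : e (Sum.inl b) ≠ e (Sum.inl a) := fun h => hab (Sum.inl_injective (e.injective h)).symm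
  have h2 : e (Sum.inl b) ≠ e (Sum.inr a) := fun h => Sum.inl_ne_inr (e.injective h)
  have h3 : ((dEnt e a t (e (Sum.inl a)) * dEnt e a t (e (Sum.inl a)) : Fˣ) : F) /
      ((dEnt e a t (e (Sum.inl b)) * dEnt e a t (e (Sum.inl b)) : Fˣ) : F) = y := ht
  unfold dEnt at h3
  rw [if_pos rfl, if_neg h1, if_neg h2, mul_one, Units.val_one, div_one, Units.val_mul] at h3
  change (t : F) ^ 2 = y
  rw [pow_two]
  exact h3

theorem om_real (h : Hyp Q e) {a b : Fin m} (hab : a ≠ b) (t : Fˣ) :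
    IsConj (QuotientGroup.mk' (Subgroup.center (Omega F Q)) (tOm h a t))
      (QuotientGroup.mk' (Subgroup.center (Omega F Q)) (tOm h a t))⁻¹ := by
  rw [← map_inv]
  exact MonoidHom.map_isConj _ (isConj_iff.2 ⟨_, wOm_tOm h hab t⟩)

theorem om_fam [Fintype F] (h : Hyp Q e) (k B : ℕ) (hm : 2 ≤ m)
    (hz : ∀ z ∈ Subgroup.center (Omega F Q), ∃ l : F, ((rOm Q z : GL ι F) : Matrix ι ι F) = l • 1)
    (hB : (MulAut.conj : POmega F Q →* _).range.index ≤ B)
    (hk : k * (2 * (Fintype.card ι) ^ 2 * B) ≤ Fintype.card F - 1) : RF (POmega F Q) k := by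
  classical
  have hfin : Finite (Omega F Q) := Finite.of_injective _ (rOm_injective Q)
  let a : Fin m := ⟨0, by omega⟩
  let b : Fin m := ⟨1, by omega⟩
  have hab : a ≠ b := by
    intro h
    have := congrArg Fin.val h
    simp [a, b] at this
  have hι : 0 < Fintype.card ι := Fintype.card_pos_iff.2 ⟨e (Sum.inl a)⟩
  have hcard : Fintype.card Fˣ = Fintype.card F - 1 := Fintype.card_units F
  exact RF.of_family (I := Fˣ)
    (fun t => QuotientGroup.mk' (Subgroup.center (Omega F Q)) (tOm h a t))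
    (fun t => om_real h hab t) (2 * (Fintype.card ι) ^ 2) B k (by positivity)
    (fun i => om_conj h hz hab i) hB (by rw [hcard]; exact hk)

theorem om_card [Fintype F] (Q : (ι → F) → F) :
    Nat.card (POmega F Q) ≤ Fintype.card F ^ (Fintype.card ι ^ 2) := by
  have hfin : Finite (Omega F Q) := Finite.of_injective _ (rOm_injective Q)
  have h5 : Nat.card (POmega F Q) ≤ Nat.card (Omega F Q) :=
    Nat.card_le_card_of_surjective _ (QuotientGroup.mk'_surjective (Subgroup.center (Omega F Q)))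
  have h6 : Nat.card (Omega F Q) ≤ Nat.card (Matrix ι ι F) :=
    Nat.card_le_card_of_injective (fun z => ((rOm Q z : GL ι F) : Matrix ι ι F))
      (Units.val_injective.comp (rOm_injective Q))
  have h7 : Nat.card (Matrix ι ι F) = Fintype.card F ^ (Fintype.card ι ^ 2) := by
    have : Nat.card (Matrix ι ι F) = Nat.card (ι → ι → F) := rfl
    rw [this, Nat.card_eq_fintype_card]
    simp only [Fintype.card_fun]
    rw [← pow_mul, pow_two]
  rw [← h7]
  exact h5.trans h6

end Cfsg.Agent.H708.RFam
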