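import Mathlib
import Cfsg.Agent.H708.RFOmega
import Cfsg.Agent.LieClassical.OrthForms
import Cfsg.Agent.LieClassical.OmegaReindex
import Cfsg.Agent.S0816
import Cfsg.Agent.S0817
import Cfsg.Agent.S0818

/-!
# Real elements of orthogonal groups: the three families (helper708, S4851)
-/

set_option autoImplicit false

namespace Cfsg.Agent.H708.RFam

open Matrix Cfsg

theorem hyp_plus (F : Type*) [Field F] (m : ℕ) :
    Hyp (quadFormPlus m F) (Function.Embedding.refl (Fin m ⊕ Fin m)) where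
  inv v v' _ h := by
    rw [LieClassical.OrthForms.quadFormPlus_apply, LieClassical.OrthForms.quadFormPlus_apply]
    exact h

theorem hyp_odd (F : Type*) [Field F] (m : ℕ) :
    Hyp (quadFormOdd m F) (⟨Sum.inr, Sum.inr_injective⟩ : Fin m ⊕ Fin m ↪ Unit ⊕ (Fin m ⊕ Fin m)) where
  inv v v' h h' := by
    rw [LieClassical.OrthForms.quadFormOdd_apply, LieClassical.OrthForms.quadFormOdd_apply]
    have h1 : v (Sum.inl ()) = v' (Sum.inl ()) := h _ (by rintro ⟨x, hx⟩; exact Sum.inr_ne_inl hx)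
    rw [h1]
    congr 1

theorem hyp_minus (F : Type*) [Field F] (m : ℕ) (a b : F) :
    Hyp (quadFormMinus m F a b) (⟨Sum.inl, Sum.inl_injective⟩ : Fin m ⊕ Fin m ↪ (Fin m ⊕ Fin m) ⊕ Fin 2) where
  inv v v' h h' := by
    rw [LieClassical.OrthForms.quadFormMinus_apply, LieClassical.OrthForms.quadFormMinus_apply]
    have h1 : ∀ j, v (Sum.inr j) = v' (Sum.inr j) := fun j =>
      h _ (by rintro ⟨x, hx⟩; exact Sum.inl_ne_inr hx)
    rw [h1, h1]
    congr 1

theorem scalar_of {F : Type*} [Field F] {ι : Type} [Fintype ι] [DecidableEq ι] {Q : (ι → F) → F}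
    (z : Omega F Q) (h : ((rOm Q z : GL ι F) : Matrix ι ι F) = 1 ∨
      ((rOm Q z : GL ι F) : Matrix ι ι F) = -1) :
    ∃ l : F, ((rOm Q z : GL ι F) : Matrix ι ι F) = l • 1 := by
  rcases h with h | h
  · exact ⟨1, by rw [h, one_smul]⟩
  · exact ⟨-1, by rw [h, neg_smul, one_smul]⟩

theorem center_plus (F : Type*) [Field F] [Finite F] (m : ℕ) (hm : 2 ≤ m) (z : Omega F (quadFormPlus m F))
    (hz : z ∈ Subgroup.center (Omega F (quadFormPlus m F))) :
    ∃ l : F, ((rOm _ z : GL (Fin m ⊕ Fin m) F) : Matrix (Fin m ⊕ Fin m) (Fin m ⊕ Fin m) F) = l • 1 := by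
  apply scalar_of
  revert z
  rw [← LieClassical.OrthForms.coe_plusForm m F]
  intro z hz
  refine (LieClassical.OrthCenter.mem_center_omega_iff
    (LieClassical.OmegaReindex.nondegenerate_of_left _
      (fun x hx => LieClassical.OrthForms.nondeg_plusForm m F x hx)) ?_ ?_ z).1 hz
  · simp only [Fintype.card_sum, Fintype.card_fin]; omega
  · refine ⟨Pi.single (Sum.inl ⟨0, by omega⟩) 1, ?_, ?_⟩
    · intro h
      have := congrFun h (Sum.inl ⟨0, by omega⟩)
      simp at this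
    · rw [LieClassical.OrthForms.coe_plusForm, LieClassical.OrthForms.quadFormPlus_apply]
      simp

theorem center_odd (F : Type*) [Field F] [Finite F] (h2 : (2 : F) ≠ 0) (m : ℕ) (hm : 2 ≤ m)
    (z : Omega F (quadFormOdd m F))
    (hz : z ∈ Subgroup.center (Omega F (quadFormOdd m F))) :
    ∃ l : F, ((rOm _ z : GL (Unit ⊕ (Fin m ⊕ Fin m)) F) :
      Matrix (Unit ⊕ (Fin m ⊕ Fin m)) (Unit ⊕ (Fin m ⊕ Fin m)) F) = l • 1 := by
  apply scalar_of
  revert z
  rw [← LieClassical.OrthForms.coe_oddForm m F]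
  intro z hz
  refine (LieClassical.OrthCenter.mem_center_omega_iff
    (LieClassical.OmegaReindex.nondegenerate_of_left _
      (fun x hx => LieClassical.OrthForms.nondeg_oddForm m F h2 x hx)) ?_ ?_ z).1 hz
  · simp only [Fintype.card_sum, Fintype.card_fin, Fintype.card_unit]; omega
  · refine ⟨Pi.single (Sum.inr (Sum.inl ⟨0, by omega⟩)) 1, ?_, ?_⟩
    · intro h
      have := congrFun h (Sum.inr (Sum.inl ⟨0, by omega⟩))
      simp at this
    · rw [LieClassical.OrthForms.coe_oddForm, LieClassical.OrthForms.quadFormOdd_apply]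
      simp

theorem center_minus (F : Type*) [Field F] [Finite F] (m : ℕ) (hm : 1 ≤ m) (a b : F)
    (hab : ∀ z₁ z₂ : F, z₁ ^ 2 + a * z₁ * z₂ + b * z₂ ^ 2 = 0 → z₁ = 0 ∧ z₂ = 0)
    (z : Omega F (quadFormMinus m F a b))
    (hz : z ∈ Subgroup.center (Omega F (quadFormMinus m F a b))) :
    ∃ l : F, ((rOm _ z : GL ((Fin m ⊕ Fin m) ⊕ Fin 2) F) :
      Matrix ((Fin m ⊕ Fin m) ⊕ Fin 2) ((Fin m ⊕ Fin m) ⊕ Fin 2) F) = l • 1 := by
  apply scalar_of
  revert z
  rw [← LieClassical.OrthForms.coe_minusForm m F]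
  intro z hz
  refine (LieClassical.OrthCenter.mem_center_omega_iff
    (LieClassical.OmegaReindex.nondegenerate_of_left _
      (fun x hx => LieClassical.OrthForms.nondeg_minusForm m F a b hab x hx)) ?_ ?_ z).1 hz
  · simp only [Fintype.card_sum, Fintype.card_fin]; omega
  · refine ⟨Pi.single (Sum.inl (Sum.inl ⟨0, by omega⟩)) 1, ?_, ?_⟩
    · intro h
      have := congrFun h (Sum.inl (Sum.inl ⟨0, by omega⟩))
      simp at this
    · rw [LieClassical.OrthForms.coe_minusForm, LieClassical.OrthForms.quadFormMinus_apply]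
      simp

/-- General conclusion for the orthogonal groups. -/
theorem om_bound {F : Type} [Field F] [Fintype F] {ι : Type} [Fintype ι] [DecidableEq ι] {m : ℕ}
    {Q : (ι → F) → F} {e : Fin m ⊕ Fin m ↪ ι} (h : Hyp Q e) (hm : 2 ≤ m) (hι : Fintype.card ι ≤ 2 * m + 2)
    (hz : ∀ z ∈ Subgroup.center (Omega F Q), ∃ l : F, ((rOm Q z : GL ι F) : Matrix ι ι F) = l • 1)
    (hZ : Subgroup.center (POmega F Q) = ⊥) {p f : ℕ} (hp : 2 ≤ p) (hF : Fintype.card F = p ^ f)
    (hAut : Nat.card (MulAut (POmega F Q)) ≤ 24 * f * Nat.card (POmega F Q)) (k : ℕ)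
    (hRF : ¬ RF (POmega F Q) k) :
    Nat.card (POmega F Q) ≤
      (8 * (k * (48 * (4 * k + 10) ^ 2)) ^ 2 + 2) ^ ((4 * k + 10) ^ 2) := by
  have hfin : Finite (Omega F Q) := Finite.of_injective _ (rOm_injective Q)
  have hm0 : m ≤ 2 * k + 4 := by
    by_contra h'
    exact hRF (om_alt h k (by omega))
  have hι' : Fintype.card ι ≤ 4 * k + 10 := by omega
  have hind := index_le_of_card hZ hAut
  have hq : Fintype.card F - 1 < k * (48 * (4 * k + 10) ^ 2) * f := by
    by_contra h'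
    push Not at h'
    apply hRF
    refine om_fam h k _ hm hz hind (le_trans ?_ h')
    calc k * (2 * (Fintype.card ι) ^ 2 * (24 * f)) = k * (48 * (Fintype.card ι) ^ 2) * f := by ring
      _ ≤ k * (48 * (4 * k + 10) ^ 2) * f := by gcongr
  have hQ := bound _ p f (Fintype.card F) hp hF hq
  refine (om_card Q).trans ?_
  calc Fintype.card F ^ (Fintype.card ι ^ 2)
      ≤ (8 * (k * (48 * (4 * k + 10) ^ 2)) ^ 2 + 2) ^ (Fintype.card ι ^ 2) := by gcongr
    _ ≤ _ := Nat.pow_le_pow_right (by omega) (Nat.pow_le_pow_left hι' 2)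

/-- **`PΩ_{2m+1}(q)`**. -/
theorem podd_bound (k : ℕ) : ∃ N : ℕ, ∀ (F : Type) [Field F] [Fintype F] (m : ℕ), 3 ≤ m →
    Odd (Fintype.card F) → Subgroup.center (POmega F (quadFormOdd m F)) = ⊥ →
    ¬ RF (POmega F (quadFormOdd m F)) k → Nat.card (POmega F (quadFormOdd m F)) ≤ N := by
  refine ⟨(8 * (k * (48 * (4 * k + 10) ^ 2)) ^ 2 + 2) ^ ((4 * k + 10) ^ 2),
    fun F _ _ m hm hodd hZ hRF => ?_⟩
  obtain ⟨p, _, f, hp, hcard⟩ := FiniteField.card' F
  have : Fact p.Prime := ⟨hp⟩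
  have hf : 1 ≤ (f : ℕ) := f.pos
  have hpodd : Odd p := by
    rw [hcard] at hodd
    rcases Nat.even_or_odd p with h | h
    · exact absurd hodd (Nat.not_odd_iff_even.2 (h.pow_of_ne_zero (by omega)))
    · exact h
  have h2 : (2 : F) ≠ 0 := by
    intro h2
    have h3 : (p : ℕ) ∣ 2 := (CharP.cast_eq_zero_iff F p 2).1 (by exact_mod_cast h2)
    have h4 := (Nat.prime_dvd_prime_iff_eq hp Nat.prime_two).1 h3
    rw [h4] at hpodd
    exact absurd hpodd (by decide)
  refine om_bound (hyp_odd F m) (by omega) ?_ (center_odd F h2 m (by omega)) hZ hp.two_le hcard ?_ k hRF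
  · simp only [Fintype.card_sum, Fintype.card_fin, Fintype.card_unit]; omega
  · rw [Cfsg.Agent.S0816.result p f hf hcard hpodd m hm]
    gcongr
    omega

/-- **`PΩ⁺_{2m}(q)`**. -/
theorem pplus_bound (k : ℕ) : ∃ N : ℕ, ∀ (F : Type) [Field F] [Fintype F] (m : ℕ), 4 ≤ m →
    Subgroup.center (POmega F (quadFormPlus m F)) = ⊥ →
    ¬ RF (POmega F (quadFormPlus m F)) k → Nat.card (POmega F (quadFormPlus m F)) ≤ N := by
  refine ⟨(8 * (k * (48 * (4 * k + 10) ^ 2)) ^ 2 + 2) ^ ((4 * k + 10) ^ 2),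
    fun F _ _ m hm hZ hRF => ?_⟩
  obtain ⟨p, _, f, hp, hcard⟩ := FiniteField.card' F
  have : Fact p.Prime := ⟨hp⟩
  have hf : 1 ≤ (f : ℕ) := f.pos
  refine om_bound (hyp_plus F m) (by omega) ?_ (center_plus F m (by omega)) hZ hp.two_le hcard ?_ k hRF
  · simp only [Fintype.card_sum, Fintype.card_fin]; omega
  · rw [Cfsg.Agent.S0817.result p f hf hcard m hm]
    gcongr
    split_ifs <;> omega

/-- **`PΩ⁻_{2m}(q)`**. -/
theorem pminus_bound (k : ℕ) : ∃ N : ℕ, ∀ (F : Type) [Field F] [Fintype F] (m : ℕ) (a b : F), 4 ≤ m →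
    (∀ z₁ z₂ : F, z₁ ^ 2 + a * z₁ * z₂ + b * z₂ ^ 2 = 0 → z₁ = 0 ∧ z₂ = 0) →
    Subgroup.center (POmega F (quadFormMinus (m - 1) F a b)) = ⊥ →
    ¬ RF (POmega F (quadFormMinus (m - 1) F a b)) k →
    Nat.card (POmega F (quadFormMinus (m - 1) F a b)) ≤ N := by
  refine ⟨(8 * (k * (48 * (4 * k + 10) ^ 2)) ^ 2 + 2) ^ ((4 * k + 10) ^ 2),
    fun F _ _ m a b hm hab hZ hRF => ?_⟩
  obtain ⟨p, _, f, hp, hcard⟩ := FiniteField.card' F
  have : Fact p.Prime := ⟨hp⟩
  have hf : 1 ≤ (f : ℕ) := f.pos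
  refine om_bound (hyp_minus F (m - 1) a b) (by omega) ?_ (center_minus F (m - 1) (by omega) a b hab)
    hZ hp.two_le hcard ?_ k hRF
  · simp only [Fintype.card_sum, Fintype.card_fin]; omega
  · rw [Cfsg.Agent.S0818.result p f hf hcard m hm a b hab]
    gcongr
    split_ifs <;> omega

end Cfsg.Agent.H708.RFam
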