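import Cfsg.Agent.H852.NxcHS
import Cfsg.Agent.H58.Rec.Base

/-!
# The Higman–Sims group has no elements of order 16 (helper708)
-/

set_option autoImplicit false
set_option maxRecDepth 100000

namespace Cfsg.Agent.H708.RecHS

open Cfsg Subgroup Cfsg.Agent.HN Cfsg.Agent.HN.Pres Cfsg.Agent.HN.HS100 Cfsg.Agent.HN.H0Basic Cfsg.Agent.HN.P1408
open Cfsg.Agent.HN.Classes Cfsg.Agent.HN.ForallS Cfsg.Agent.KFacts.HS Cfsg.Agent.QTUnique.HS
open Cfsg.Agent.SporadicA.PermTab Cfsg.Agent.H852.NxcHS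

/-- the image of `i` under the eighth power of `w` -/
def p8 (w : List ℕ) (i : ℕ) : ℕ := t1 w (t1 w (t1 w (t1 w (t1 w (t1 w (t1 w (t1 w i)))))))

/-- the eighth power fixes `0` and `1` -/
def q16 (w : List ℕ) : Bool :=
  band (okw w) (oo (par w) (band (Nat.beq (p8 w 0) 0) (Nat.beq (p8 w 1) 1)))

/-- `0`, `1` is a base -/
def qB (w : List ℕ) : Bool :=
  band (okw w) (oo (par w) (oo (Syl.neB (t1 w 0) 0) (oo (Syl.neB (t1 w 1) 1) (eqB w []))))

theorem chk16 : allS q16 10 [] = true := by decide +kernel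

theorem chkB : allS qB 10 [] = true := by decide +kernel

section

variable {L : Type*} [Group L] (D : KFacts.HS.Mod L)

theorem apply_t1 {x : L} {w : List ℕ} (h : D.φL x = φ (hw w)) (i : Fin 100) :
    ((D.φL x i : Fin 100) : ℕ) = t1 w i := by
  rw [h, φ_hw_apply]

theorem pow_eight_T {x : L} (hx : x ∈ T D) : x ^ 8 = 1 := by
  obtain ⟨w, hQ, hp, hw'⟩ := word_of D chk16 (fun w h => ((band_eq_true _ _).1 h).1) hx
  have h1 : band (Nat.beq (p8 w 0) 0) (Nat.beq (p8 w 1) 1) = true := by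
    rcases oo_eq ((band_eq_true _ _).1 hQ).2 with h | h
    · rw [hp] at h; cases h
    · exact h
  rw [band_eq_true] at h1
  have h8 : ∀ i : Fin 100, ((D.φL (x ^ 8) i : Fin 100) : ℕ) = p8 w i := by
    intro i
    have e : D.φL (x ^ 8) i = D.φL x (D.φL x (D.φL x (D.φL x (D.φL x (D.φL x (D.φL x (D.φL x i))))))) := by
      rw [map_pow]
      simp only [pow_succ, pow_zero, one_mul, Equiv.Perm.mul_apply]
    rw [e]
    simp only [apply_t1 D hw']
    rfl
  have f0 : ((D.φL (x ^ 8) 0 : Fin 100) : ℕ) = 0 := (h8 0).trans (Nat.eq_of_beq_eq_true h1.1)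
  have f1 : ((D.φL (x ^ 8) 1 : Fin 100) : ℕ) = 1 := (h8 1).trans (Nat.eq_of_beq_eq_true h1.2)
  have hx8 : x ^ 8 ∈ T D := (T D : Subgroup L).pow_mem hx 8
  obtain ⟨v, hQ', hp', hv⟩ := word_of D chkB (fun w h => ((band_eq_true _ _).1 h).1) hx8
  rcases oo_eq ((band_eq_true _ _).1 hQ').2 with h | h
  · rw [hp'] at h; cases h
  rcases oo_eq h with h | h
  · exact absurd ((apply_t1 D hv 0).symm.trans f0) (Syl.neB_iff.1 h)
  rcases oo_eq h with h | h
  · exact absurd ((apply_t1 D hv 1).symm.trans f1) (Syl.neB_iff.1 h)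
  apply D.φL_inj
  rw [hv, eq_of_eqB h, hw_nil, map_one, map_one]

include D in
theorem no_sixteen [Finite L] : ¬ H58.Rec.HasOrd L 16 := by
  rintro ⟨g, hg⟩
  have hf : Fact (Nat.Prime 2) := ⟨Nat.prime_two⟩
  have hgp : IsPGroup 2 (zpowers g) := IsPGroup.of_card (n := 4) (by rw [Nat.card_zpowers, hg]; norm_num)
  obtain ⟨P, hP⟩ := hgp.exists_le_sylow
  obtain ⟨s, hs⟩ := MulAction.exists_smul_eq L P (T D)
  have h1 : s * g * s⁻¹ ∈ (T D : Subgroup L) := by
    rw [← hs, Sylow.coe_subgroup_smul]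
    exact Subgroup.smul_mem_pointwise_smul g (MulAut.conj s) _ (hP (mem_zpowers g))
  have h2 := pow_eight_T D h1
  rw [conj_pow] at h2
  have h3 : g ^ 8 = 1 := conj_eq_one_iff.1 h2
  have h4 := orderOf_dvd_of_pow_eq_one h3
  rw [hg] at h4
  norm_num at h4

end

end Cfsg.Agent.H708.RecHS
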