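import Cfsg.Agent.H708.RecHSB
import Cfsg.Agent.H708.RecHSC
import Cfsg.Agent.KFacts.HS.Base
import Cfsg.Agent.H306.Rec.MTwentyTwo
import Cfsg.Agent.H16.Rec.USix

/-!
# Recognition by spectrum: the Higman–Sims group (helper708)

`rec_hs` : a finite group with the same element orders as `HS` is isomorphic to `HS`.
-/

set_option autoImplicit false
set_option linter.unusedSectionVars false

namespace Cfsg.Agent.H708.RecHS

open Subgroup Cfsg Cfsg.Agent.OrdDiv Cfsg.Agent.H436 Cfsg.Agent.H58.Rec Cfsg.Agent.H455.Isolated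

universe u v

/-! ### the facts on `HS` -/

structure Facts (M : Type*) [Group M] : Prop where
  card : Nat.card M = 44352000
  iso7 : Isolated M 7
  iso11 : Isolated M 11
  n9 : ¬ HasOrd M 9
  n16 : ¬ HasOrd M 16
  n25 : ¬ HasOrd M 25
  y15 : HasOrd M 15
  frob3 : HasFrob M 3 8

theorem facts {M : Type u} [Group M] [Finite M] (hM : Spor.IsoHS M) : Facts M := by
  have hc : Nat.card M = 44352000 := NotCT.Orders.hs hM
  obtain ⟨D, ψ, R⟩ := H904.HSCent.exists_rep hM
  obtain ⟨a, c, a3, c8, c4, a1, hba, hbaa, hab, hcb, hinv⟩ := exists_ac R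
  obtain ⟨u, v, w, hu, hv, hw, huw, hvw, huv⟩ := R.exists_five
  have b3 : (c * a * c⁻¹) ^ 3 = 1 := by rw [conj_pow, a3]; group
  have b1 : c * a * c⁻¹ ≠ 1 := fun h => a1 (conj_eq_one_iff.1 h)
  exact
    { card := hc
      iso7 := H58.Rec.isolated_of_sc (by norm_num) fun x hx => H904.HSIso.card_seven hM hx
      iso11 := H58.Rec.isolated_of_sc (by norm_num) fun x hx => H904.HSIso.card_eleven hM hx
      n9 := no_nine_of (by rw [hc]; norm_num) a3 b3 hab a1 hba hbaa b1
      n16 := no_sixteen D
      n25 := no_twentyfive_of (by rw [hc]; norm_num) huw hvw huv (by rw [← hu, pow_orderOf_eq_one])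
        (by rw [← hv, pow_orderOf_eq_one]) (by rw [← hw, pow_orderOf_eq_one]) (by
          rintro rfl
          rw [orderOf_one] at hw
          norm_num at hw)
      y15 := exists_fifteen R
      frob3 := hasFrob_of_ac a3 c8 c4 a1 hab hcb hinv }

/-! ### element orders of alternating groups -/

theorem alt_of {α : Type*} [Fintype α] [DecidableEq α] {z : Equiv.Perm α} (hz : z ∈ alternatingGroup α)
    (h21 : z ^ 21 = 1) (h7 : z ^ 7 ≠ 1) (h3 : z ^ 3 ≠ 1) : HasOrd (alternatingGroup α) 21 := by
  refine ⟨⟨z, hz⟩, ?_⟩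
  rw [Subgroup.orderOf_mk]
  refine orderOf_eq_of_pow_and_pow_div_prime (by norm_num) h21 fun p hp hd => ?_
  have h1 : p = 3 ∨ p = 7 := by
    have h2 : p ∣ 3 * 7 := hd
    rcases (Nat.Prime.dvd_mul hp).1 h2 with h3 | h3
    · exact Or.inl ((Nat.prime_dvd_prime_iff_eq hp (by norm_num)).1 h3)
    · exact Or.inr ((Nat.prime_dvd_prime_iff_eq hp (by norm_num)).1 h3)
  rcases h1 with rfl | rfl
  · exact h7
  · exact h3

theorem alt_eleven : HasOrd (alternatingGroup (Fin 11)) 21 :=
  alt_of (z := c[0, 1, 2, 3, 4, 5, 6] * c[7, 8, 9]) (Equiv.Perm.mem_alternatingGroup.2 (by decide +kernel))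
    (by decide +kernel) (by decide +kernel) (by decide +kernel)

theorem alt_twelve : HasOrd (alternatingGroup (Fin 12)) 21 :=
  alt_of (z := c[0, 1, 2, 3, 4, 5, 6] * c[7, 8, 9]) (Equiv.Perm.mem_alternatingGroup.2 (by decide +kernel))
    (by decide +kernel) (by decide +kernel) (by decide +kernel)

theorem lst_hs : lst [2, 3, 5, 7, 11] [7, 11] 11 13 = [.alt 11, .alt 12, .m22, .mcl, .hs, .psu 6 2] := by
  decide +kernel

theorem primes_hs {q : ℕ} (hq : q.Prime) (h : q ∣ 44352000) : q ∈ [2, 3, 5, 7, 11] :=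
  H306.Rec.mem_of_dvd_pow (k := 9) (by decide) (by decide) hq h

/-- **The Higman–Sims group.** -/
theorem rec_hs (hN : NameHyp.{u}) {G : Type u} [Group G] [Finite G] {M : Type v} [Group M] [Finite M]
    (hM : Spor.IsoHS M) (h : Same G M) : Nonempty (G ≃* M) := by
  have F := facts hM
  have hc := F.card
  have g11 : Good M 11 := good_of_two (by norm_num) (by norm_num) (by rw [hc]; norm_num) F.iso11 (s := 7) (by norm_num)
    (by norm_num) (by rw [hc]; norm_num) F.iso7 (by norm_num)
  have g7 : Good M 7 := good_of_two (by norm_num) (by norm_num) (by rw [hc]; norm_num) F.iso7 (s := 11) (by norm_num)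
    (by norm_num) (by rw [hc]; norm_num) F.iso11 (by norm_num)
  have hno7 : ∀ p : ℕ, p.Prime → p ≠ 7 → ¬ HasOrd M (7 * p) := isolated_iff.1 F.iso7
  have hno11 : ∀ p : ℕ, p.Prime → p ≠ 11 → ¬ HasOrd M (11 * p) := isolated_iff.1 F.iso11
  have hns : ¬ Group.IsSolvable G := not_solvable_of_same h (r := 11) (s := 7) (t := 2) (by norm_num) (by norm_num)
    Nat.prime_two (by norm_num) (by norm_num) (by norm_num) (by rw [hc]; norm_num) (by rw [hc]; norm_num)
    (by rw [hc]; norm_num) (hno11 7 (by norm_num) (by norm_num)) (hno11 2 (by norm_num) (by norm_num))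
    (hno7 2 (by norm_num) (by norm_num))
  have h2G : 2 ∣ Nat.card G := (dvd_of_same h Nat.prime_two).2 (by rw [hc]; norm_num)
  obtain ⟨X, _, _, π, S, hred⟩ := exists_red hns h2G (g11.of_same h)
  have R := hred 11 (g11.of_same h)
  have R7 := hred 7 (g7.of_same h)
  have hfX : Finite X := inferInstance
  have hSn := R.normal
  have hSs : IsSimpleGroup S := R.simple
  have hcards : ∀ p : ℕ, p.Prime → p ∣ Nat.card G → p ∈ [2, 3, 5, 7, 11] := by
    intro p hp hpG
    have h1 := (dvd_of_same h hp).1 hpG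
    rw [hc] at h1
    exact primes_hs hp h1
  obtain ⟨g, hg, hgS⟩ := R.exists_name hN (ps := [2, 3, 5, 7, 11]) (rs := [7, 11]) (B := 11) (N := 13) (by norm_num)
    (by decide) (by norm_num) (by decide) hcards (by
      intro q hq
      simp only [List.mem_cons, List.not_mem_nil, or_false] at hq
      rcases hq with rfl | rfl
      · exact R7.dvd
      · exact R.dvd)
  rw [lst_hs] at hg
  have hS : ∀ n, HasOrd S n → HasOrd M n := fun n hn => (h n).1 (R.hasOrd' hn)
  have i7 : Isolated S 7 := by
    rw [isolated_iff]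
    exact fun s hs hsr h1 => hno7 s hs hsr (hS _ h1)
  have i11 : Isolated S 11 := by
    rw [isolated_iff]
    exact fun s hs hsr h1 => hno11 s hs hsr (hS _ h1)
  simp only [List.mem_cons, List.not_mem_nil, or_false] at hg
  rcases hg with rfl | rfl | rfl | rfl | rfl | rfl
  · -- `A₁₁`
    obtain ⟨e⟩ := hgS.real
    exact absurd (hS _ (alt_eleven.congr e.symm)) (hno7 3 (by norm_num) (by norm_num))
  · -- `A₁₂`
    obtain ⟨e⟩ := hgS.real
    exact absurd (hS _ (alt_twelve.congr e.symm)) (hno7 3 (by norm_num) (by norm_num))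
  · -- `M₂₂`
    have hcS : Nat.card S = 443520 := hgS.ord.trans (by decide +kernel)
    have hiso : Spor.IsoM22 S := hgS.real
    have hF : HasFrob S 11 5 := hasFrob_of_isolated (by norm_num) hcS i11 (by norm_num) (by norm_num) (by norm_num)
      (by decide +kernel)
    have hF7 : HasFrob S 7 3 := hasFrob_of_isolated (by norm_num) hcS i7 (by norm_num) (by norm_num) (by norm_num)
      (by decide +kernel)
    have k5 : ¬ 5 ∣ Nat.card π.ker := R.kill' (by norm_num) (by norm_num) (by norm_num) hF fun h1 => F.n25 ((h _).1 h1)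
    have k3 : ¬ 3 ∣ Nat.card π.ker := R.kill' (by norm_num) (by norm_num) (by norm_num) hF7 fun h1 => F.n9 ((h _).1 h1)
    have hX : HasOrd X 15 := ((h 15).2 F.y15).map_of_coprime π (by
      have : Nat.Coprime (3 * 5) (Nat.card π.ker) :=
        Nat.Coprime.mul_left ((Nat.Prime.coprime_iff_not_dvd (by norm_num)).2 k3)
          ((Nat.Prime.coprime_iff_not_dvd (by norm_num)).2 k5)
      exact this)
    have hidx := R.index_mem hcS (by decide +kernel)
    have hS15 : HasOrd S 15 := hX.subgroup_of_coprime S (by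
      have h4 : ∀ i ∈ idxs 11 443520, Nat.Coprime 15 i := by decide +kernel
      exact h4 _ hidx)
    exact absurd hS15 (H306.Rec.MTwentyTwo.no_five hiso (s := 3) (by norm_num) (by norm_num))
  · -- `McL`
    exact absurd (hS _ (H306.Rec.MTwentyTwo.hasOrd_of_nr (r := 7) (by norm_num)
      (H94.PG.Sp.nr_mcl (show Spor.IsoMcL S from hgS.real) (by norm_num) (by norm_num) (by norm_num))))
      (hno7 2 (by norm_num) (by norm_num))
  · -- `HS`
    have hiso : Spor.IsoHS S := hgS.real
    have FS := facts hiso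
    have hcS := FS.card
    have hF7 : HasFrob S 7 6 := hasFrob_of_isolated (by norm_num) hcS i7 (by norm_num) (by norm_num) (by norm_num)
      (by decide +kernel)
    have hF11 : HasFrob S 11 5 := hasFrob_of_isolated (by norm_num) hcS i11 (by norm_num) (by norm_num) (by norm_num)
      (by decide +kernel)
    obtain ⟨e⟩ := hiso
    obtain ⟨f⟩ := hM
    refine finish R ?_ (e.trans f.symm) (Or.inr ⟨KFacts.HS.index_inn ⟨f⟩, ?_⟩)
    · intro p hp hpG
      have h1 := hcards p hp hpG
      simp only [List.mem_cons, List.not_mem_nil, or_false] at h1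
      rcases h1 with rfl | rfl | rfl | rfl | rfl
      · exact R.kill' (by norm_num) (by norm_num) (by norm_num) FS.frob3 fun h1 => F.n16 ((h _).1 h1)
      · exact R.kill' (by norm_num) (by norm_num) (by norm_num) (hF7.of_dvd (m := 3) (by norm_num))
          fun h1 => F.n9 ((h _).1 h1)
      · exact R.kill' (by norm_num) (by norm_num) (by norm_num) hF11 fun h1 => F.n25 ((h _).1 h1)
      · exact R7.not_dvd
      · exact R.not_dvd
    · intro _ hidx _ hsp
      have h1 : HasOrd X (2 * 7) := hasOrd_two_mul_of_class S hidx (by decide)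
        ((hasOrd_prime (by norm_num)).2 (by rw [hcS]; norm_num))
        (fun a b ha hb => one_class (by norm_num) (by rw [hcS]; norm_num) hF7 a b ha hb)
      exact hno7 2 (by norm_num) (by norm_num) ((h _).1 (hsp _ h1))
  · -- `U₆(2)`
    obtain ⟨F', _, _, hF', ⟨e⟩⟩ := hgS.real
    have h18 : HasOrd S 18 := (H16.Rec.usix_eighteen (F := F') hF').congr e.symm
    exact absurd (hS _ (h18.of_dvd (m := 9) (by norm_num))) F.n9

end Cfsg.Agent.H708.RecHS
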