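import Mathlib
import Cfsg.Agent.H708.RFSL
import Cfsg.Agent.LieClassical.SUBasic
import Cfsg.Agent.S0815

/-!
# Real elements of `PSU_n(q)` (helper708, S4851)
-/

set_option autoImplicit false

namespace Cfsg.Agent.H708.RFam

open Matrix Cfsg

variable {F : Type*} [Field F]

theorem herm_pG (n q : ℕ) (σ : Equiv.Perm (Fin n)) (u v : Fin n → F) :
    hermForm n F q (((pG σ : GL (Fin n) F) : Matrix (Fin n) (Fin n) F) *ᵥ u)
      (((pG σ : GL (Fin n) F) : Matrix (Fin n) (Fin n) F) *ᵥ v) = hermForm n F q u v := by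
  unfold hermForm
  rw [pG_mulVec, pG_mulVec]
  exact Equiv.sum_comp σ.symm fun i => u i * v i ^ q

theorem herm_dG (n q : ℕ) (d : Fin n → Fˣ) (hd : ∀ i, d i ^ (q + 1) = 1) (u v : Fin n → F) :
    hermForm n F q (((dG d : GL (Fin n) F) : Matrix (Fin n) (Fin n) F) *ᵥ u)
      (((dG d : GL (Fin n) F) : Matrix (Fin n) (Fin n) F) *ᵥ v) = hermForm n F q u v := by
  unfold hermForm
  rw [dG_mulVec, dG_mulVec]
  refine Finset.sum_congr rfl fun i _ => ?_
  have h1 : ((d i : F)) ^ (q + 1) = 1 := by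
    have := congrArg (fun x : Fˣ => (x : F)) (hd i)
    simpa using this
  calc (d i : F) * u i * ((d i : F) * v i) ^ q = (d i : F) ^ (q + 1) * (u i * v i ^ q) := by ring
    _ = u i * v i ^ q := by rw [h1, one_mul]

/-- Even permutation matrices in `SU`. -/
def altSU (n q : ℕ) : alternatingGroup (Fin n) →* SU n F q :=
  (altSL n).codRestrict (SU n F q) fun σ => by
    intro u v
    exact herm_pG n q (σ : Equiv.Perm (Fin n)) u v

theorem altSU_injective (n q : ℕ) : Function.Injective (altSU (F := F) n q) := by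
  intro σ τ h
  exact altSL_injective n (congrArg Subtype.val h)

theorem psu_alt (n q k : ℕ) (h : 2 * k + 5 ≤ n) : RF (PSU n F q) k := by
  refine RF.of_alt_cover (QuotientGroup.mk' (Subgroup.center (SU n F q)))
    (fun z hz t => ?_) k n h (altSU n q) (altSU_injective n q)
  exact (Subgroup.mem_center_iff.1 ((QuotientGroup.eq_one_iff z).1 hz) t).symm

theorem tEnt_pow {n q : ℕ} (a b : Fin n) {t : Fˣ} (ht : t ^ (q + 1) = 1) (i : Fin n) :
    tEnt a b t i ^ (q + 1) = 1 := by
  unfold tEnt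
  split_ifs
  · exact ht
  · rw [inv_pow, ht, inv_one]
  · exact one_pow _

theorem neg_one_pow_card [Fintype F] {q : ℕ} (hF : Fintype.card F = q ^ 2) :
    (-1 : Fˣ) ^ (q + 1) = 1 := by
  by_cases h2 : (2 : F) = 0
  · have h1 : (-1 : Fˣ) = 1 := by
      apply Units.ext
      have : (1 : F) + 1 = 0 := by rw [one_add_one_eq_two, h2]
      rw [Units.val_neg, Units.val_one]
      exact neg_eq_of_add_eq_zero_left this
    rw [h1, one_pow]
  · have hodd : Odd (Fintype.card F) := by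
      have hch : ringChar F ≠ 2 := by
        intro hc
        apply h2
        have := ringChar.Nat.cast_ringChar (R := F)
        rw [hc] at this
        exact_mod_cast this
      exact Nat.odd_iff.2 (FiniteField.odd_card_of_char_ne_two hch)
    rw [hF] at hodd
    have hq : Odd q := by
      rcases Nat.even_or_odd q with h | h
      · exact absurd hodd (Nat.not_odd_iff_even.2 (h.pow_of_ne_zero two_ne_zero))
      · exact h
    exact (hq.add_one).neg_one_pow

/-- The torus elements in `SU`. -/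
def tSU {n q : ℕ} (a b : Fin n) (hab : a ≠ b) (t : {t : Fˣ // t ^ (q + 1) = 1}) : SU n F q :=
  ⟨tSL a b hab t, by
    intro u v
    exact herm_dG n q (tEnt a b (t : Fˣ)) (tEnt_pow a b t.2) u v⟩

theorem mem_SU_of {n q : ℕ} (A : Matrix.SpecialLinearGroup (Fin n) F) (g : GL (Fin n) F)
    (hA : Matrix.SpecialLinearGroup.toGL A = g)
    (h : ∀ u v, hermForm n F q ((g : Matrix (Fin n) (Fin n) F) *ᵥ u)
      ((g : Matrix (Fin n) (Fin n) F) *ᵥ v) = hermForm n F q u v) : A ∈ SU n F q := by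
  subst hA
  exact h

theorem wSL_mem [Fintype F] {n q : ℕ} (hF : Fintype.card F = q ^ 2) (a b : Fin n) (hab : a ≠ b) :
    wSL (F := F) a b hab ∈ SU n F q := by
  refine mem_SU_of _ _ (toGL_wSL a b hab) fun u v => ?_
  rw [Units.val_mul, ← Matrix.mulVec_mulVec, ← Matrix.mulVec_mulVec, herm_pG, herm_dG]
  intro i
  unfold sEnt
  split_ifs
  · exact neg_one_pow_card hF
  · exact one_pow _

/-- The natural representation of `SU`. -/
def rSU (n q : ℕ) : SU n F q →* GL (Fin n) F :=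
  (SpecialLinearGroup.toGL (n := Fin n) (R := F)).comp (SU n F q).subtype

theorem rSU_tSU {n q : ℕ} (a b : Fin n) (hab : a ≠ b) (t : {t : Fˣ // t ^ (q + 1) = 1}) :
    ((rSU n q (tSU a b hab t) : GL (Fin n) F) : Matrix (Fin n) (Fin n) F) =
      Matrix.diagonal fun i => (tEnt a b (t : Fˣ) i : F) := by
  have h1 : rSU n q (tSU a b hab t) = dG (tEnt a b (t : Fˣ)) := toGL_tSL (F := F) a b hab (t : Fˣ)
  rw [h1, coe_dG]

theorem rSU_center [Fintype F] {n q : ℕ} (hF : Fintype.card F = q ^ 2) (hn : 3 ≤ n) (z : SU n F q)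
    (hz : z ∈ Subgroup.center (SU n F q)) :
    ∃ l : F, ((rSU n q z : GL (Fin n) F) : Matrix (Fin n) (Fin n) F) = l • 1 := by
  obtain ⟨c, hcn, hcq, rfl⟩ := (Cfsg.Agent.LieClassical.SUBasic.mem_center_SU_iff hF hn z).1 hz
  refine ⟨c, ?_⟩
  rw [Matrix.smul_one_eq_diagonal]
  exact Cfsg.Agent.LieClassical.SUBasic.coe_suScalar q c hcn hcq

theorem psu_conj [Fintype F] (n q : ℕ) (hF : Fintype.card F = q ^ 2) (hn : 3 ≤ n) (a b : Fin n)
    (hab : a ≠ b) (i : {t : Fˣ // t ^ (q + 1) = 1}) :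
    {j | IsConj (QuotientGroup.mk' (Subgroup.center (SU n F q)) (tSU a b hab j))
      (QuotientGroup.mk' (Subgroup.center (SU n F q)) (tSU a b hab i))}.ncard ≤ 2 * n ^ 2 := by
  have h1 := card_conj_le (I := {t : Fˣ // t ^ (q + 1) = 1})
    (QuotientGroup.mk' (Subgroup.center (SU n F q))) (QuotientGroup.mk'_surjective _)
    (rSU n q) (fun z hz => rSU_center hF hn z ((QuotientGroup.eq_one_iff z).1 hz)) (tSU a b hab)
    (fun t i => (tEnt a b (t : Fˣ) i : F)) (rSU_tSU a b hab) a b 2 ?_ i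
  · rw [Fintype.card_fin] at h1
    exact h1
  · intro y
    have h4 : Set.ncard ((fun t : {t : Fˣ // t ^ (q + 1) = 1} => (t : Fˣ)) ''
        {t | (((t : Fˣ) : F) ^ 2) = y}) ≤ 2 := by
      refine le_trans (Set.ncard_le_ncard ?_ (Set.toFinite _)) (ncard_sq_le y)
      rintro _ ⟨t, ht, rfl⟩
      exact ht
    rw [Set.ncard_image_of_injective _ Subtype.val_injective] at h4
    refine le_trans (Set.ncard_le_ncard ?_ (Set.toFinite _)) h4
    intro t ht
    have h3 : ((tEnt a b (t : Fˣ) a : Fˣ) : F) / ((tEnt a b (t : Fˣ) b : Fˣ) : F) = y := ht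
    unfold tEnt at h3
    rw [if_pos rfl, if_neg hab.symm, if_pos rfl, Units.val_inv_eq_inv_val, div_inv_eq_mul] at h3
    change ((t : Fˣ) : F) ^ 2 = y
    rw [pow_two]
    exact h3

/-- The Weyl element in `SU`. -/
def wSU [Fintype F] {n q : ℕ} (hF : Fintype.card F = q ^ 2) (a b : Fin n) (hab : a ≠ b) : SU n F q :=
  ⟨wSL a b hab, wSL_mem hF a b hab⟩

theorem rSU_injective (n q : ℕ) : Function.Injective (rSU (F := F) n q) := by
  intro x y h
  exact Subtype.ext (SpecialLinearGroup.toGL_injective h)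

theorem wSU_tSU [Fintype F] {n q : ℕ} (hF : Fintype.card F = q ^ 2) (a b : Fin n) (hab : a ≠ b)
    (t : {t : Fˣ // t ^ (q + 1) = 1}) :
    wSU hF a b hab * tSU a b hab t * (wSU hF a b hab)⁻¹ = (tSU a b hab t)⁻¹ :=
  Subtype.ext (wSL_tSL a b hab (t : Fˣ))

theorem psu_real [Fintype F] {n q : ℕ} (hF : Fintype.card F = q ^ 2) (a b : Fin n) (hab : a ≠ b)
    (t : {t : Fˣ // t ^ (q + 1) = 1}) :
    IsConj (QuotientGroup.mk' (Subgroup.center (SU n F q)) (tSU a b hab t))
      (QuotientGroup.mk' (Subgroup.center (SU n F q)) (tSU a b hab t))⁻¹ := by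
  rw [← map_inv]
  exact MonoidHom.map_isConj _ (isConj_iff.2 ⟨wSU hF a b hab, wSU_tSU hF a b hab t⟩)

theorem psu_fam [Fintype F] (n q k B : ℕ) (hF : Fintype.card F = q ^ 2) (hn : 3 ≤ n)
    (hB : (MulAut.conj : PSU n F q →* _).range.index ≤ B)
    (hk : k * (2 * n ^ 2 * B) ≤ q + 1) : RF (PSU n F q) k := by
  classical
  let a : Fin n := ⟨0, by omega⟩
  let b : Fin n := ⟨1, by omega⟩
  have hab : a ≠ b := by
    intro h
    have := congrArg Fin.val h
    simp [a, b] at this
  have hq1 : 1 < Fintype.card F := Fintype.one_lt_card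
  have hcard : Nat.card {t : Fˣ // t ^ (q + 1) = 1} = q + 1 := by
    apply card_roots
    rw [hF]
    refine ⟨q - 1, ?_⟩
    have hq : 1 ≤ q := by
      rcases Nat.eq_zero_or_pos q with h | h
      · subst h; rw [hF] at hq1; norm_num at hq1
      · exact h
    obtain ⟨r, rfl⟩ := Nat.exists_eq_add_of_le hq
    have : (1 + r) ^ 2 = (1 + r + 1) * (1 + r - 1) + 1 := by
      rw [Nat.add_sub_cancel_left]
      ring
    omega
  let _i : Fintype {t : Fˣ // t ^ (q + 1) = 1} := Fintype.ofFinite _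
  refine RF.of_family (I := {t : Fˣ // t ^ (q + 1) = 1})
    (fun t => QuotientGroup.mk' (Subgroup.center (SU n F q)) (tSU a b hab t))
    (fun t => ?_) (2 * n ^ 2) B k (by positivity) (fun i => ?_) hB
    (by rw [← Nat.card_eq_fintype_card, hcard]; exact hk)
  · exact psu_real hF a b hab t
  · exact psu_conj n q hF hn a b hab i

/-- **`PSU_n(q)`**. -/
theorem psu_bound (k : ℕ) : ∃ N : ℕ, ∀ (F : Type) [Field F] [Fintype F] (n q : ℕ),
    Fintype.card F = q ^ 2 → 3 ≤ n → ¬ (n = 3 ∧ q = 2) → Subgroup.center (PSU n F q) = ⊥ →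
    ¬ RF (PSU n F q) k → Nat.card (PSU n F q) ≤ N := by
  refine ⟨((8 * (k * (4 * (2 * k + 4) ^ 3)) ^ 2 + 2) ^ 2) ^ ((2 * k + 4) ^ 2), ?_⟩
  intro F _ _ n q hF hn h32 hZ hRF
  classical
  have hn0 : n ≤ 2 * k + 4 := by
    by_contra h
    exact hRF (psu_alt n q k (by omega))
  obtain ⟨p, _, m, hp, hcard⟩ := FiniteField.card' F
  have : Fact p.Prime := ⟨hp⟩
  have hq1 : 1 < q := by
    by_contra h
    have h1 : 1 < Fintype.card F := Fintype.one_lt_card
    rw [hF] at h1
    have : q ≤ 1 := by omega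
    have := Nat.pow_le_pow_left this 2
    omega
  obtain ⟨f, -, hqf⟩ := (Nat.dvd_prime_pow hp).1 (show q ∣ p ^ (m : ℕ) by
    rw [← hcard, hF]; exact dvd_pow_self q two_ne_zero)
  have hf : 1 ≤ f := by
    rcases Nat.eq_zero_or_pos f with h | h
    · rw [h, pow_zero] at hqf; omega
    · exact h
  have hAut := Cfsg.Agent.S0815.result (F := F) p f hf hqf hF n hn h32
  have hind : (MulAut.conj : PSU n F q →* _).range.index ≤ 2 * f * n := by
    apply index_le_of_card hZ
    rw [hAut]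
    have h2 : Nat.gcd n (q + 1) ≤ n := Nat.gcd_le_left _ (by omega)
    calc Nat.gcd n (q + 1) * (2 * f) * Nat.card (PSU n F q)
        ≤ n * (2 * f) * Nat.card (PSU n F q) := by gcongr
      _ = 2 * f * n * Nat.card (PSU n F q) := by ring
  have hq : q - 1 < k * (4 * (2 * k + 4) ^ 3) * f := by
    by_contra h
    push Not at h
    apply hRF
    refine psu_fam n q k _ hF hn hind (le_trans ?_ (h.trans (by omega)))
    calc k * (2 * n ^ 2 * (2 * (f : ℕ) * n)) = k * (4 * n ^ 3) * f := by ring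
      _ ≤ k * (4 * (2 * k + 4) ^ 3) * f := by gcongr
  have hQ := bound _ p f q hp.two_le hqf hq
  have h5 : Nat.card (PSU n F q) ≤ Nat.card (SU n F q) :=
    Nat.card_le_card_of_surjective _ (QuotientGroup.mk'_surjective (Subgroup.center (SU n F q)))
  have h5' : Nat.card (SU n F q) ≤ Nat.card (SpecialLinearGroup (Fin n) F) :=
    Nat.card_le_card_of_injective _ Subtype.val_injective
  have h6 : Nat.card (SpecialLinearGroup (Fin n) F) ≤ Nat.card (Matrix (Fin n) (Fin n) F) :=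
    Nat.card_le_card_of_injective _ Subtype.val_injective
  have h7 : Nat.card (Matrix (Fin n) (Fin n) F) = Fintype.card F ^ (n ^ 2) := by
    have : Nat.card (Matrix (Fin n) (Fin n) F) = Nat.card (Fin n → Fin n → F) := rfl
    rw [this, Nat.card_eq_fintype_card]
    simp [pow_two, pow_mul]
  refine h5.trans (h5'.trans (h6.trans ?_))
  rw [h7, hF]
  calc (q ^ 2) ^ (n ^ 2) ≤ ((8 * (k * (4 * (2 * k + 4) ^ 3)) ^ 2 + 2) ^ 2) ^ (n ^ 2) := by gcongr
    _ ≤ ((8 * (k * (4 * (2 * k + 4) ^ 3)) ^ 2 + 2) ^ 2) ^ ((2 * k + 4) ^ 2) :=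
        Nat.pow_le_pow_right (by positivity) (Nat.pow_le_pow_left hn0 2)

end Cfsg.Agent.H708.RFam
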