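import Mathlib
import Cfsg.Agent.H708.RFSL
import Cfsg.Agent.ClassicalGeometry.SympInvolutions
import Cfsg.Agent.S0814

/-!
# Real elements of `PSp_2m(q)` (helper708, S4851)
-/

set_option autoImplicit false

namespace Cfsg.Agent.H708.RFam

open Matrix Cfsg

variable {F : Type*} [Field F]

theorem blk_mem {m : ℕ} (A B : Matrix (Fin m) (Fin m) F) (h : A * Bᵀ = 1) :
    Matrix.fromBlocks A 0 0 B ∈ Matrix.symplecticGroup (Fin m) F := by
  have h' : B * Aᵀ = 1 := by
    have := congrArg Matrix.transpose h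
    rwa [Matrix.transpose_mul, Matrix.transpose_transpose, Matrix.transpose_one] at this
  rw [SymplecticGroup.mem_iff, Matrix.J, Matrix.fromBlocks_transpose, Matrix.fromBlocks_multiply,
    Matrix.fromBlocks_multiply]
  simp [h, h']

/-- Permutation matrices in `Sp`. -/
def altSp (m : ℕ) : alternatingGroup (Fin m) →* Matrix.symplecticGroup (Fin m) F where
  toFun σ := ⟨Matrix.fromBlocks (((σ : Equiv.Perm (Fin m))⁻¹).permMatrix F) 0 0
      (((σ : Equiv.Perm (Fin m))⁻¹).permMatrix F), by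
    apply blk_mem
    rw [Matrix.transpose_permMatrix, ← Matrix.permMatrix_mul, inv_inv, mul_inv_cancel,
      Matrix.permMatrix_one]⟩
  map_one' := by
    apply Subtype.ext
    change Matrix.fromBlocks _ _ _ _ = (1 : Matrix _ _ F)
    rw [Subgroup.coe_one, inv_one, Matrix.permMatrix_one, Matrix.fromBlocks_one]
  map_mul' σ τ := by
    apply Subtype.ext
    change Matrix.fromBlocks _ _ _ _ = Matrix.fromBlocks _ _ _ _ * Matrix.fromBlocks _ _ _ _
    rw [Matrix.fromBlocks_multiply, Subgroup.coe_mul, _root_.mul_inv_rev, Matrix.permMatrix_mul]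
    simp

theorem altSp_injective (m : ℕ) : Function.Injective (altSp (F := F) m) := by
  intro σ τ h
  have h1 := congrArg Subtype.val h
  have h2 : (((σ : Equiv.Perm (Fin m))⁻¹).permMatrix F) = (((τ : Equiv.Perm (Fin m))⁻¹).permMatrix F) :=
    (Matrix.fromBlocks_inj.1 h1).1
  apply Subtype.ext
  apply pG_injective (F := F)
  exact Units.ext h2

theorem psp_alt (m k : ℕ) (h : 2 * k + 5 ≤ m) : RF (PSp m F) k := by
  refine RF.of_alt_cover (QuotientGroup.mk' (Subgroup.center (Matrix.symplecticGroup (Fin m) F)))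
    (fun z hz t => ?_) k m h (altSp m) (altSp_injective m)
  exact (Subgroup.mem_center_iff.1 ((QuotientGroup.eq_one_iff z).1 hz) t).symm

/-- The entries of the torus elements. -/
def uEnt {m : ℕ} (a : Fin m) (t : Fˣ) : Fin m → F := fun i => if i = a then (t : F) else 1

theorem uEnt_mul {m : ℕ} (a : Fin m) (t s : Fˣ) (h : t * s = 1) :
    Matrix.diagonal (uEnt a t) * Matrix.diagonal (uEnt a s) = 1 := by
  rw [Matrix.diagonal_mul_diagonal, ← Matrix.diagonal_one]
  congr 1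
  funext i
  unfold uEnt
  split_ifs
  · exact congrArg (fun x : Fˣ => (x : F)) h
  · rw [mul_one]

/-- The torus elements in `Sp`. -/
def tSp {m : ℕ} (a : Fin m) (t : Fˣ) : Matrix.symplecticGroup (Fin m) F :=
  ⟨Matrix.fromBlocks (Matrix.diagonal (uEnt a t)) 0 0 (Matrix.diagonal (uEnt a t⁻¹)), by
    apply blk_mem
    rw [Matrix.diagonal_transpose]
    exact uEnt_mul a t t⁻¹ (mul_inv_cancel t)⟩

theorem tSp_inv {m : ℕ} (a : Fin m) (t : Fˣ) : (tSp a t)⁻¹ = tSp a t⁻¹ := by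
  rw [inv_eq_iff_mul_eq_one]
  apply Subtype.ext
  change Matrix.fromBlocks _ _ _ _ * Matrix.fromBlocks _ _ _ _ = (1 : Matrix _ _ F)
  rw [Matrix.fromBlocks_multiply, uEnt_mul a t t⁻¹ (mul_inv_cancel t), inv_inv,
    uEnt_mul a t⁻¹ t (inv_mul_cancel t), ← Matrix.fromBlocks_one]
  simp

theorem J_tSp {m : ℕ} (a : Fin m) (t : Fˣ) :
    SymplecticGroup.symJ (Fin m) F * tSp a t * (SymplecticGroup.symJ (Fin m) F)⁻¹ = (tSp a t)⁻¹ := by
  rw [mul_inv_eq_iff_eq_mul, tSp_inv]
  apply Subtype.ext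
  change Matrix.J (Fin m) F * Matrix.fromBlocks _ _ _ _ = Matrix.fromBlocks _ _ _ _ * Matrix.J (Fin m) F
  rw [Matrix.J, Matrix.fromBlocks_multiply, Matrix.fromBlocks_multiply, inv_inv]
  simp

/-- The natural representation of `Sp`. -/
def rSp (m : ℕ) : Matrix.symplecticGroup (Fin m) F →* GL (Fin m ⊕ Fin m) F :=
  (Matrix.symplecticGroup (Fin m) F).subtype.toHomUnits

theorem coe_rSp {m : ℕ} (z : Matrix.symplecticGroup (Fin m) F) :
    ((rSp m z : GL (Fin m ⊕ Fin m) F) : Matrix (Fin m ⊕ Fin m) (Fin m ⊕ Fin m) F) = z := rfl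

theorem rSp_tSp {m : ℕ} (a : Fin m) (t : Fˣ) :
    ((rSp m (tSp a t) : GL (Fin m ⊕ Fin m) F) : Matrix (Fin m ⊕ Fin m) (Fin m ⊕ Fin m) F) =
      Matrix.diagonal (Sum.elim (uEnt a t) (uEnt a t⁻¹)) := by
  rw [coe_rSp]
  change Matrix.fromBlocks _ _ _ _ = _
  rw [Matrix.fromBlocks_diagonal]

theorem rSp_center {m : ℕ} (z : Matrix.symplecticGroup (Fin m) F)
    (hz : z ∈ Subgroup.center (Matrix.symplecticGroup (Fin m) F)) :
    ∃ l : F, ((rSp m z : GL (Fin m ⊕ Fin m) F) : Matrix (Fin m ⊕ Fin m) (Fin m ⊕ Fin m) F) = l • 1 := by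
  rw [coe_rSp]
  rcases Cfsg.Agent.ClassicalGeometry.SympInvolutions.center_eq hz with h | h
  · exact ⟨1, by rw [h, one_smul]⟩
  · exact ⟨-1, by rw [h, neg_smul, one_smul]⟩

theorem psp_conj [Fintype F] (m : ℕ) (a : Fin m) (i : Fˣ) :
    {j | IsConj (QuotientGroup.mk' (Subgroup.center (Matrix.symplecticGroup (Fin m) F)) (tSp a j))
      (QuotientGroup.mk' (Subgroup.center (Matrix.symplecticGroup (Fin m) F)) (tSp a i))}.ncard ≤
      2 * (2 * m) ^ 2 := by
  have h1 := card_conj_le (I := Fˣ)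
    (QuotientGroup.mk' (Subgroup.center (Matrix.symplecticGroup (Fin m) F)))
    (QuotientGroup.mk'_surjective _)
    (rSp m) (fun z hz => rSp_center z ((QuotientGroup.eq_one_iff z).1 hz)) (tSp a)
    (fun t => Sum.elim (uEnt a t) (uEnt a t⁻¹)) (rSp_tSp a) (Sum.inl a) (Sum.inr a) 2 ?_ i
  · rw [Fintype.card_sum, Fintype.card_fin, ← two_mul] at h1
    exact h1
  · intro y
    refine le_trans (Set.ncard_le_ncard ?_ (Set.toFinite _)) (ncard_sq_le y)
    intro t ht
    have h3 : uEnt a t a / uEnt a t⁻¹ a = y := ht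
    unfold uEnt at h3
    rw [if_pos rfl, if_pos rfl, Units.val_inv_eq_inv_val, div_inv_eq_mul] at h3
    change (t : F) ^ 2 = y
    rw [pow_two]
    exact h3

theorem psp_real {m : ℕ} (a : Fin m) (t : Fˣ) :
    IsConj (QuotientGroup.mk' (Subgroup.center (Matrix.symplecticGroup (Fin m) F)) (tSp a t))
      (QuotientGroup.mk' (Subgroup.center (Matrix.symplecticGroup (Fin m) F)) (tSp a t))⁻¹ := by
  rw [← map_inv]
  exact MonoidHom.map_isConj _ (isConj_iff.2 ⟨_, J_tSp a t⟩)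

theorem psp_fam [Fintype F] (m k B : ℕ) (hm : 1 ≤ m)
    (hB : (MulAut.conj : PSp m F →* _).range.index ≤ B)
    (hk : k * (2 * (2 * m) ^ 2 * B) ≤ Fintype.card F - 1) : RF (PSp m F) k := by
  classical
  have hfin : Finite (Matrix.symplecticGroup (Fin m) F) := Subtype.finite
  let a : Fin m := ⟨0, by omega⟩
  have hcard : Fintype.card Fˣ = Fintype.card F - 1 := Fintype.card_units F
  exact RF.of_family (I := Fˣ)
    (fun t => QuotientGroup.mk' (Subgroup.center (Matrix.symplecticGroup (Fin m) F)) (tSp a t))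
    (fun t => psp_real a t) (2 * (2 * m) ^ 2) B k (by positivity) (fun i => psp_conj m a i) hB
    (by rw [hcard]; exact hk)

/-- **`PSp_2m(q)`**. -/
theorem psp_bound (k : ℕ) : ∃ N : ℕ, ∀ (F : Type) [Field F] [Fintype F] (m : ℕ), 2 ≤ m →
    (m = 2 → 3 ≤ Fintype.card F) → Subgroup.center (PSp m F) = ⊥ →
    ¬ RF (PSp m F) k → Nat.card (PSp m F) ≤ N := by
  refine ⟨(8 * (k * (32 * (2 * k + 4) ^ 2)) ^ 2 + 2) ^ ((2 * (2 * k + 4)) ^ 2), ?_⟩
  intro F _ _ m hm h22 hZ hRF
  classical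
  have hm0 : m ≤ 2 * k + 4 := by
    by_contra h
    exact hRF (psp_alt m k (by omega))
  obtain ⟨p, _, f, hp, hcard⟩ := FiniteField.card' F
  have : Fact p.Prime := ⟨hp⟩
  have hf : 1 ≤ (f : ℕ) := f.pos
  have hfin : Finite (Matrix.symplecticGroup (Fin m) F) := Subtype.finite
  have hAut := Cfsg.Agent.S0814.result (F := F) p f hf hcard m hm (fun h => hcard ▸ h22 h)
  have hind : (MulAut.conj : PSp m F →* _).range.index ≤ 4 * f := by
    apply index_le_of_card hZ
    rw [hAut]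
    have h1 : (if m = 2 ∧ p = 2 then 2 else 1) ≤ 2 := by split_ifs <;> omega
    have h2 : Nat.gcd 2 (p ^ (f : ℕ) - 1) ≤ 2 := Nat.gcd_le_left _ (by omega)
    calc (if m = 2 ∧ p = 2 then 2 else 1) * Nat.gcd 2 (p ^ (f : ℕ) - 1) * f * Nat.card (PSp m F)
        ≤ 2 * 2 * f * Nat.card (PSp m F) := by gcongr
      _ = 4 * f * Nat.card (PSp m F) := by ring
  have hq : Fintype.card F - 1 < k * (32 * (2 * k + 4) ^ 2) * f := by
    by_contra h
    push Not at h
    apply hRF
    refine psp_fam m k _ (by omega) hind (le_trans ?_ h)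
    calc k * (2 * (2 * m) ^ 2 * (4 * (f : ℕ))) = k * (32 * m ^ 2) * f := by ring
      _ ≤ k * (32 * (2 * k + 4) ^ 2) * f := by gcongr
  have hQ := bound _ p f (Fintype.card F) hp.two_le hcard hq
  have h5 : Nat.card (PSp m F) ≤ Nat.card (Matrix.symplecticGroup (Fin m) F) :=
    Nat.card_le_card_of_surjective _
      (QuotientGroup.mk'_surjective (Subgroup.center (Matrix.symplecticGroup (Fin m) F)))
  have h6 : Nat.card (Matrix.symplecticGroup (Fin m) F) ≤
      Nat.card (Matrix (Fin m ⊕ Fin m) (Fin m ⊕ Fin m) F) :=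
    Nat.card_le_card_of_injective _ Subtype.val_injective
  have h7 : Nat.card (Matrix (Fin m ⊕ Fin m) (Fin m ⊕ Fin m) F) = Fintype.card F ^ ((2 * m) ^ 2) := by
    have : Nat.card (Matrix (Fin m ⊕ Fin m) (Fin m ⊕ Fin m) F) =
      Nat.card (Fin m ⊕ Fin m → Fin m ⊕ Fin m → F) := rfl
    rw [this, Nat.card_eq_fintype_card]
    simp only [Fintype.card_fun, Fintype.card_sum, Fintype.card_fin, ← two_mul]
    rw [← pow_mul, pow_two]
  refine h5.trans (h6.trans ?_)
  rw [h7]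
  calc Fintype.card F ^ ((2 * m) ^ 2) ≤ (8 * (k * (32 * (2 * k + 4) ^ 2)) ^ 2 + 2) ^ ((2 * m) ^ 2) := by gcongr
    _ ≤ (8 * (k * (32 * (2 * k + 4) ^ 2)) ^ 2 + 2) ^ ((2 * (2 * k + 4)) ^ 2) :=
        Nat.pow_le_pow_right (by omega) (Nat.pow_le_pow_left (by omega) 2)

end Cfsg.Agent.H708.RFam
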