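import Mathlib
import Cfsg.Agent.H708.RFSL
import Cfsg.Agent.ChevalleyStructure.SL2Hom
import Cfsg.Agent.ChevalleyStructure.HMatDiagAll

/-!
# Real elements of matrix groups containing a root `SL₂` (helper708, S4851)
-/

set_option autoImplicit false

namespace Cfsg.Agent.H708.RFam

open Matrix Cfsg Cfsg.Lie Cfsg.Agent.ChevalleyStructure
open Cfsg.Agent.ChevalleyStructure.SL2Rep

section lin

variable {ι K : Type*} [Fintype ι] [DecidableEq ι] [Field K] [Fintype K]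

/-- Family lemma for linear groups. -/
theorem lin_fam {S : Subgroup (GL ι K)} {I : Type*} [Fintype I] (x : I → S) (w : S)
    (hw : ∀ i, w * x i * w⁻¹ = (x i)⁻¹) (d : I → ι → K)
    (hd : ∀ i, (((x i : S) : GL ι K) : Matrix ι ι K) = Matrix.diagonal (d i)) (j₀ j₁ : ι) (e : ℕ)
    (he0 : 0 < e) (he : ∀ y : K, {i : I | d i j₀ / d i j₁ = y}.ncard ≤ e) (k B : ℕ)
    (hB : (MulAut.conj : S →* MulAut S).range.index ≤ B)
    (hk : k * (e * Fintype.card ι ^ 2 * B) ≤ Fintype.card I) : RF S k := by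
  have hι : 0 < Fintype.card ι := Fintype.card_pos_iff.2 ⟨j₀⟩
  have hS : Finite S := inferInstance
  refine RF.of_family x (fun i => isConj_iff.2 ⟨w, hw i⟩) (e * Fintype.card ι ^ 2) B k
    (by positivity) (fun i => ?_) hB hk
  refine card_conj_le (I := I) (MonoidHom.id S) Function.surjective_id S.subtype
    (fun z hz => ⟨1, ?_⟩) x d hd j₀ j₁ e he i
  have : z = 1 := hz
  rw [this, one_smul]
  rfl

end lin

section sl2

variable {F : Type*} [Field F]

/-- `diag(t, t⁻¹)`. -/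
def dd (t : Fˣ) : Matrix.SpecialLinearGroup (Fin 2) F :=
  ⟨!![(t : F), 0; 0, ((t⁻¹ : Fˣ) : F)], by
    rw [Matrix.det_fin_two_of, mul_zero, sub_zero, ← Units.val_mul, mul_inv_cancel, Units.val_one]⟩

/-- The Weyl element. -/
def ww : Matrix.SpecialLinearGroup (Fin 2) F := ⟨!![0, 1; -1, 0], by simp [Matrix.det_fin_two_of]⟩

theorem dd_inv (t : Fˣ) : (dd t)⁻¹ = dd t⁻¹ := by
  rw [inv_eq_iff_mul_eq_one]
  apply Subtype.ext
  change !![(t : F), 0; 0, ((t⁻¹ : Fˣ) : F)] * !![((t⁻¹ : Fˣ) : F), 0; 0, (((t⁻¹)⁻¹ : Fˣ) : F)] = 1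
  rw [inv_inv, Matrix.mul_fin_two, Matrix.one_fin_two]
  simp

theorem ww_dd (t : Fˣ) : ww * dd t * ww⁻¹ = (dd t)⁻¹ := by
  rw [mul_inv_eq_iff_eq_mul, dd_inv]
  apply Subtype.ext
  change !![0, 1; -1, 0] * !![(t : F), 0; 0, ((t⁻¹ : Fˣ) : F)] =
    !![((t⁻¹ : Fˣ) : F), 0; 0, (((t⁻¹)⁻¹ : Fˣ) : F)] * !![0, 1; -1, 0]
  rw [inv_inv, Matrix.mul_fin_two, Matrix.mul_fin_two]
  simp

/-- `diag(t, t⁻¹)` as a product of elementary matrices. -/
theorem dd_eq (t : Fˣ) : dd t = SL2Hom.up (t : F) * SL2Hom.lo (-((t⁻¹ : Fˣ) : F)) * SL2Hom.up (t : F) *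
    (SL2Hom.up (-1) * SL2Hom.lo 1 * SL2Hom.up (-1)) := by
  apply Subtype.ext
  change !![(t : F), 0; 0, ((t⁻¹ : Fˣ) : F)] = !![1, (t : F); 0, 1] * !![1, 0; -((t⁻¹ : Fˣ) : F), 1] *
    !![1, (t : F); 0, 1] * (!![1, -1; 0, 1] * !![1, 0; 1, 1] * !![1, -1; 0, 1])
  have h : (t : F) * ((t⁻¹ : Fˣ) : F) = 1 := by rw [← Units.val_mul, mul_inv_cancel, Units.val_one]
  simp only [Matrix.mul_fin_two]
  ext i j
  fin_cases i <;> fin_cases j <;> simp

theorem ww_eq : (ww : Matrix.SpecialLinearGroup (Fin 2) F) = SL2Hom.up 1 * SL2Hom.lo (-1) * SL2Hom.up 1 := by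
  apply Subtype.ext
  change !![0, 1; -1, 0] = !![1, (1 : F); 0, 1] * !![1, 0; -1, 1] * !![1, 1; 0, 1]
  simp only [Matrix.mul_fin_two]
  ext i j
  fin_cases i <;> fin_cases j <;> simp

variable {D : ChevalleyDatum} {r : ℕ}

theorem phi_dd (hG : Good D r) (t : Fˣ) :
    ((SL2Hom.phi hG F (dd t) : GL D.Idx F) : Matrix D.Idx D.Idx F) =
      Matrix.diagonal (Sum.elim (fun _ => (1 : F)) (fun s : Fin D.nroots =>
        (t : F) ^ HMatDiagAll.expo D r s.val)) := by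
  rw [SL2Hom.coe_phi, ← HMatDiagAll.Phi_diagonal hG t.ne_zero]
  change Phi D r (t : F) 0 0 ((t⁻¹ : Fˣ) : F) = _
  rw [Units.val_inv_eq_inv_val]

/-- A subgroup containing enough root elements contains `h_r(t)` and `n_r`. -/
theorem phi_mem (hG : Good D r) (S : Subgroup (GL D.Idx F)) (P : F → Prop)
    (hup : ∀ s, P s → SL2Hom.phi hG F (SL2Hom.up s) ∈ S)
    (hlo : ∀ s, P s → SL2Hom.phi hG F (SL2Hom.lo s) ∈ S) (h1 : P 1) (hm1 : P (-1)) :
    SL2Hom.phi hG F ww ∈ S ∧ ∀ t : Fˣ, P t → P (-((t⁻¹ : Fˣ) : F)) → SL2Hom.phi hG F (dd t) ∈ S := by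
  constructor
  · rw [ww_eq, map_mul, map_mul]
    exact mul_mem (mul_mem (hup _ h1) (hlo _ hm1)) (hup _ h1)
  · intro t ht ht'
    rw [dd_eq]
    simp only [map_mul]
    exact mul_mem (mul_mem (mul_mem (hup _ ht) (hlo _ ht')) (hup _ ht))
      (mul_mem (mul_mem (hup _ hm1) (hlo _ h1)) (hup _ hm1))

theorem phi_fam [Fintype F] (hG : Good D r) (hr : r < D.nroots) (h0 : 0 < D.rank)
    (S : Subgroup (GL D.Idx F)) (I : Type) [Fintype I] (u : I → Fˣ) (hu : Function.Injective u)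
    (hw : SL2Hom.phi hG F ww ∈ S) (hd : ∀ i, SL2Hom.phi hG F (dd (u i)) ∈ S) (k B : ℕ)
    (hB : (MulAut.conj : S →* MulAut S).range.index ≤ B)
    (hk : k * (2 * Fintype.card D.Idx ^ 2 * B) ≤ Fintype.card I) : RF S k := by
  refine lin_fam (x := fun i => ⟨SL2Hom.phi hG F (dd (u i)), hd i⟩) ⟨_, hw⟩ (fun i => ?_)
    (fun i => (Sum.elim (fun _ => (1 : F)) (fun s : Fin D.nroots =>
        ((u i : Fˣ) : F) ^ HMatDiagAll.expo D r s.val))) (fun i => phi_dd hG (u i))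
    (Sum.inr ⟨r, hr⟩) (Sum.inl ⟨0, h0⟩) 2 (by norm_num) (fun y => ?_) k B hB hk
  · apply Subtype.ext
    change SL2Hom.phi hG F ww * SL2Hom.phi hG F (dd (u i)) * (SL2Hom.phi hG F ww)⁻¹ =
      (SL2Hom.phi hG F (dd (u i)))⁻¹
    rw [← map_mul, ← map_inv, ← map_mul, ← map_inv, ww_dd]
  · have h4 : Set.ncard (u '' {i | (((u i : Fˣ) : F) ^ 2) = y}) ≤ 2 := by
      refine le_trans (Set.ncard_le_ncard ?_ (Set.toFinite _)) (ncard_sq_le y)
      rintro _ ⟨t, ht, rfl⟩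
      exact ht
    rw [Set.ncard_image_of_injective _ hu] at h4
    refine le_trans (Set.ncard_le_ncard ?_ (Set.toFinite _)) h4
    intro i hi
    have h3 : ((u i : Fˣ) : F) ^ HMatDiagAll.expo D r r / 1 = y := hi
    rw [HMatDiagAll.expo_def, if_pos rfl, div_one] at h3
    change ((u i : Fˣ) : F) ^ 2 = y
    exact_mod_cast h3

end sl2

theorem rootSubgroup_le {F : Type*} [Field F] (D : ChevalleyDatum) (r : ℕ) :
    D.rootSubgroup F r ≤ D.group F := by
  refine (Subgroup.closure_le _).2 ?_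
  rintro g ⟨t, ht⟩
  rw [ChevalleyDatum.x] at ht
  split_ifs at ht with h
  · exact Subgroup.subset_closure ⟨⟨r, h⟩, t, ht⟩
  · have : g = 1 := Units.ext ht
    rw [this]
    exact one_mem _

theorem lin_card {ι K : Type*} [Fintype ι] [DecidableEq ι] [Field K] [Fintype K]
    (S : Subgroup (GL ι K)) : Nat.card S ≤ Fintype.card K ^ (Fintype.card ι ^ 2) := by
  have h6 : Nat.card S ≤ Nat.card (Matrix ι ι K) :=
    Nat.card_le_card_of_injective (fun z : S => ((z : GL ι K) : Matrix ι ι K))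
      (Units.val_injective.comp Subtype.val_injective)
  have h7 : Nat.card (Matrix ι ι K) = Fintype.card K ^ (Fintype.card ι ^ 2) := by
    have : Nat.card (Matrix ι ι K) = Nat.card (ι → ι → K) := rfl
    rw [this, Nat.card_eq_fintype_card]
    simp only [Fintype.card_fun]
    rw [← pow_mul, pow_two]
  rw [← h7]
  exact h6

/-- The Chevalley groups. -/
theorem chev_fam (D : ChevalleyDatum)
    (hD : D ∈ [chevG2, chevB2, chevD4, chevF4, chevE6, chevE7, chevE8]) (r : ℕ) (hr : r < D.nroots)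
    (h0 : 0 < D.rank) {F : Type} [Field F] [Fintype F] (k B : ℕ)
    (hB : (MulAut.conj : D.group F →* MulAut (D.group F)).range.index ≤ B)
    (hk : k * (2 * Fintype.card D.Idx ^ 2 * B) ≤ Fintype.card F - 1) : RF (D.group F) k := by
  classical
  have hG := SL2All.good_of_mem D hD r hr
  have hle : (SL2Hom.phi hG F).range ≤ D.group F := by
    rw [SL2Hom.range_phi]
    exact sup_le (rootSubgroup_le D r) (rootSubgroup_le D _)
  refine phi_fam hG hr h0 (D.group F) Fˣ id Function.injective_id (hle ⟨_, rfl⟩)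
    (fun t => hle ⟨_, rfl⟩) k B hB ?_
  rw [Fintype.card_units F]
  exact hk

theorem chev_bound (D : ChevalleyDatum)
    (hD : D ∈ [chevG2, chevB2, chevD4, chevF4, chevE6, chevE7, chevE8]) (h0 : 0 < D.rank)
    (h1 : 0 < D.nroots) (k : ℕ) :
    ∃ N : ℕ, ∀ (F : Type) [Field F] [Fintype F],
      (∀ (p f : ℕ) [Fact p.Prime] [CharP F p], Fintype.card F = p ^ f → 1 ≤ f →
        (MulAut.conj : D.group F →* MulAut (D.group F)).range.index ≤ 6 * f) →
      ¬ RF (D.group F) k → Nat.card (D.group F) ≤ N := by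
  refine ⟨(8 * (k * (2 * Fintype.card D.Idx ^ 2 * 6)) ^ 2 + 2) ^ (Fintype.card D.Idx ^ 2),
    fun F _ _ hOut hRF => ?_⟩
  obtain ⟨p, _, f, hp, hcard⟩ := FiniteField.card' F
  have : Fact p.Prime := ⟨hp⟩
  have hf : 1 ≤ (f : ℕ) := f.pos
  have hind := hOut p f hcard hf
  have hq : Fintype.card F - 1 < k * (2 * Fintype.card D.Idx ^ 2 * 6) * f := by
    by_contra h
    push Not at h
    apply hRF
    refine chev_fam D hD 0 h1 h0 k _ hind (le_trans (le_of_eq ?_) h)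
    ring
  have hQ := bound _ p f (Fintype.card F) hp.two_le hcard hq
  exact (lin_card _).trans (Nat.pow_le_pow_left hQ _)

end Cfsg.Agent.H708.RFam
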