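import Mathlib
import Cfsg.Agent.H708.RFChev
import Cfsg.Agent.S2121
import Cfsg.Agent.S2122
import Cfsg.Agent.S2123
import Cfsg.Agent.S2124
import Cfsg.Agent.S2125

/-!
# Real elements of the exceptional Chevalley groups (helper708, S4851)
-/

set_option autoImplicit false

namespace Cfsg.Agent.H708.RFam

open Cfsg Cfsg.Lie

theorem out_eq {S : Type*} [Group S] :
    Nat.card (Cfsg.Out S) = (MulAut.conj : S →* MulAut S).range.index := rfl

theorem g2_bound (k : ℕ) : ∃ N : ℕ, ∀ (F : Type) [Field F] [Fintype F], 3 ≤ Fintype.card F →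
    ¬ RF (chevG2.group F) k → Nat.card (chevG2.group F) ≤ N := by
  obtain ⟨N, hN⟩ := chev_bound chevG2 (by simp) (by decide) (by decide) k
  refine ⟨N, fun F _ _ h3 hRF => hN F (fun p f _ _ hF hf => ?_) hRF⟩
  rw [← out_eq, Cfsg.Agent.S2121.result p f hF (hF ▸ h3)]
  split_ifs <;> omega

theorem f4_bound (k : ℕ) : ∃ N : ℕ, ∀ (F : Type) [Field F] [Fintype F],
    ¬ RF (chevF4.group F) k → Nat.card (chevF4.group F) ≤ N := by
  obtain ⟨N, hN⟩ := chev_bound chevF4 (by simp) (by decide) (by decide) k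
  refine ⟨N, fun F _ _ hRF => hN F (fun p f _ _ hF hf => ?_) hRF⟩
  rw [← out_eq, Cfsg.Agent.S2122.result p f hF]
  have h2 : Nat.gcd 2 p ≤ 2 := Nat.gcd_le_left _ (by omega)
  nlinarith

theorem e6_bound (k : ℕ) : ∃ N : ℕ, ∀ (F : Type) [Field F] [Fintype F],
    ¬ RF (chevE6.group F) k → Nat.card (chevE6.group F) ≤ N := by
  obtain ⟨N, hN⟩ := chev_bound chevE6 (by simp) (by decide) (by decide) k
  refine ⟨N, fun F _ _ hRF => hN F (fun p f _ _ hF hf => ?_) hRF⟩
  rw [← out_eq, Cfsg.Agent.S2123.result p f hF]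
  have h2 : Nat.gcd 3 (p ^ f - 1) ≤ 3 := Nat.gcd_le_left _ (by omega)
  nlinarith

theorem e7_bound (k : ℕ) : ∃ N : ℕ, ∀ (F : Type) [Field F] [Fintype F],
    ¬ RF (chevE7.group F) k → Nat.card (chevE7.group F) ≤ N := by
  obtain ⟨N, hN⟩ := chev_bound chevE7 (by simp) (by decide) (by decide) k
  refine ⟨N, fun F _ _ hRF => hN F (fun p f _ _ hF hf => ?_) hRF⟩
  rw [← out_eq, Cfsg.Agent.S2124.result p f hF]
  have h2 : Nat.gcd 2 (p ^ f - 1) ≤ 2 := Nat.gcd_le_left _ (by omega)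
  nlinarith

theorem e8_bound (k : ℕ) : ∃ N : ℕ, ∀ (F : Type) [Field F] [Fintype F],
    ¬ RF (chevE8.group F) k → Nat.card (chevE8.group F) ≤ N := by
  obtain ⟨N, hN⟩ := chev_bound chevE8 (by simp) (by decide) (by decide) k
  refine ⟨N, fun F _ _ hRF => hN F (fun p f _ _ hF hf => ?_) hRF⟩
  rw [← out_eq, Cfsg.Agent.S2125.result p f hF]
  omega

end Cfsg.Agent.H708.RFam
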