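import Mathlib
import Cfsg.Agent.H708.RFChev5
import Cfsg.Agent.S2129
import Cfsg.Agent.S2130

/-!
# Real elements of `³D₄(q)` and `²E₆(q)` (helper708, S4851)
-/

set_option autoImplicit false

namespace Cfsg.Agent.H708.RFam

open Cfsg Cfsg.Lie Cfsg.Agent.ChevalleyStructure
open Cfsg.Agent.ChevalleyStructure.SL2Rep

theorem gen_mem {D : ChevalleyDatum} {K : Type*} [Field K] (W : Set (List (ℕ × K))) (r : ℕ) (s : K)
    (hw : [(r, s)] ∈ W) (g : GL D.Idx K) (hg : (g : Matrix D.Idx D.Idx K) = D.x K r s) :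
    g ∈ D.genSubgroup K W := by
  refine Subgroup.subset_closure ⟨_, hw, ?_⟩
  rw [hg]
  simp [ChevalleyDatum.wordMat]

/-- General lemma for the twisted groups containing an untwisted root `SL₂(q)`. -/
theorem tw_bound (D : ChevalleyDatum) {r : ℕ} (hr : r < D.nroots) (h0 : 0 < D.rank)
    (hG : Good D r) {K : Type} [Field K] [Fintype K] {p f q j : ℕ} [hp : Fact p.Prime] [CharP K p]
    (hj : 1 ≤ j) (hq : q = p ^ f) (hf : 1 ≤ f) (hK : Fintype.card K = q ^ j) (S : Subgroup (GL D.Idx K))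
    (hup : ∀ s : K, s ^ q = s → SL2Hom.phi hG K (SL2Hom.up s) ∈ S)
    (hlo : ∀ s : K, s ^ q = s → SL2Hom.phi hG K (SL2Hom.lo s) ∈ S)
    (hOut : (MulAut.conj : S →* MulAut S).range.index ≤ 6 * f) (k : ℕ) (hRF : ¬ RF S k) :
    Nat.card S ≤ ((8 * (k * (2 * Fintype.card D.Idx ^ 2 * 6)) ^ 2 + 2) ^ j) ^
      (Fintype.card D.Idx ^ 2) := by
  have hfr : ∀ x : K, iterateFrobenius K p f x = x ^ q := fun x => by rw [iterateFrobenius_def, hq]
  have hq1 : 1 < q := by rw [hq]; exact Nat.one_lt_pow (by omega) hp.out.one_lt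
  have hneg : ∀ x : K, x ^ q = x → (-x) ^ q = -x := by
    intro x hx
    rw [← hfr, map_neg, hfr, hx]
  have hinv : ∀ x : K, x ^ q = x → (x⁻¹) ^ q = x⁻¹ := by
    intro x hx
    rw [inv_pow, hx]
  obtain ⟨hw, hd⟩ := phi_mem hG S (fun s : K => s ^ q = s) hup hlo (one_pow q) (hneg 1 (one_pow q))
  have hcard : Nat.card {t : Kˣ // t ^ (q - 1) = 1} = q - 1 := by
    apply card_roots
    rw [hK]
    have := Nat.sub_dvd_pow_sub_pow q 1 j
    rwa [one_pow] at this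
  let _i : Fintype {t : Kˣ // t ^ (q - 1) = 1} := Fintype.ofFinite _
  have hfix : ∀ t : {t : Kˣ // t ^ (q - 1) = 1}, (((t : Kˣ) : K)) ^ q = ((t : Kˣ) : K) := by
    intro t
    have h1 : (t : Kˣ) ^ q = (t : Kˣ) := by
      have h2 : (t : Kˣ) ^ (q - 1 + 1) = (t : Kˣ) := by rw [pow_succ, t.2, one_mul]
      rwa [Nat.sub_add_cancel hq1.le] at h2
    have := congrArg (fun x : Kˣ => (x : K)) h1
    simpa using this
  have hlt : q - 1 < k * (2 * Fintype.card D.Idx ^ 2 * 6) * f := by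
    by_contra h
    push Not at h
    apply hRF
    refine phi_fam hG hr h0 S {t : Kˣ // t ^ (q - 1) = 1} Subtype.val Subtype.val_injective hw
      (fun t => hd _ (hfix t) ?_) k _ hOut ?_
    · apply hneg
      rw [Units.val_inv_eq_inv_val]
      exact hinv _ (hfix t)
    · rw [← Nat.card_eq_fintype_card (α := {t : Kˣ // t ^ (q - 1) = 1}), hcard]
      refine le_trans (le_of_eq ?_) h
      ring
  have hQ := bound _ p f q hp.out.two_le hq hlt
  refine (lin_card S).trans ?_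
  rw [hK]
  exact Nat.pow_le_pow_left (Nat.pow_le_pow_left hQ _) _

/-- **`³D₄(q)`**. -/
theorem d4_bound (k : ℕ) : ∃ N : ℕ, ∀ (K : Type) [Field K] [Fintype K] (q : ℕ), IsPrimePow q →
    Fintype.card K = q ^ 3 → ¬ RF (twistedD4 K q) k → Nat.card (twistedD4 K q) ≤ N := by
  refine ⟨((8 * (k * (2 * Fintype.card chevD4.Idx ^ 2 * 6)) ^ 2 + 2) ^ 3) ^
      (Fintype.card chevD4.Idx ^ 2), fun K _ _ q hq hK hRF => ?_⟩
  obtain ⟨p, f, hp, hf, hpf⟩ := (isPrimePow_nat_iff q).1 hq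
  have : Fact p.Prime := ⟨hp⟩
  have hK' : Fintype.card K = p ^ (3 * f) := by rw [hK, ← hpf, ← pow_mul, mul_comm]
  have : CharP K p := charP_of_card_eq_prime_pow hK'
  have hG := SL2All.good_of_mem chevD4 (by simp) d4p2 (by decide)
  refine tw_bound chevD4 (r := d4p2) (by decide) (by decide) hG (by norm_num) hpf.symm hf hK
    (twistedD4 K q) (fun s hs => ?_) (fun s hs => ?_) ?_ k hRF
  · refine gen_mem _ d4p2 s (Or.inl ⟨s, hs, d4p2, by simp, rfl⟩) _ ?_
    exact SL2Hom.phi_upper hG _ s rfl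
  · refine gen_mem _ d4m2 s (Or.inl ⟨s, hs, d4m2, by simp, rfl⟩) _ ?_
    have h1 := SL2Hom.phi_lower hG (SL2Hom.lo s) s rfl
    rw [h1]
    have : chevD4.neg d4p2 = d4m2 := by decide
    rw [this]
  · rw [← out_eq, ← hpf, Cfsg.Agent.S2129.result p f hK' hf]
    omega

/-- **`²E₆(q)`**. -/
theorem te6_bound (k : ℕ) : ∃ N : ℕ, ∀ (K : Type) [Field K] [Fintype K] (q : ℕ), IsPrimePow q →
    Fintype.card K = q ^ 2 → ¬ RF (twistedE6 K q) k → Nat.card (twistedE6 K q) ≤ N := by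
  refine ⟨((8 * (k * (2 * Fintype.card chevE6.Idx ^ 2 * 6)) ^ 2 + 2) ^ 2) ^
      (Fintype.card chevE6.Idx ^ 2), fun K _ _ q hq hK hRF => ?_⟩
  obtain ⟨p, f, hp, hf, hpf⟩ := (isPrimePow_nat_iff q).1 hq
  have : Fact p.Prime := ⟨hp⟩
  have hK' : Fintype.card K = p ^ (2 * f) := by rw [hK, ← hpf, ← pow_mul, mul_comm]
  have : CharP K p := charP_of_card_eq_prime_pow hK'
  have hG := SL2All.good_of_mem chevE6 (by simp) e6p2 (by decide)
  refine tw_bound chevE6 (r := e6p2) (by decide) (by decide) hG (by norm_num) hpf.symm hf hK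
    (twistedE6 K q) (fun s hs => ?_) (fun s hs => ?_) ?_ k hRF
  · refine gen_mem _ e6p2 s (Or.inl ⟨s, hs, e6p2, by simp, rfl⟩) _ ?_
    exact SL2Hom.phi_upper hG _ s rfl
  · refine gen_mem _ e6m2 s (Or.inl ⟨s, hs, e6m2, by simp, rfl⟩) _ ?_
    have h1 := SL2Hom.phi_lower hG (SL2Hom.lo s) s rfl
    rw [h1]
    have : chevE6.neg e6p2 = e6m2 := by decide
    rw [this]
  · rw [← out_eq, ← hpf, Cfsg.Agent.S2130.result p f hK' hf]
    have h2 : Nat.gcd 3 (p ^ f + 1) ≤ 3 := Nat.gcd_le_left _ (by omega)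
    nlinarith

end Cfsg.Agent.H708.RFam
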