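import Mathlib
import Cfsg.Agent.H708.RFChev5
import Cfsg.Agent.S2126
import Cfsg.Agent.S2127
import Cfsg.Agent.S2128

/-!
# Real elements of `Sz(q)`, `²G₂(q)`, `²F₄(q)` (helper708, S4851)
-/

set_option autoImplicit false

namespace Cfsg.Agent.H708.RFam

open Cfsg Cfsg.Lie Cfsg.Agent.ChevalleyStructure

/-- **`Sz(q)`**. -/
theorem sz_bound (k : ℕ) : ∃ N : ℕ, ∀ (F : Type) [Field F] [Fintype F] (m : ℕ), 1 ≤ m →
    Fintype.card F = 2 ^ (2 * m + 1) → ¬ RF (Lie.Sz F (2 ^ (m + 1))) k →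
    Nat.card (Lie.Sz F (2 ^ (m + 1))) ≤ N := by
  refine ⟨((8 * (k * (2 * Fintype.card (Fin 4) ^ 2)) ^ 2 + 2)) ^ (Fintype.card (Fin 4) ^ 2),
    fun F _ _ m hm hF hRF => ?_⟩
  have H := Cfsg.Agent.LieRecognition.SzMatrix.good hF
  have hOut : (MulAut.conj : Lie.Sz F (2 ^ (m + 1)) →* MulAut (Lie.Sz F (2 ^ (m + 1)))).range.index ≤
      2 * m + 1 := by
    rw [← out_eq, Cfsg.Agent.S2126.result hm hF]
  have hlt : Fintype.card F - 1 < k * (2 * Fintype.card (Fin 4) ^ 2) * (2 * m + 1) := by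
    by_contra h
    push Not at h
    apply hRF
    let _i : Fintype Fˣ := Fintype.ofFinite _
    refine lin_fam (S := Lie.Sz F (2 ^ (m + 1))) (I := Fˣ) (fun t => H.d t) H.w (fun t => ?_)
      (fun t j => Cfsg.Agent.LieRecognition.SzMatrix.Dmat
        (Cfsg.Agent.LieRecognition.SzMatrix.theta hF) t j j) (fun t => ?_) 0 3 2 (by norm_num)
      (fun y => ?_) k _ hOut ?_
    · rw [H.w_mul_d, H.d_inv, mul_assoc, H.w_inv, H.w_mul_w, mul_one]
    · rw [H.d_val, H.D_val]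
      ext i j
      rw [Matrix.diagonal_apply]
      by_cases hij : i = j
      · subst hij
        rw [if_pos rfl]
      · rw [if_neg hij]
        rw [Cfsg.Agent.LieRecognition.SzMatrix.Dmat_def]
        fin_cases i <;> fin_cases j <;> first | rfl | exact absurd rfl hij
    · have h1 : ∀ t : Fˣ, Cfsg.Agent.LieRecognition.SzMatrix.Dmat
          (Cfsg.Agent.LieRecognition.SzMatrix.theta hF) t 0 0 /
          Cfsg.Agent.LieRecognition.SzMatrix.Dmat
          (Cfsg.Agent.LieRecognition.SzMatrix.theta hF) t 3 3 = (t : F) ^ 2 := by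
        intro t
        rw [Cfsg.Agent.LieRecognition.SzMatrix.Dmat_def]
        show (t : F) / (t : F)⁻¹ = (t : F) ^ 2
        rw [div_inv_eq_mul, pow_two]
      simp_rw [h1]
      exact ncard_sq_le y
    · rw [← Nat.card_eq_fintype_card (α := Fˣ), Nat.card_units, Nat.card_eq_fintype_card]
      refine le_trans (le_of_eq ?_) h
      ring
  have hQ := bound _ 2 (2 * m + 1) _ le_rfl hF hlt
  refine (lin_card _).trans ?_
  exact Nat.pow_le_pow_left hQ _

/-- **`²G₂(q)`**. -/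
theorem ree_bound (k : ℕ) : ∃ N : ℕ, ∀ (K : Type) [Field K] [Fintype K] (m : ℕ), 1 ≤ m →
    Fintype.card K = 3 ^ (2 * m + 1) → ¬ RF (twistedG2 K (3 ^ m)) k →
    Nat.card (twistedG2 K (3 ^ m)) ≤ N := by
  refine ⟨((8 * (k * (1 * Fintype.card chevG2.Idx ^ 2)) ^ 2 + 2)) ^ (Fintype.card chevG2.Idx ^ 2),
    fun K _ _ m hm hK hRF => ?_⟩
  obtain ⟨θ, c⟩ := Cfsg.Agent.ChevalleyStructure.Ree.Normal.exists_ctx hK
  have hOut : (MulAut.conj : twistedG2 K (3 ^ m) →* MulAut (twistedG2 K (3 ^ m))).range.index ≤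
      2 * m + 1 := by
    rw [← out_eq, Cfsg.Agent.S2127.result hm hK]
  have hlt : Fintype.card K - 1 < k * (1 * Fintype.card chevG2.Idx ^ 2) * (2 * m + 1) := by
    by_contra h
    push Not at h
    apply hRF
    let _i : Fintype Kˣ := Fintype.ofFinite _
    refine lin_fam (S := twistedG2 K (3 ^ m)) (I := Kˣ)
      (fun t => Cfsg.Agent.ChevalleyStructure.Ree.Data.T c t)
      (Cfsg.Agent.ChevalleyStructure.Ree.Data.N c) (fun t => ?_)
      (fun t i => match i with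
        | Sum.inl _ => 1
        | Sum.inr r => (t : K) ^ Cfsg.Agent.ChevalleyStructure.Ree.Checks.rootA r.val *
            ((t : K) ^ (3 * 3 ^ m)) ^ Cfsg.Agent.ChevalleyStructure.Ree.Checks.rootB r.val)
      (fun t => ?_) (Sum.inr ⟨7, by decide⟩) (Sum.inl ⟨0, by decide⟩) 1 (by norm_num)
      (fun y => ?_) k _ hOut ?_
    · apply Subtype.ext
      change Cfsg.Agent.ChevalleyStructure.Ree.Gens.nU K *
        Cfsg.Agent.ChevalleyStructure.Ree.Gens.tU (3 ^ m) t *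
        (Cfsg.Agent.ChevalleyStructure.Ree.Gens.nU K)⁻¹ =
        (Cfsg.Agent.ChevalleyStructure.Ree.Gens.tU (3 ^ m) t)⁻¹
      rw [Cfsg.Agent.ChevalleyStructure.Ree.Blocks.nU_tU, mul_inv_cancel_right]
      rw [eq_inv_iff_mul_eq_one, Cfsg.Agent.ChevalleyStructure.Ree.Gens.tU_mul, inv_mul_cancel,
        Cfsg.Agent.ChevalleyStructure.Ree.Gens.tU_one]
    · exact Cfsg.Agent.ChevalleyStructure.Ree.Gens.coe_tU (3 ^ m) t
    · rw [Set.ncard_le_one_iff]
      rintro a b ha hb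
      have h1 : ∀ t : Kˣ, (t : K) ^ Cfsg.Agent.ChevalleyStructure.Ree.Checks.rootA 7 *
            ((t : K) ^ (3 * 3 ^ m)) ^ Cfsg.Agent.ChevalleyStructure.Ree.Checks.rootB 7 / 1 =
            (t : K) := by
        intro t
        show (t : K) ^ (1 : ℤ) * ((t : K) ^ (3 * 3 ^ m)) ^ (0 : ℤ) / 1 = (t : K)
        simp
      have h2 : (a : K) = y := (h1 a).symm.trans ha
      have h3 : (b : K) = y := (h1 b).symm.trans hb
      exact Units.ext (h2.trans h3.symm)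
    · rw [← Nat.card_eq_fintype_card (α := Kˣ), Nat.card_units, Nat.card_eq_fintype_card]
      refine le_trans (le_of_eq ?_) h
      ring
  have hQ := bound _ 3 (2 * m + 1) _ (by norm_num) hK hlt
  refine (lin_card _).trans ?_
  exact Nat.pow_le_pow_left hQ _

/-- **`²F₄(q)`**. -/
theorem tf4_bound (k : ℕ) : ∃ N : ℕ, ∀ (K : Type) [Field K] [Fintype K] (m : ℕ), 1 ≤ m →
    Fintype.card K = 2 ^ (2 * m + 1) → ¬ RF (twistedF4 K (2 ^ m)) k →
    Nat.card (twistedF4 K (2 ^ m)) ≤ N := by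
  refine ⟨((8 * (k * (2 * Fintype.card chevF4.Idx ^ 2)) ^ 2 + 2)) ^ (Fintype.card chevF4.Idx ^ 2),
    fun K _ _ m hm hK hRF => ?_⟩
  have : Fact (Nat.Prime 2) := ⟨Nat.prime_two⟩
  have : CharP K 2 := charP_of_card_eq_prime_pow hK
  have he : ∀ x : Kˣ, x ^ (2 * 2 ^ m * 2 ^ m) = x := by
    intro x
    have h1 : 2 * 2 ^ m * 2 ^ m = Fintype.card K := by rw [hK]; ring
    rw [h1]
    apply Units.ext
    rw [Units.val_pow_eq_pow_val]
    exact FiniteField.pow_card _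
  have hOut : (MulAut.conj : twistedF4 K (2 ^ m) →* MulAut (twistedF4 K (2 ^ m))).range.index ≤
      2 * m + 1 := by
    rw [← out_eq, Cfsg.Agent.S2128.result hm hK]
  have he0 : 2 ^ m ≠ 0 := by positivity
  have hlt : Fintype.card K - 1 < k * (2 * Fintype.card chevF4.Idx ^ 2) * (2 * m + 1) := by
    by_contra h
    push Not at h
    apply hRF
    let _i : Fintype Kˣ := Fintype.ofFinite _
    refine lin_fam (S := twistedF4 K (2 ^ m)) (I := Kˣ)
      (fun t => ⟨_, TwF4.TwGen.T_tc_mem he0 he 1 t⟩)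
      ⟨_, TwF4.TwGen.n1_mem (2 ^ m)⟩ (fun t => ?_)
      (fun t j => ((TwF4.Torus.chiIdx (TwF4.TwGen.tc (2 ^ m) 1 t) j : Kˣ) : K))
      (fun t => TwF4.Torus.coe_T _) (Sum.inr ⟨24, by decide⟩) (Sum.inl ⟨0, by decide⟩) 2
      (by norm_num) (fun y => ?_) k _ hOut ?_
    · apply Subtype.ext
      change TwF4.Rel.n1 K * TwF4.Torus.T (TwF4.TwGen.tc (2 ^ m) 1 t) * (TwF4.Rel.n1 K)⁻¹ =
        (TwF4.Torus.T (TwF4.TwGen.tc (2 ^ m) 1 t))⁻¹
      have h3 : TwF4.TwGen.tc (2 ^ m) 1 t = ![t ^ (2 ^ m), 1, 1, t] := by simp [TwF4.TwGen.tc]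
      have h4 : (TwF4.TwGen.tc (2 ^ m) 1 t)⁻¹ = ![(t ^ (2 ^ m))⁻¹, 1, 1, t⁻¹] := by
        rw [h3]; funext l; fin_cases l <;> simp
      rw [← map_inv, h4, h3, TwF4.TwGen.n1_conj_T]
      simp
    · have h1 : ∀ t : Kˣ, ((TwF4.Torus.chiIdx (TwF4.TwGen.tc (2 ^ m) 1 t)
          (Sum.inr ⟨24, by decide⟩) : Kˣ) : K) /
          ((TwF4.Torus.chiIdx (TwF4.TwGen.tc (2 ^ m) 1 t) (Sum.inl ⟨0, by decide⟩) : Kˣ) : K) =
          (t : K) ^ 2 := by
        intro t
        rw [TwF4.Torus.chiIdx_inl, TwF4.Torus.chiIdx_inr, TwF4.TwGen.chi_tc_24]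
        simp
      simp_rw [h1]
      exact ncard_sq_le y
    · rw [← Nat.card_eq_fintype_card (α := Kˣ), Nat.card_units, Nat.card_eq_fintype_card]
      refine le_trans (le_of_eq ?_) h
      ring
  have hQ := bound _ 2 (2 * m + 1) _ le_rfl hK hlt
  refine (lin_card _).trans ?_
  exact Nat.pow_le_pow_left hQ _

end Cfsg.Agent.H708.RFam
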