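import Mathlib
import Cfsg.Prelude.Def_Classification2
import Cfsg.Agent.H708.RFSU
import Cfsg.Agent.H708.RFSp
import Cfsg.Agent.H708.RFOmega3
import Cfsg.Agent.H708.RFTw
import Cfsg.Agent.H708.RFTwo

/-!
# A bound for the simple groups with few families of real elements (helper708, S4851)
-/

set_option autoImplicit false

namespace Cfsg.Agent.H708.RFam

open Cfsg Cfsg.Lie

universe u

/-- The order of the nonabelian simple groups satisfying `P` and not `RF _ k` is bounded. -/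
def Bd (k : ℕ) (P : ∀ (S : Type u) [Group S], Prop) : Prop :=
  ∃ N : ℕ, ∀ (S : Type u) [Group S] [Finite S] [IsSimpleGroup S], (¬ ∀ a b : S, a * b = b * a) →
    P S → ¬ RF S k → Nat.card S ≤ N

theorem Bd.or {k : ℕ} {P Q : ∀ (S : Type u) [Group S], Prop} (hP : Bd k P) (hQ : Bd k Q) :
    Bd k (fun S _ => P S ∨ Q S) := by
  obtain ⟨N, h1⟩ := hP
  obtain ⟨M, h2⟩ := hQ
  refine ⟨N + M, fun S _ _ _ hS h hRF => ?_⟩
  rcases h with h | h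
  · exact (h1 S hS h hRF).trans (Nat.le_add_right _ _)
  · exact (h2 S hS h hRF).trans (Nat.le_add_left _ _)

theorem Bd.iso {k : ℕ} (T : Type) [Group T] :
    Bd k (fun (S : Type u) _ => Nonempty (S ≃* T)) :=
  ⟨Nat.card T, fun _ _ _ _ _ ⟨e⟩ _ => (Nat.card_congr e.toEquiv).le⟩

theorem center_bot {S T : Type*} [Group S] [Group T] [IsSimpleGroup S]
    (hS : ¬ ∀ a b : S, a * b = b * a) (e : S ≃* T) : Subgroup.center T = ⊥ := by
  have hn : Nontrivial T := e.symm.toEquiv.nontrivial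
  have hs : IsSimpleGroup T := IsSimpleGroup.isSimpleGroup_of_surjective e.toMonoidHom e.surjective
  rcases (inferInstance : (Subgroup.center T).Normal).eq_bot_or_eq_top with h | h
  · exact h
  · exfalso
    apply hS
    intro a b
    have h1 : e a ∈ Subgroup.center T := by rw [h]; exact Subgroup.mem_top _
    apply e.injective
    rw [map_mul, map_mul]
    exact (Subgroup.mem_center_iff.1 h1 (e b)).symm

theorem not_rf {S T : Type*} [Group S] [Group T] (e : S ≃* T) {k : ℕ} (h : ¬ RF S k) : ¬ RF T k :=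
  fun h' => h (h'.congr e.symm)

theorem card_eq {S T : Type*} [Group S] [Group T] (e : S ≃* T) : Nat.card S = Nat.card T :=
  Nat.card_congr e.toEquiv

section

variable (k : ℕ)

theorem bd_prime : Bd.{u} k (fun S _ => IsPrimeCyclic S) := by
  refine ⟨0, fun S _ _ _ hS h _ => ?_⟩
  exfalso
  apply hS
  have : Fact (Nat.card S).Prime := ⟨h⟩
  have hc : IsCyclic S := isCyclic_of_prime_card rfl
  intro a b
  exact (hc.commGroup).mul_comm a b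

theorem bd_alt : Bd.{u} k (fun S _ => IsAlternating S) := by
  refine ⟨(2 * k + 3).factorial, fun S _ _ _ _ ⟨n, hn, ⟨e⟩⟩ hRF => ?_⟩
  have hlt : n < 2 * k + 3 := by
    by_contra h
    push Not at h
    exact not_rf e hRF (RF.of_alt k n h (MonoidHom.id _) Function.injective_id)
  rw [card_eq e]
  refine le_trans (Nat.card_le_card_of_injective Subtype.val Subtype.val_injective) ?_
  rw [Nat.card_perm, Nat.card_eq_fintype_card, Fintype.card_fin]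
  exact Nat.factorial_le hlt.le

theorem bd_psl : Bd.{u} k (fun S _ => IsPSL S) := by
  obtain ⟨N, hN⟩ := psl_bound k
  refine ⟨N, fun S _ _ _ hS ⟨F, _, _, n, h1, h2, ⟨e⟩⟩ hRF => ?_⟩
  rw [card_eq e]
  exact hN F n h1 h2 (not_rf e hRF)

theorem bd_psp : Bd.{u} k (fun S _ => IsPSp S) := by
  obtain ⟨N, hN⟩ := psp_bound k
  refine ⟨N, fun S _ _ _ hS ⟨F, _, _, m, h1, h2, ⟨e⟩⟩ hRF => ?_⟩
  rw [card_eq e]
  exact hN F m h1 h2 (center_bot hS e) (not_rf e hRF)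

theorem bd_psu : Bd.{u} k (fun S _ => IsPSU S) := by
  obtain ⟨N, hN⟩ := psu_bound k
  refine ⟨N, fun S _ _ _ hS ⟨F, _, _, n, q, h0, h1, h2, ⟨e⟩⟩ hRF => ?_⟩
  rw [card_eq e]
  exact hN F n q h0 h1 h2 (center_bot hS e) (not_rf e hRF)

theorem bd_podd : Bd.{u} k (fun S _ => IsPOmegaOdd S) := by
  obtain ⟨N, hN⟩ := podd_bound k
  refine ⟨N, fun S _ _ _ hS ⟨F, _, _, m, h1, h2, ⟨e⟩⟩ hRF => ?_⟩
  rw [card_eq e]
  exact hN F m h1 h2 (center_bot hS e) (not_rf e hRF)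

theorem bd_pplus : Bd.{u} k (fun S _ => IsPOmegaPlus S) := by
  obtain ⟨N, hN⟩ := pplus_bound k
  refine ⟨N, fun S _ _ _ hS ⟨F, _, _, m, h1, ⟨e⟩⟩ hRF => ?_⟩
  rw [card_eq e]
  exact hN F m h1 (center_bot hS e) (not_rf e hRF)

theorem bd_pminus : Bd.{u} k (fun S _ => IsPOmegaMinus S) := by
  obtain ⟨N, hN⟩ := pminus_bound k
  refine ⟨N, fun S _ _ _ hS ⟨F, _, _, m, a, b, h1, h2, ⟨e⟩⟩ hRF => ?_⟩
  rw [card_eq e]
  exact hN F m a b h1 h2 (center_bot hS e) (not_rf e hRF)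

theorem bd_g2 : Bd.{u} k (fun S _ => Lie.IsoChevG2 S) := by
  obtain ⟨N, hN⟩ := g2_bound k
  refine ⟨N, fun S _ _ _ hS ⟨F, _, _, h1, ⟨e⟩⟩ hRF => ?_⟩
  rw [card_eq e]
  exact hN F h1 (not_rf e hRF)

theorem bd_f4 : Bd.{u} k (fun S _ => Lie.IsoF4 S) := by
  obtain ⟨N, hN⟩ := f4_bound k
  refine ⟨N, fun S _ _ _ hS ⟨F, _, _, ⟨e⟩⟩ hRF => ?_⟩
  rw [card_eq e]
  exact hN F (not_rf e hRF)

theorem bd_e6 : Bd.{u} k (fun S _ => Lie.IsoChevE6 S) := by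
  obtain ⟨N, hN⟩ := e6_bound k
  refine ⟨N, fun S _ _ _ hS ⟨F, _, _, ⟨e⟩⟩ hRF => ?_⟩
  rw [card_eq e]
  exact hN F (not_rf e hRF)

theorem bd_e7 : Bd.{u} k (fun S _ => Lie.IsoE7 S) := by
  obtain ⟨N, hN⟩ := e7_bound k
  refine ⟨N, fun S _ _ _ hS ⟨F, _, _, ⟨e⟩⟩ hRF => ?_⟩
  rw [card_eq e]
  exact hN F (not_rf e hRF)

theorem bd_e8 : Bd.{u} k (fun S _ => Lie.IsoE8 S) := by
  obtain ⟨N, hN⟩ := e8_bound k
  refine ⟨N, fun S _ _ _ hS ⟨F, _, _, ⟨e⟩⟩ hRF => ?_⟩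
  rw [card_eq e]
  exact hN F (not_rf e hRF)

theorem bd_te6 : Bd.{u} k (fun S _ => Lie.Iso2E6 S) := by
  obtain ⟨N, hN⟩ := te6_bound k
  refine ⟨N, fun S _ _ _ hS ⟨F, _, _, q, h1, h2, ⟨e⟩⟩ hRF => ?_⟩
  rw [card_eq e]
  exact hN F q h1 h2 (not_rf e hRF)

theorem bd_d4 : Bd.{u} k (fun S _ => Lie.Iso3D4 S) := by
  obtain ⟨N, hN⟩ := d4_bound k
  refine ⟨N, fun S _ _ _ hS ⟨F, _, _, q, h1, h2, ⟨e⟩⟩ hRF => ?_⟩
  rw [card_eq e]
  exact hN F q h1 h2 (not_rf e hRF)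

theorem bd_sz : Bd.{u} k (fun S _ => Lie.IsoSuzuki S) := by
  obtain ⟨N, hN⟩ := sz_bound k
  refine ⟨N, fun S _ _ _ hS ⟨F, _, _, m, h1, h2, ⟨e⟩⟩ hRF => ?_⟩
  rw [card_eq e]
  exact hN F m h1 h2 (not_rf e hRF)

theorem bd_ree : Bd.{u} k (fun S _ => Lie.IsoRee S) := by
  obtain ⟨N, hN⟩ := ree_bound k
  refine ⟨N, fun S _ _ _ hS ⟨F, _, _, m, h1, h2, ⟨e⟩⟩ hRF => ?_⟩
  rw [card_eq e]
  exact hN F m h1 h2 (not_rf e hRF)

theorem bd_tf4 : Bd.{u} k (fun S _ => Lie.Iso2F4 S) := by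
  obtain ⟨N, hN⟩ := tf4_bound k
  refine ⟨N, fun S _ _ _ hS ⟨F, _, _, m, h1, h2, ⟨e⟩⟩ hRF => ?_⟩
  rw [card_eq e]
  exact hN F m h1 h2 (not_rf e hRF)

theorem bd_j3 : Bd.{u} k (fun S _ => Spor.IsoJ3 S) := by
  classical
  refine ⟨4 ^ (Fintype.card Spor.F9 ^ 2), fun S _ _ _ hS ⟨F, _, _, ω, h1, _, ⟨e⟩⟩ _ => ?_⟩
  rw [card_eq e, ← h1]
  have h2 := lin_card (Spor.threeJ3 F ω)
  have : Finite (Spor.threeJ3 F ω) := inferInstance
  exact (Nat.card_le_card_of_surjective _ QuotientGroup.mk_surjective).trans h2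

theorem bd_tits : Bd.{u} k (fun S _ => Lie.IsoTits S) := by
  have h : ∃ N : ℕ, ∀ (S : Type u) [Group S], Lie.IsoTits S → Nat.card S ≤ N := by
    refine ⟨Nat.card (commutator (twistedF4 (ZMod 2) 1)), ?_⟩
    intro S _ hS
    obtain ⟨e⟩ := hS
    exact (Nat.card_congr e.toEquiv).le
  obtain ⟨N, hN⟩ := h
  exact ⟨N, fun S _ _ _ _ h _ => hN S h⟩

theorem bd_exc : Bd.{u} k (fun S _ => IsExceptionalLieType S) := by
  unfold IsExceptionalLieType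
  refine Bd.or (bd_g2 k) (Bd.or (bd_f4 k) (Bd.or (bd_e6 k) (Bd.or (bd_e7 k) (Bd.or (bd_e8 k)
    (Bd.or (bd_te6 k) (Bd.or (bd_d4 k) (Bd.or (bd_sz k) (Bd.or (bd_ree k) (Bd.or (bd_tf4 k)
    (bd_tits k))))))))))

theorem bd_spor : Bd.{u} k (fun S _ => IsSporadicGroup S) := by
  unfold IsSporadicGroup
  refine Bd.or (Bd.iso _) (Bd.or (Bd.iso _) (Bd.or (Bd.iso _) (Bd.or (Bd.iso _) (Bd.or (Bd.iso _)
    (Bd.or (Bd.iso _) (Bd.or (Bd.iso _) (Bd.or (bd_j3 k) (Bd.or (Bd.iso _)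
    (Bd.or (Bd.iso _) (Bd.or (Bd.iso _) (Bd.or (Bd.iso _) (Bd.or (Bd.iso _) (Bd.or (Bd.iso _)
    (Bd.or (Bd.iso _) (Bd.or (Bd.iso _) (Bd.or (Bd.iso _) (Bd.or (Bd.iso _) (Bd.or (Bd.iso _)
    (Bd.or (Bd.iso _) (Bd.or (Bd.iso _) (Bd.or (Bd.iso _) (Bd.or (Bd.iso _) (Bd.or (Bd.iso _)
    (Bd.or (Bd.iso _) (Bd.iso _)))))))))))))))))))))))))

theorem bd_known : Bd.{u} k (fun S _ => IsKnownSimple' S) := by
  unfold IsKnownSimple'
  exact Bd.or (bd_prime k) (Bd.or (bd_alt k) (Bd.or (bd_psl k) (Bd.or (bd_psp k) (Bd.or (bd_psu k)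
    (Bd.or (bd_podd k) (Bd.or (bd_pplus k) (Bd.or (bd_pminus k) (Bd.or (bd_exc k) (bd_spor k)))))))))

end

end Cfsg.Agent.H708.RFam
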