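import Mathlib
import Cfsg.Agent.H708.RFBase
import Cfsg.Agent.QTComp.One
import Cfsg.Agent.S0205

/-!
# Real classes of groups with trivial solvable radical (helper708, S4851)
-/

set_option autoImplicit false

namespace Cfsg.Agent.H708.RFam

open Cfsg Subgroup
open Cfsg.Agent.SignalizersComponents.Components

/-- The number of real classes. -/
noncomputable def RC (G : Type*) [Group G] : ℕ :=
  Nat.card {C : ConjClasses G // ∀ g : G, ConjClasses.mk g = C → IsConj g g⁻¹}

theorem le_rc {G : Type*} [Group G] [Finite G] {n : ℕ} (f : Fin n → G)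
    (hf : ∀ i, IsConj (f i) (f i)⁻¹) (hij : ∀ i j, IsConj (f i) (f j) → i = j) : n ≤ RC G := by
  have hfin : Finite (ConjClasses G) := inferInstance
  let F : Fin n → {C : ConjClasses G // ∀ g : G, ConjClasses.mk g = C → IsConj g g⁻¹} :=
    fun i => ⟨ConjClasses.mk (f i), fun g hg => by
      have h1 : IsConj g (f i) := ConjClasses.mk_eq_mk_iff_isConj.1 hg
      refine h1.trans ((hf i).trans ?_)
      obtain ⟨c, hc⟩ := isConj_iff.1 h1.symm
      rw [isConj_iff]
      refine ⟨c, ?_⟩
      rw [← hc]
      group⟩
  have hF : Function.Injective F := by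
    intro i j h
    apply hij
    exact ConjClasses.mk_eq_mk_iff_isConj.1 (congrArg Subtype.val h)
  have := Nat.card_le_card_of_injective F hF
  rwa [Nat.card_fin] at this

variable {H : Type*} [Group H] [Finite H]

/-- The components which are not centralized by `x`. -/
def nc (x : H) : Set (Subgroup H) := {K | IsComponent K ∧ x ∉ centralizer (K : Set H)}

theorem ncard_nc_conj {x y : H} (h : IsConj x y) : (nc x).ncard = (nc y).ncard := by
  have key : ∀ {x y : H}, IsConj x y → (nc x).ncard ≤ (nc y).ncard := by
    intro x y h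
    obtain ⟨c, hc⟩ := isConj_iff.1 h
    refine Set.ncard_le_ncard_of_injOn (fun K => K.map (MulAut.conj c).toMonoidHom) ?_ ?_
      (Set.toFinite _)
    · intro K hK
      refine ⟨isComponent_conj c hK.1, fun h1 => hK.2 ?_⟩
      rw [mem_centralizer_iff] at h1 ⊢
      intro k hk
      have h2 := h1 (c * k * c⁻¹) ⟨k, hk, rfl⟩
      rw [← hc] at h2
      have h3 : c * (k * x) * c⁻¹ = c * (x * k) * c⁻¹ := by
        calc c * (k * x) * c⁻¹ = c * k * c⁻¹ * (c * x * c⁻¹) := by group
          _ = c * x * c⁻¹ * (c * k * c⁻¹) := h2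
          _ = c * (x * k) * c⁻¹ := by group
      exact mul_left_cancel (mul_right_cancel h3)
    · intro K _ L _ hKL
      exact Subgroup.map_injective (MulAut.conj c).injective hKL
  exact le_antisymm (key h) (key h.symm)

/-- The hypothesis: trivial centres of components. -/
def TC (H : Type*) [Group H] : Prop := ∀ K : Subgroup H, IsComponent K → center K = ⊥

omit [Finite H] in
theorem TC.eq_one (hT : TC H) {K : Subgroup H} (hK : IsComponent K) {x : H} (h1 : x ∈ K)
    (h2 : x ∈ centralizer (K : Set H)) : x = 1 := by
  have h3 : (⟨x, h1⟩ : K) ∈ center K := by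
    rw [mem_center_iff]
    intro k
    apply Subtype.ext
    exact mem_centralizer_iff.1 h2 k k.2
  rw [hT K hK, mem_bot] at h3
  exact congrArg Subtype.val h3

theorem exists_invol {K : Subgroup H} (hK : IsComponent K) : ∃ t ∈ K, orderOf t = 2 := by
  have h1 : ¬ Odd (Nat.card K) := fun h =>
    quasisimple_not_isSolvable hK.2 (Cfsg.Agent.S0205.result h)
  rw [Nat.not_odd_iff_even, even_iff_two_dvd] at h1
  obtain ⟨t, ht⟩ := exists_prime_orderOf_dvd_card' 2 h1
  exact ⟨t, t.2, by rw [orderOf_coe, ht]⟩

/-- The number of components is less than the number of real classes. -/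
theorem card_comp_lt (hT : TC H) : Nat.card {K : Subgroup H // IsComponent K} + 1 ≤ RC H := by
  set n := Nat.card {K : Subgroup H // IsComponent K} with hn
  let e : Fin n ≃ {K : Subgroup H // IsComponent K} := (Finite.equivFin _).symm
  have ht : ∀ i : Fin n, ∃ t ∈ (e i).1, orderOf t = 2 := fun i => exists_invol (e i).2
  choose t htK ht2 using ht
  have hcent : ∀ i j : Fin n, i ≠ j → (e i).1 ≤ centralizer ((e j).1 : Set H) := fun i j hij =>
    component_le_centralizer_of_ne (e i).2 (e j).2
      (fun h => hij (e.injective (Subtype.ext h)))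
  let x : ℕ → H := fun j => Nat.rec 1 (fun j y => y * if h : j < n then t ⟨j, h⟩ else 1) j
  have hx0 : x 0 = 1 := rfl
  have hxs : ∀ j (h : j < n), x (j + 1) = x j * t ⟨j, h⟩ := fun j h => by
    change x j * (if h : j < n then t ⟨j, h⟩ else 1) = _
    rw [dif_pos h]
  have hC : ∀ j, j ≤ n → ∀ i : Fin n, j ≤ i → x j ∈ centralizer ((e i).1 : Set H) := by
    intro j
    induction j with
    | zero =>
      intro _ i _
      rw [hx0]
      exact one_mem _
    | succ j ih =>
      intro hj i hi
      rw [hxs j (by omega)]
      refine mul_mem (ih (by omega) i (by omega)) (hcent _ _ ?_ (htK _))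
      intro h
      have := congrArg Fin.val h
      simp only at this
      omega
  have hN : ∀ j, j ≤ n → ∀ i : Fin n, (i : ℕ) < j →
      ∃ c ∈ centralizer ((e i).1 : Set H), x j = t i * c := by
    intro j
    induction j with
    | zero => intro _ i hi; exact absurd hi (Nat.not_lt_zero _)
    | succ j ih =>
      intro hj i hi
      rw [hxs j (by omega)]
      rcases Nat.lt_succ_iff_lt_or_eq.1 hi with h | h
      · obtain ⟨c, hc, hxc⟩ := ih (by omega) i h
        refine ⟨c * t ⟨j, by omega⟩, mul_mem hc (hcent _ _ ?_ (htK _)), by rw [hxc, mul_assoc]⟩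
        intro h'
        have := congrArg Fin.val h'
        simp only at this
        omega
      · have h1 : (⟨j, by omega⟩ : Fin n) = i := Fin.ext h.symm
        refine ⟨x j, hC j (by omega) i (by omega), ?_⟩
        rw [h1]
        exact (mem_centralizer_iff.1 (hC j (by omega) i (by omega)) _ (htK i)).symm
  have hN' : ∀ j, j ≤ n → ∀ i : Fin n, (i : ℕ) < j → x j ∉ centralizer ((e i).1 : Set H) := by
    intro j hj i hi h
    obtain ⟨c, hc, hxc⟩ := hN j hj i hi
    have h1 : t i ∈ centralizer ((e i).1 : Set H) := by
      rw [hxc] at h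
      exact (mul_mem_cancel_right hc).1 h
    have h2 := hT.eq_one (e i).2 (htK i) h1
    have h3 := ht2 i
    rw [h2, orderOf_one] at h3
    exact absurd h3 (by norm_num)
  have hsq : ∀ j, j ≤ n → x j * x j = 1 := by
    intro j
    induction j with
    | zero => intro _; rw [hx0, one_mul]
    | succ j ih =>
      intro hj
      rw [hxs j (by omega)]
      have h1 := hC j (by omega) ⟨j, by omega⟩ le_rfl
      have h2 : t ⟨j, by omega⟩ * x j = x j * t ⟨j, by omega⟩ :=
        mem_centralizer_iff.1 h1 _ (htK _)
      have h3 : t ⟨j, by omega⟩ * t ⟨j, by omega⟩ = 1 := by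
        have := pow_orderOf_eq_one (t ⟨j, by omega⟩)
        rwa [ht2, pow_two] at this
      calc x j * t ⟨j, by omega⟩ * (x j * t ⟨j, by omega⟩)
          = x j * (t ⟨j, by omega⟩ * x j) * t ⟨j, by omega⟩ := by group
        _ = x j * x j * (t ⟨j, by omega⟩ * t ⟨j, by omega⟩) := by rw [h2]; group
        _ = 1 := by rw [ih (by omega), h3, one_mul]
  have hlt : ∀ j l, j < l → l ≤ n → (nc (x j)).ncard < (nc (x l)).ncard := by
    intro j l hjl hl
    apply Set.ncard_lt_ncard ?_ (Set.toFinite _)
    rw [Set.ssubset_iff_of_subset]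
    · refine ⟨(e ⟨j, by omega⟩).1, ⟨(e ⟨j, by omega⟩).2, hN' l hl _ hjl⟩, fun h => h.2 ?_⟩
      exact hC j (by omega) _ le_rfl
    · intro K hK
      obtain ⟨i, hi⟩ := e.surjective ⟨K, hK.1⟩
      have hi' : (e i).1 = K := by rw [hi]
      refine ⟨hK.1, ?_⟩
      have h1 : (i : ℕ) < j := by
        by_contra hcon
        push Not at hcon
        apply hK.2
        rw [← hi']
        exact hC j (by omega) i hcon
      rw [← hi']
      exact hN' l hl i (by omega)
  refine le_rc (fun j : Fin (n + 1) => x j) (fun j => ?_) (fun j l h => ?_)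
  · have := hsq j (by omega)
    rw [← mul_eq_one_iff_eq_inv.1 this]
  · rcases lt_trichotomy (j : ℕ) l with h1 | h1 | h1
    · exact absurd (ncard_nc_conj h) (hlt j l h1 (by omega)).ne
    · exact Fin.ext h1
    · exact absurd (ncard_nc_conj h) (hlt l j h1 (by omega)).ne'

/-- Components do not have many real elements. -/
theorem not_rf_comp (hT : TC H) {k : ℕ} (hk : RC H ≤ k) {K : Subgroup H} (hK : IsComponent K) :
    ¬ RF K (k + 1) := by
  rintro ⟨f, hf, hij⟩
  have h1 : k + 1 ≤ RC H := by
    refine le_rc (fun i => (f i : H)) (fun i => ?_) (fun i j h => ?_)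
    · exact K.subtype.map_isConj (hf i)
    · obtain ⟨c, hc⟩ := isConj_iff.1 h
      by_cases h1 : (f j : H) = 1
      · have h2 : f j = 1 := Subtype.ext h1
        have h3 : f i = 1 := by
          apply Subtype.ext
          rw [h1, mul_inv_eq_one] at hc
          exact mul_left_cancel (hc.trans (mul_one c).symm)
        refine hij i j 1 ?_
        rw [h2, h3]
        rfl
      · have hK' := isComponent_conj c hK
        have h2 : K.map (MulAut.conj c).toMonoidHom = K := by
          by_contra hne
          have h3 := component_le_centralizer_of_ne hK' hK hne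
          apply h1
          refine hT.eq_one hK (f j).2 (h3 ?_)
          rw [← hc]
          exact ⟨f i, (f i).2, rfl⟩
        refine hij i j (((MulAut.conj c).subgroupMap K).trans (MulEquiv.subgroupCongr h2)) ?_
        apply Subtype.ext
        exact hc
  omega

omit [Finite H] in
theorem card_sup_le {K L : Subgroup H} (h : K ≤ normalizer (L : Set H)) :
    Nat.card (K ⊔ L : Subgroup H) ≤ Nat.card K * Nat.card L := by
  have h1 := coe_mul_of_left_le_normalizer_right K L h
  have h2 := Set.natCard_mul_le (s := (K : Set H)) (t := (L : Set H))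
  rw [← h1] at h2
  exact h2

theorem card_layer_le {M : ℕ} (hM : ∀ K : Subgroup H, IsComponent K → Nat.card K ≤ M) :
    Nat.card (layer H) ≤ M ^ Nat.card {K : Subgroup H // IsComponent K} := by
  classical
  let _i : Fintype {K : Subgroup H // IsComponent K} := Fintype.ofFinite _
  have key : ∀ s : Finset {K : Subgroup H // IsComponent K},
      Nat.card (s.sup (fun K => K.1) : Subgroup H) ≤ M ^ s.card := by
    intro s
    induction s using Finset.induction_on with
    | empty =>
      rw [Finset.sup_empty, Finset.card_empty, pow_zero]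
      rw [Nat.card_eq_one_iff_unique.2 ⟨inferInstance, inferInstance⟩]
    | insert K₀ s hK₀ ih =>
      rw [Finset.sup_insert, Finset.card_insert_of_notMem hK₀, pow_succ, mul_comm]
      refine (card_sup_le ?_).trans (Nat.mul_le_mul (hM _ K₀.2) ih)
      have h1 : s.sup (fun K => K.1) ≤ centralizer (K₀.1 : Set H) := by
        apply Finset.sup_le
        intro K hK
        exact component_le_centralizer_of_ne K.2 K₀.2
          (fun h => hK₀ (by rw [← Subtype.ext h]; exact hK))
      refine le_trans ?_ (Subgroup.centralizer_le_normalizer _)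
      rw [Subgroup.le_centralizer_iff]
      exact h1
  have h1 : layer H ≤ (Finset.univ : Finset {K : Subgroup H // IsComponent K}).sup (fun K => K.1) := by
    rw [layer_le_iff]
    intro K hK
    exact Finset.le_sup (f := fun K : {K : Subgroup H // IsComponent K} => K.1)
      (Finset.mem_univ ⟨K, hK⟩)
  refine (Nat.card_le_card_of_injective (Subgroup.inclusion h1)
    (Subgroup.inclusion_injective h1)).trans ?_
  refine (key _).trans (le_of_eq ?_)
  rw [Finset.card_univ, Nat.card_eq_fintype_card]

theorem card_le_of_centralizer {E : Subgroup H} (hE : E.Normal)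
    (hc : centralizer (E : Set H) = ⊥) : Nat.card H ≤ Nat.card E ^ Nat.card E := by
  classical
  let F : H → (E → E) := fun h x => ⟨h * x * h⁻¹, hE.conj_mem _ x.2 h⟩
  have hF : Function.Injective F := by
    intro a b hab
    have h1 : a⁻¹ * b ∈ centralizer (E : Set H) := by
      rw [mem_centralizer_iff]
      intro x hx
      have h2 : a * x * a⁻¹ = b * x * b⁻¹ := congrArg Subtype.val (congrFun hab ⟨x, hx⟩)
      calc x * (a⁻¹ * b) = a⁻¹ * (a * x * a⁻¹) * b := by group
        _ = a⁻¹ * (b * x * b⁻¹) * b := by rw [h2]
        _ = a⁻¹ * b * x := by group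
    rw [hc, mem_bot, inv_mul_eq_one] at h1
    exact h1
  have := Nat.card_le_card_of_injective F hF
  rwa [Nat.card_fun] at this

end Cfsg.Agent.H708.RFam
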