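import Mathlib
import Cfsg.Agent.H708.RFAll
import Cfsg.Agent.H708.RFRed
import Cfsg.Agent.S0160

/-!
# Few real-valued irreducible characters (helper708, S4851)
-/

set_option autoImplicit false

namespace Cfsg.Agent.H708.RFam

open Cfsg Subgroup
open Cfsg.Agent.SignalizersComponents.Components

universe u

theorem self_pow_mono {a b : ℕ} (hb : 1 ≤ b) (h : a ≤ b) : a ^ a ≤ b ^ b :=
  (Nat.pow_le_pow_left h a).trans (Nat.pow_le_pow_right hb h)

/-- Groups with trivial solvable radical. -/
theorem card_le_of_rc {H : Type u} [Group H] [Finite H] (hT : TC H)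
    (hc : centralizer (layer H : Set H) = ⊥) {k N : ℕ} (hk : RC H ≤ k)
    (hN : ∀ K : Subgroup H, IsComponent K → ¬ RF K (k + 1) → Nat.card K ≤ N) :
    Nat.card H ≤ ((N + 1) ^ k) ^ ((N + 1) ^ k) := by
  have h1 : Nat.card (layer H) ≤ (N + 1) ^ k := by
    have h2 := card_layer_le (H := H) (M := N + 1)
      (fun K hK => (hN K hK (not_rf_comp hT hk hK)).trans (Nat.le_succ N))
    refine h2.trans (Nat.pow_le_pow_right (Nat.succ_pos N) ?_)
    have := card_comp_lt hT
    omega
  exact (card_le_of_centralizer (layer_normal H) hc).trans (self_pow_mono (Nat.one_le_pow _ _ (Nat.succ_pos N)) h1)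

/-- Inflation of real-valued irreducible characters. -/
theorem card_real_le {G H : Type*} [Group G] [Group H] [Finite G] (f : G →* H)
    (hf : Function.Surjective f) :
    Nat.card {χ : IrrCharacter H // ∀ g : H, ((χ : H → ℂ) g).im = 0} ≤
      Nat.card {χ : IrrCharacter G // ∀ g : G, ((χ : G → ℂ) g).im = 0} := by
  have : Finite (IrrCharacter G) := Cfsg.Agent.Characters.Core.finite_irr
  refine Nat.card_le_card_of_injective
    (fun χ => ⟨⟨_, Cfsg.Agent.Characters.Core.isIrr_comp f hf χ.1.2⟩, fun g => χ.2 (f g)⟩) ?_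
  intro χ ψ h
  apply Subtype.ext
  apply Subtype.ext
  funext y
  obtain ⟨x, rfl⟩ := hf y
  have h1 := congrArg (fun z => z.1.1 x) h
  exact h1

end Cfsg.Agent.H708.RFam
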