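import Cfsg.Agent.H904.HSIso
import Cfsg.Agent.H58.Rec.Kill
import Cfsg.Agent.NotCT.Orders

/-!
# Facts on the Higman–Sims group for its recognition by spectrum (helper708)

* `hasFrob_three` : a Frobenius group `3² : 8`;
* `no_nine`, `no_twentyfive` : no elements of order 9, 25;
* `hasOrd_fifteen`.
-/

set_option autoImplicit false
set_option maxRecDepth 100000

namespace Cfsg.Agent.H708.RecHS

open Cfsg Cfsg.Agent.SporadicA.PermTab Cfsg.Agent.HN Cfsg.Agent.HN.HS100 Cfsg.Agent.HN.Pres Cfsg.Agent.KFacts.HS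
open Cfsg.Agent.H904.CentChk Cfsg.Agent.H904.HSCent Subgroup Equiv Cfsg.Agent.H58.Rec

universe u

/-- an element of order 3 -/
def tA : ℕ := 0x4e0c40a80e00e0942b02f082050258320b203418029090184110470a00cc090230ae00c2483e09e0202d8370800682282607e14c1e80b05a188030540020741d85a0580581d01e0420b81a84e0a21301c02800a10c0c8420540ac2e01108c154050390400902f01802e1602903402603c0d86009a0402e85f0040d80481f0180703184a0080f022000
/-- an element of order 8 -/
def tC : ℕ := 0xb41302b85d0600b42885009e0ec1f0620901182d84107e1642685f0b81601d02c0a60503084908a0582a02e03e10c0f04e0a40a00c0390bc1581b80c02e0d41a04a0401081302f0aa0f00e80f0220201081504a0ac318230440c81481a02401c138440620340180901618025805004090070400200a8198470380100001b070004050360320180983d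
/-- an element of order 15 -/
def tF : ℕ := 0xbc0642b8520aa0302d01f04c0b41f0530740101c8110281881485f08618c1202f0b20ac250340820dc1802e0421100785d09c0a01500d0a20c81b03b01c0d41182702a108028010a812c2380008a1582800a0980fc200490300200903c09a01c3085c00416c0e0090620f40d04f0161200805802e0880180606606c0f0460700b01001604a07430013

theorem inA : InG Q tA := word_of (L := [tW, tY, tX, tW, tX, tY, tW, tY, tW, tX, tY, tY, tW, tY, tY, tW, tW]) (mem3 inX inY inW) (by simp) (by decide +kernel)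
theorem inC : InG Q tC := word_of (L := [tW, tX]) (mem3 inX inY inW) (by simp) (by decide +kernel)
theorem inF : InG Q tF := word_of (L := [tW, tY, tW, tY, tY, tY, tY, tX]) (mem3 inX inY inW) (by simp) (by decide +kernel)

section

variable {L : Type*} [Group L]

/-- the values of `ψ l` -/
def Val (ψ : L →* Perm (Fin 100)) (l : L) (f : ℕ → ℕ) : Prop := ∀ i : Fin 100, ((ψ l i : Fin 100) : ℕ) = f i

variable {ψ : L →* Perm (Fin 100)}

theorem Val.one : Val ψ 1 (fun i => i) := fun i => by rw [map_one, Perm.one_apply]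

theorem Val.mul {l l' : L} {f f' : ℕ → ℕ} (h : Val ψ l f) (h' : Val ψ l' f') : Val ψ (l * l') (fun i => f (f' i)) := by
  intro i
  rw [map_mul, Perm.mul_apply, h, h']

theorem Val.pow {l : L} {f : ℕ → ℕ} (h : Val ψ l f) (k : ℕ) : Val ψ (l ^ k) (f^[k]) := by
  induction k with
  | zero => rw [pow_zero]; exact Val.one
  | succ k ih =>
    intro i
    rw [pow_succ', (h.mul ih) i, Function.iterate_succ_apply']

theorem Val.ne {l l' : L} {f f' : ℕ → ℕ} (h : Val ψ l f) (h' : Val ψ l' f') (i : Fin 100) (hi : f i ≠ f' i) :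
    l ≠ l' := by
  rintro rfl
  exact hi ((h i).symm.trans (h' i))

theorem Val.eq (hinj : Function.Injective ψ) {l l' : L} {f f' : ℕ → ℕ} (h : Val ψ l f) (h' : Val ψ l' f')
    (hc : allB (fun i => Nat.beq (f i) (f' i)) 100 = true) : l = l' := by
  apply hinj
  refine Equiv.ext fun i => Fin.ext ?_
  rw [h, h']
  exact Nat.eq_of_beq_eq_true ((allB_iff _ _).1 hc i i.2)

end

section

variable {L : Type u} [Group L] {D : KFacts.HS.Mod L} {ψ : L →* Perm (Fin 100)}

/-- the elements of a Frobenius group `3² : 8` -/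
theorem exists_ac (R : Rep L D ψ) : ∃ a c : L, a ^ 3 = 1 ∧ c ^ 8 = 1 ∧ c ^ 4 ≠ 1 ∧ a ≠ 1 ∧
    c * a * c⁻¹ ≠ a ∧ c * a * c⁻¹ ≠ a * a ∧ a * (c * a * c⁻¹) = (c * a * c⁻¹) * a ∧
    c * (c * a * c⁻¹) * c⁻¹ = a * (c * a * c⁻¹) ∧ c ^ 4 * a = a⁻¹ * c ^ 4 := by
  obtain ⟨a, ha⟩ := R.exists_of inA
  obtain ⟨c, hc⟩ := R.exists_of inC
  have ha : Val ψ a (lk tA) := ha
  have hc : Val ψ c (lk tC) := hc
  have E := R.inj
  have c8 : c ^ 8 = 1 := (hc.pow 8).eq E Val.one (by decide +kernel)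
  have ci : c⁻¹ = c ^ 7 := by
    rw [inv_eq_iff_mul_eq_one, ← pow_succ', c8]
  have hci : Val ψ c⁻¹ ((lk tC)^[7]) := ci ▸ hc.pow 7
  have hb : Val ψ (c * a * c⁻¹) (fun i => lk tC (lk tA ((lk tC)^[7] i))) := (hc.mul ha).mul hci
  have a3 : a ^ 3 = 1 := (ha.pow 3).eq E Val.one (by decide +kernel)
  refine ⟨a, c, a3, c8, ?_, ?_, ?_, ?_, ?_, ?_, ?_⟩
  · exact (hc.pow 4).ne Val.one 4 (by decide +kernel)
  · exact ha.ne Val.one 4 (by decide +kernel)
  · exact hb.ne ha 4 (by decide +kernel)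
  · exact hb.ne (ha.mul ha) 4 (by decide +kernel)
  · exact (ha.mul hb).eq E (hb.mul ha) (by decide +kernel)
  · exact ((hc.mul hb).mul hci).eq E (ha.mul hb) (by decide +kernel)
  · rw [eq_inv_mul_iff_mul_eq]
    exact (ha.mul ((hc.pow 4).mul ha)).eq E (hc.pow 4) (by decide +kernel)

theorem exists_fifteen (R : Rep L D ψ) : HasOrd L 15 := by
  obtain ⟨f, hf⟩ := R.exists_of inF
  have hf : Val ψ f (lk tF) := hf
  refine ⟨f, orderOf_eq_of_pow_and_pow_div_prime (by norm_num) ((hf.pow 15).eq R.inj Val.one (by decide +kernel)) ?_⟩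
  intro p hp hd
  have h1 : p = 3 ∨ p = 5 := by
    have h2 : p ∣ 3 * 5 := hd
    rcases (Nat.Prime.dvd_mul hp).1 h2 with h3 | h3
    · exact Or.inl ((Nat.prime_dvd_prime_iff_eq hp (by norm_num)).1 h3)
    · exact Or.inr ((Nat.prime_dvd_prime_iff_eq hp (by norm_num)).1 h3)
  rcases h1 with rfl | rfl
  · exact (hf.pow 5).ne Val.one 1 (by decide +kernel)
  · exact (hf.pow 3).ne Val.one 1 (by decide +kernel)

end

end Cfsg.Agent.H708.RecHS
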