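import Cfsg.Agent.H708.RecHSA

/-!
# Facts on the Higman–Sims group for its recognition by spectrum, II (helper708)

* `hasFrob_of_ac` : a Frobenius group `3² : 8` from two elements;
* `no_nine` : no element of order 9;
* `pow_five` : exponent of a group of class two generated by elements of order 5; `no_twentyfive`.
-/

set_option autoImplicit false

namespace Cfsg.Agent.H708.RecHS

open Cfsg Subgroup Cfsg.Agent.H58.Rec

universe u

section frob

variable {L : Type u} [Group L] {a b c : L}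

/-- `{a^i b^j}` -/
theorem mem_ab [Finite L] (hab : a * b = b * a) {x : L} (hx : x ∈ closure ({a, b} : Set L)) :
    ∃ i j : ℕ, x = a ^ i * b ^ j := by
  have hC : Commute a b := hab
  induction hx using closure_induction with
  | mem x hx =>
    rcases hx with rfl | rfl
    · exact ⟨1, 0, by simp⟩
    · exact ⟨0, 1, by simp⟩
  | one => exact ⟨0, 0, by simp⟩
  | mul x y _ _ hx hy =>
    obtain ⟨i, j, rfl⟩ := hx
    obtain ⟨i', j', rfl⟩ := hy
    refine ⟨i + i', j + j', ?_⟩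
    have h1 : a ^ i' * b ^ j = b ^ j * a ^ i' := (hC.pow_pow i' j).eq
    rw [pow_add, pow_add]
    calc a ^ i * b ^ j * (a ^ i' * b ^ j') = a ^ i * (b ^ j * a ^ i') * b ^ j' := by group
      _ = a ^ i * (a ^ i' * b ^ j) * b ^ j' := by rw [h1]
      _ = a ^ i * a ^ i' * (b ^ j * b ^ j') := by group
  | inv x _ hx =>
    obtain ⟨i, j, rfl⟩ := hx
    have ha : a⁻¹ ∈ Submonoid.powers a := mem_powers_iff_mem_zpowers.2 ((zpowers a).inv_mem (mem_zpowers a))
    have hb : b⁻¹ ∈ Submonoid.powers b := mem_powers_iff_mem_zpowers.2 ((zpowers b).inv_mem (mem_zpowers b))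
    obtain ⟨k, hk⟩ := ha
    obtain ⟨m, hm⟩ := hb
    have hk : a ^ k = a⁻¹ := hk
    have hm : b ^ m = b⁻¹ := hm
    refine ⟨k * i, m * j, ?_⟩
    rw [pow_mul, pow_mul, hk, hm, mul_inv_rev]
    have h1 : Commute (b ^ j)⁻¹ (a ^ i)⁻¹ := ((hC.pow_pow i j).symm).inv_inv
    rw [h1.eq, inv_pow, inv_pow]

theorem hasFrob_of_ac [Finite L] (a3 : a ^ 3 = 1) (c8 : c ^ 8 = 1) (c4 : c ^ 4 ≠ 1) (a1 : a ≠ 1)
    (hab : a * (c * a * c⁻¹) = (c * a * c⁻¹) * a) (hcb : c * (c * a * c⁻¹) * c⁻¹ = a * (c * a * c⁻¹))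
    (hinv : c ^ 4 * a = a⁻¹ * c ^ 4) : HasFrob L 3 8 := by
  have hf3 : Fact (Nat.Prime 3) := ⟨by norm_num⟩
  obtain ⟨b, hb⟩ : ∃ b, b = c * a * c⁻¹ := ⟨_, rfl⟩
  rw [← hb] at hab hcb
  have b3 : b ^ 3 = 1 := by
    rw [hb]
    rw [conj_pow, a3]; group
  have hC : Commute a b := hab
  have hinvb : c ^ 4 * b = b⁻¹ * c ^ 4 := by
    rw [hb]
    calc c ^ 4 * (c * a * c⁻¹) = c * (c ^ 4 * a) * c⁻¹ := by group
      _ = c * (a⁻¹ * c ^ 4) * c⁻¹ := by rw [hinv]
      _ = (c * a * c⁻¹)⁻¹ * c ^ 4 := by group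
  set T : Subgroup L := closure ({a, b} : Set L) with hT
  have haT : a ∈ T := subset_closure (by simp)
  have hbT : b ∈ T := subset_closure (by simp)
  have hinvT : ∀ x ∈ T, c ^ 4 * x = x⁻¹ * c ^ 4 := by
    intro x hx
    obtain ⟨i, j, rfl⟩ := mem_ab hab hx
    have ea : ∀ i : ℕ, c ^ 4 * a ^ i = (a ^ i)⁻¹ * c ^ 4 := by
      intro i
      have h1 : c ^ 4 * a ^ i * (c ^ 4)⁻¹ = (a ^ i)⁻¹ := by
        have h2 : c ^ 4 * a ^ i * (c ^ 4)⁻¹ = (c ^ 4 * a * (c ^ 4)⁻¹) ^ i := by rw [conj_pow]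
        rw [h2, hinv]; group
      rw [← h1]; group
    have eb : ∀ i : ℕ, c ^ 4 * b ^ i = (b ^ i)⁻¹ * c ^ 4 := by
      intro i
      have h1 : c ^ 4 * b ^ i * (c ^ 4)⁻¹ = (b ^ i)⁻¹ := by
        have h2 : c ^ 4 * b ^ i * (c ^ 4)⁻¹ = (c ^ 4 * b * (c ^ 4)⁻¹) ^ i := by rw [conj_pow]
        rw [h2, hinvb]; group
      rw [← h1]; group
    have h3 : Commute (a ^ i)⁻¹ (b ^ j)⁻¹ := (hC.pow_pow i j).inv_inv
    calc c ^ 4 * (a ^ i * b ^ j) = c ^ 4 * a ^ i * b ^ j := by group
      _ = (a ^ i)⁻¹ * (c ^ 4 * b ^ j) := by rw [ea]; group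
      _ = (a ^ i)⁻¹ * (b ^ j)⁻¹ * c ^ 4 := by rw [eb]; group
      _ = (a ^ i * b ^ j)⁻¹ * c ^ 4 := by rw [mul_inv_rev, h3.eq]
  have hT3 : ∀ x ∈ T, x ^ 3 = 1 := by
    intro x hx
    obtain ⟨i, j, rfl⟩ := mem_ab hab hx
    rw [(hC.pow_pow i j).mul_pow, ← pow_mul, ← pow_mul, mul_comm i, mul_comm j, pow_mul, pow_mul, a3, b3, one_pow,
      one_pow, one_mul]
  have hcT : c ∈ normalizer (T : Set L) := by
    have h1 : T.map (MulAut.conj c).toMonoidHom ≤ T := by
      rw [hT, MonoidHom.map_closure, closure_le]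
      rintro _ ⟨x, hx, rfl⟩
      rcases hx with rfl | rfl
      · show c * x * c⁻¹ ∈ T
        rw [← hb]; exact hbT
      · show c * x * c⁻¹ ∈ T
        rw [hcb]; exact mul_mem haT hbT
    have h2 : T.map (MulAut.conj c).toMonoidHom = T := by
      apply eq_of_le_of_card_ge h1
      rw [card_map_of_injective (MulAut.conj c).injective]
    rw [mem_normalizer_iff]
    intro x
    constructor
    · intro hx
      rw [← h2]
      exact ⟨x, hx, rfl⟩
    · intro hx
      rw [← h2] at hx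
      obtain ⟨y, hy, hyx⟩ := hx
      have h3 : c * y * c⁻¹ = c * x * c⁻¹ := hyx
      have h4 : y = x := by simpa using h3
      rw [← h4]; exact hy
  have hco : orderOf c = 8 := orderOf_eq_prime_pow (p := 2) (n := 2) c4 c8
  refine ⟨T, c, ?_, ?_, hcT, hco, ?_⟩
  · rintro ⟨x, hx⟩
    exact ⟨1, by rw [pow_one]; exact Subtype.ext (hT3 x hx)⟩
  · intro h
    rw [h, mem_bot] at haT
    exact a1 haT
  · intro j h0 hj x hx hxc
    have hxC : Commute x (c ^ j) := hxc
    have key : ∀ m k : ℕ, j * m = 4 + 8 * k → x = 1 := by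
      intro m k hmk
      have h1 : Commute x (c ^ 4) := by
        have h2 : c ^ 4 = (c ^ j) ^ m := by
          rw [← pow_mul, hmk, pow_add, pow_mul, c8, one_pow, mul_one]
        rw [h2]
        exact hxC.pow_right m
      have h2 := hinvT x hx
      rw [← h1.eq] at h2
      have h3 : x = x⁻¹ := mul_right_cancel h2
      have h4 : x * x = 1 := by
        nth_rw 1 [h3]; exact inv_mul_cancel x
      have h5 := hT3 x hx
      rw [pow_succ, pow_two, h4, one_mul] at h5
      exact h5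
    have h8 : j = 1 ∨ j = 2 ∨ j = 3 ∨ j = 4 ∨ j = 5 ∨ j = 6 ∨ j = 7 := by omega
    rcases h8 with rfl | rfl | rfl | rfl | rfl | rfl | rfl
    · exact key 4 0 rfl
    · exact key 2 0 rfl
    · exact key 4 1 rfl
    · exact key 1 0 rfl
    · exact key 4 2 rfl
    · exact key 2 1 rfl
    · exact key 4 3 rfl

end frob

section nine

/-- no element of order `9` in a group with a noncyclic Sylow `3`-subgroup of order `9` -/
theorem no_nine_of {S : Type*} [Group S] [Finite S] (hS : ¬ 27 ∣ Nat.card S) {x y : S} (hx : x ^ 3 = 1) (hy : y ^ 3 = 1)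
    (hxy : x * y = y * x) (hx1 : x ≠ 1) (hyx : y ≠ x) (hyx2 : y ≠ x * x) (hy1 : y ≠ 1) : ¬ HasOrd S 9 := by
  rintro ⟨g, hg⟩
  have : Fact (Nat.Prime 3) := ⟨by norm_num⟩
  have hT3 : ∀ z ∈ closure ({x, y} : Set S), z ^ 3 = 1 := by
    intro z hz
    obtain ⟨i, j, rfl⟩ := mem_ab hxy hz
    have hC : Commute x y := hxy
    rw [(hC.pow_pow i j).mul_pow, ← pow_mul, ← pow_mul, mul_comm i, mul_comm j, pow_mul, pow_mul, hx, hy, one_pow,
      one_pow, one_mul]
  have hTp : IsPGroup 3 (closure ({x, y} : Set S)) := by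
    rintro ⟨z, hz⟩
    exact ⟨1, by rw [pow_one]; exact Subtype.ext (hT3 z hz)⟩
  have hgp : IsPGroup 3 (zpowers g) := IsPGroup.of_card (n := 2) (by rw [Nat.card_zpowers, hg]; norm_num)
  obtain ⟨P, hP⟩ := hTp.exists_le_sylow
  obtain ⟨Q, hQ⟩ := hgp.exists_le_sylow
  have hcard : ∀ R : Sylow 3 S, Nat.card (R : Subgroup S) ∣ 9 := by
    intro R
    obtain ⟨k, hk⟩ := IsPGroup.iff_card.1 R.isPGroup'
    have h1 : k ≤ 2 := by
      by_contra h2
      apply hS
      have h3 : 3 ^ 3 ∣ 3 ^ k := pow_dvd_pow 3 (by omega)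
      rw [← hk] at h3
      exact (show (27 : ℕ) ∣ 3 ^ 3 by norm_num).trans (h3.trans (card_subgroup_dvd_card _))
    rw [hk]
    exact pow_dvd_pow 3 h1
  have hQg : zpowers g = (Q : Subgroup S) := by
    refine eq_of_le_of_card_ge hQ ?_
    rw [Nat.card_zpowers, hg]
    exact Nat.le_of_dvd (by norm_num) (hcard Q)
  obtain ⟨s, hs⟩ := MulAction.exists_smul_eq S Q P
  have hPc : IsCyclic (P : Subgroup S) := by
    have h1 : IsCyclic (Q : Subgroup S) := by rw [← hQg]; infer_instance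
    rw [← hs]
    exact isCyclic_of_surjective (Subgroup.equivSMul (MulAut.conj s) (Q : Subgroup S)).toMonoidHom
      (Subgroup.equivSMul (MulAut.conj s) (Q : Subgroup S)).surjective
  have hxP : x ∈ (P : Subgroup S) := hP (subset_closure (by simp))
  have hyP : y ∈ (P : Subgroup S) := hP (subset_closure (by simp))
  have hxx1 : x * x ≠ 1 := by
    intro h
    rw [pow_succ, pow_two, h, one_mul] at hx
    exact hx1 hx
  have hxxx : x * x ≠ x := by
    intro h
    exact hx1 (mul_eq_right.1 h)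
  have hft : Fintype (P : Subgroup S) := Fintype.ofFinite _
  have hde : DecidableEq (P : Subgroup S) := Classical.decEq _
  let F : Finset (P : Subgroup S) := {1, ⟨x, hxP⟩, ⟨x * x, mul_mem hxP hxP⟩, ⟨y, hyP⟩}
  have hF : F.card = 4 := by
    rw [Finset.card_insert_of_notMem, Finset.card_insert_of_notMem, Finset.card_insert_of_notMem,
      Finset.card_singleton]
    · simpa [Subtype.ext_iff] using hyx2.symm
    · simp only [Finset.mem_insert, Finset.mem_singleton, Subtype.ext_iff, not_or]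
      exact ⟨hxxx.symm, hyx.symm⟩
    · simp only [Finset.mem_insert, Finset.mem_singleton, Subtype.ext_iff, not_or]
      exact ⟨hx1.symm, hxx1.symm, hy1.symm⟩
  have h5 : F ⊆ Finset.univ.filter fun z : (P : Subgroup S) => z ^ 3 = 1 := by
    intro z hz
    rw [Finset.mem_filter]
    refine ⟨Finset.mem_univ _, ?_⟩
    apply Subtype.ext
    rw [Subgroup.coe_pow, Subgroup.coe_one]
    have h6 : (z : S) ∈ closure ({x, y} : Set S) := by
      have hx' : x ∈ closure ({x, y} : Set S) := subset_closure (by simp)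
      have hy' : y ∈ closure ({x, y} : Set S) := subset_closure (by simp)
      simp only [F, Finset.mem_insert, Finset.mem_singleton] at hz
      rcases hz with rfl | rfl | rfl | rfl
      · exact one_mem _
      · exact hx'
      · exact mul_mem hx' hx'
      · exact hy'
    exact hT3 _ h6
  have h6 := Finset.card_le_card h5
  have h4 := IsCyclic.card_pow_eq_one_le (α := (P : Subgroup S)) (n := 3) (by norm_num)
  rw [hF] at h6
  omega

end nine

section five

variable {L : Type u} [Group L] {u v c : L}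

/-- the elements `u^i v^j c^k` -/
theorem five_mul (hu : u * c = c * u) (hv : v * c = c * v) (huv : u * v = c * (v * u)) (c5 : c ^ 5 = 1)
    (i j k i' j' k' : ℕ) : u ^ i * v ^ j * c ^ k * (u ^ i' * v ^ j' * c ^ k') =
      u ^ (i + i') * v ^ (j + j') * c ^ (k + k' + 4 * (j * i')) := by
  have hcu : Commute c u := hu.symm
  have hcv : Commute c v := hv.symm
  have c4 : c ^ 4 = c⁻¹ := by
    rw [eq_inv_iff_mul_eq_one, ← pow_succ, c5]
  -- `v u = c⁴ u v`
  have h1 : v * u = c ^ 4 * (u * v) := by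
    rw [huv, ← mul_assoc, ← pow_succ, c5, one_mul]
  have h2 : ∀ i : ℕ, v * u ^ i = c ^ (4 * i) * (u ^ i * v) := by
    intro i
    induction i with
    | zero => simp
    | succ i ih =>
      calc v * u ^ (i + 1) = v * u ^ i * u := by rw [pow_succ, mul_assoc]
        _ = c ^ (4 * i) * (u ^ i * (v * u)) := by rw [ih]; group
        _ = c ^ (4 * i) * (u ^ i * (c ^ 4 * (u * v))) := by rw [h1]
        _ = c ^ (4 * i) * (c ^ 4 * u ^ i) * (u * v) := by
          rw [(hcu.pow_pow 4 i).eq]; group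
        _ = c ^ (4 * (i + 1)) * (u ^ (i + 1) * v) := by
          rw [show 4 * (i + 1) = 4 * i + 4 by ring, pow_add, pow_succ u]; group
  have h3 : ∀ i j : ℕ, v ^ j * u ^ i = c ^ (4 * (j * i)) * (u ^ i * v ^ j) := by
    intro i j
    induction j with
    | zero => simp
    | succ j ih =>
      calc v ^ (j + 1) * u ^ i = v ^ j * (v * u ^ i) := by rw [pow_succ, mul_assoc]
        _ = v ^ j * (c ^ (4 * i) * (u ^ i * v)) := by rw [h2]
        _ = (v ^ j * c ^ (4 * i)) * (u ^ i * v) := by group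
        _ = c ^ (4 * i) * (v ^ j * u ^ i) * v := by
          rw [← (hcv.pow_pow (4 * i) j).eq]; group
        _ = c ^ (4 * i) * (c ^ (4 * (j * i)) * (u ^ i * v ^ j)) * v := by rw [ih]
        _ = c ^ (4 * ((j + 1) * i)) * (u ^ i * v ^ (j + 1)) := by
          rw [show 4 * ((j + 1) * i) = 4 * i + 4 * (j * i) by ring, pow_add c, pow_succ v]; group
  calc u ^ i * v ^ j * c ^ k * (u ^ i' * v ^ j' * c ^ k')
      = u ^ i * v ^ j * (c ^ k * u ^ i') * v ^ j' * c ^ k' := by group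
    _ = u ^ i * (v ^ j * u ^ i') * (c ^ k * v ^ j') * c ^ k' := by
        rw [(hcu.pow_pow k i').eq]; group
    _ = u ^ i * (c ^ (4 * (j * i')) * (u ^ i' * v ^ j)) * (v ^ j' * c ^ k) * c ^ k' := by
        rw [h3, (hcv.pow_pow k j').eq]
    _ = (u ^ i * c ^ (4 * (j * i'))) * (u ^ i' * (v ^ j * v ^ j')) * c ^ k * c ^ k' := by group
    _ = c ^ (4 * (j * i')) * (u ^ (i + i') * v ^ (j + j')) * c ^ k * c ^ k' := by
        rw [← (hcu.pow_pow (4 * (j * i')) i).eq, ← pow_add v, pow_add u]; group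
    _ = u ^ (i + i') * v ^ (j + j') * c ^ (4 * (j * i')) * c ^ k * c ^ k' := by
        have h4 : Commute (c ^ (4 * (j * i'))) (u ^ (i + i') * v ^ (j + j')) :=
          (hcu.pow_pow _ _).mul_right (hcv.pow_pow _ _)
        rw [h4.eq]
    _ = _ := by
        rw [mul_assoc, mul_assoc, ← pow_add, ← pow_add]
        congr 2
        ring

theorem pow5 (x : L) : x ^ 5 = x * x * x * x * x := by simp only [pow_succ, pow_zero, one_mul]

theorem five_pow (hu : u * c = c * u) (hv : v * c = c * v) (huv : u * v = c * (v * u)) (u5 : u ^ 5 = 1) (v5 : v ^ 5 = 1)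
    (c5 : c ^ 5 = 1) (i j k : ℕ) : (u ^ i * v ^ j * c ^ k) ^ 5 = 1 := by
  have h : ∀ n, u ^ (5 * n) = 1 ∧ v ^ (5 * n) = 1 ∧ c ^ (5 * n) = 1 := fun n => by
    rw [pow_mul, pow_mul, pow_mul, u5, v5, c5]
    exact ⟨one_pow _, one_pow _, one_pow _⟩
  have m := five_mul hu hv huv c5
  rw [pow5, m, m, m, m, show i + i + i + i + i = 5 * i by ring, show j + j + j + j + j = 5 * j by ring,
    show k + k + 4 * (j * i) + k + 4 * ((j + j) * i) + k + 4 * ((j + j + j) * i) + k + 4 * ((j + j + j + j) * i) =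
      5 * (k + 8 * (j * i)) by ring, (h _).1, (h _).2.1, (h _).2.2, one_mul, one_mul]

theorem no_twentyfive_of [Finite L] (hL : ¬ 625 ∣ Nat.card L) (hu : u * c = c * u) (hv : v * c = c * v)
    (huv : u * v = c * (v * u)) (u5 : u ^ 5 = 1) (v5 : v ^ 5 = 1) (c5 : c ^ 5 = 1) (c1 : c ≠ 1) : ¬ HasOrd L 25 := by
  rintro ⟨g, hg⟩
  have : Fact (Nat.Prime 5) := ⟨by norm_num⟩
  have hmem : ∀ z ∈ closure ({u, v, c} : Set L), ∃ i j k : ℕ, z = u ^ i * v ^ j * c ^ k := by
    intro z hz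
    induction hz using closure_induction with
    | mem x hx =>
      rcases hx with rfl | rfl | rfl
      · exact ⟨1, 0, 0, by simp⟩
      · exact ⟨0, 1, 0, by simp⟩
      · exact ⟨0, 0, 1, by simp⟩
    | one => exact ⟨0, 0, 0, by simp⟩
    | mul x y _ _ hx hy =>
      obtain ⟨i, j, k, rfl⟩ := hx
      obtain ⟨i', j', k', rfl⟩ := hy
      exact ⟨_, _, _, five_mul hu hv huv c5 i j k i' j' k'⟩
    | inv x _ hx =>
      obtain ⟨i, j, k, rfl⟩ := hx
      have m := five_mul hu hv huv c5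
      have e : (u ^ i * v ^ j * c ^ k)⁻¹ = u ^ i * v ^ j * c ^ k * (u ^ i * v ^ j * c ^ k) * (u ^ i * v ^ j * c ^ k) *
          (u ^ i * v ^ j * c ^ k) := by
        have h1 := five_pow hu hv huv u5 v5 c5 i j k
        rw [pow5] at h1
        exact inv_eq_of_mul_eq_one_left h1
      rw [e, m, m, m]
      exact ⟨_, _, _, rfl⟩
  have hT5 : ∀ z ∈ closure ({u, v, c} : Set L), z ^ 5 = 1 := by
    intro z hz
    obtain ⟨i, j, k, rfl⟩ := hmem z hz
    exact five_pow hu hv huv u5 v5 c5 i j k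
  have hTp : IsPGroup 5 (closure ({u, v, c} : Set L)) := by
    rintro ⟨z, hz⟩
    exact ⟨1, by rw [pow_one]; exact Subtype.ext (hT5 z hz)⟩
  have hgp : IsPGroup 5 (zpowers g) := IsPGroup.of_card (n := 2) (by rw [Nat.card_zpowers, hg]; norm_num)
  obtain ⟨P, hP⟩ := hTp.exists_le_sylow
  obtain ⟨Q, hQ⟩ := hgp.exists_le_sylow
  obtain ⟨k, hk⟩ := IsPGroup.iff_card.1 hTp
  obtain ⟨m, hm⟩ := IsPGroup.iff_card.1 P.isPGroup'
  have hm3 : m ≤ 3 := by
    by_contra h2
    apply hL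
    have h3 : 5 ^ 4 ∣ 5 ^ m := pow_dvd_pow 5 (by omega)
    rw [← hm] at h3
    exact (show (625 : ℕ) ∣ 5 ^ 4 by norm_num).trans (h3.trans (card_subgroup_dvd_card _))
  have huT : u ∈ closure ({u, v, c} : Set L) := subset_closure (by simp)
  have hvT : v ∈ closure ({u, v, c} : Set L) := subset_closure (by simp)
  have hnc : ¬ (∀ a b : closure ({u, v, c} : Set L), a * b = b * a) := by
    intro hcom
    have h1 := congrArg Subtype.val (hcom ⟨u, huT⟩ ⟨v, hvT⟩)
    have h2 : u * v = v * u := h1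
    rw [huv] at h2
    exact c1 (mul_eq_right.1 h2)
  have hk3 : 3 ≤ k := by
    by_contra h2
    have h3 : k = 0 ∨ k = 1 ∨ k = 2 := by omega
    rcases h3 with rfl | rfl | rfl
    · rw [pow_zero, card_eq_one] at hk
      apply hnc
      intro a b
      have h4 : ∀ x : closure ({u, v, c} : Set L), x = 1 := by
        rintro ⟨x, hx⟩
        rw [hk, mem_bot] at hx
        exact Subtype.ext hx
      rw [h4 a, h4 b]
    · rw [pow_one] at hk
      have := isCyclic_of_prime_card hk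
      exact hnc fun a b => (IsCyclic.commGroup).mul_comm a b
    · have := IsPGroup.isMulCommutative_of_card_eq_prime_sq hk
      exact hnc fun a b => mul_comm' a b
  have hTP : closure ({u, v, c} : Set L) = (P : Subgroup L) := by
    refine eq_of_le_of_card_ge hP ?_
    rw [hk, hm]
    exact Nat.pow_le_pow_right (by norm_num) (by omega)
  obtain ⟨s, hs⟩ := MulAction.exists_smul_eq L Q P
  have hgP : s * g * s⁻¹ ∈ (P : Subgroup L) := by
    rw [← hs, Sylow.coe_subgroup_smul]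
    exact Subgroup.smul_mem_pointwise_smul g (MulAut.conj s) _ (hQ (mem_zpowers g))
  rw [← hTP] at hgP
  have h1 := hT5 _ hgP
  have h2 : (s * g * s⁻¹) ^ 5 = s * g ^ 5 * s⁻¹ := conj_pow
  rw [h2] at h1
  have h3 : g ^ 5 = 1 := conj_eq_one_iff.1 h1
  have h4 := orderOf_dvd_of_pow_eq_one h3
  rw [hg] at h4
  norm_num at h4

end five

end Cfsg.Agent.H708.RecHS
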