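import Cfsg.Agent.H944.TS.Iface
import Cfsg.Agent.TwoESix.LeviF
import Cfsg.Agent.TwoESix.LeviCard

/-!
# `PSU(6, 2)` is a subgroup of `²E₆(2)` (task 979, for S5741)
-/

set_option autoImplicit false

namespace Cfsg.Agent.H708.TSPsu62

open Cfsg Cfsg.Agent.OrdDiv Cfsg.Agent.H944.TS

universe u

theorem in_psu62 {K : Type u} [Field K] [Fintype K] (hK : Fintype.card K = 4) : InE K (.psu 6 2) := by
  obtain ⟨hc, φ, F⟩ := Cfsg.Agent.TwoESix.LeviA.exists_four K hK
  have h15 := Cfsg.Agent.TwoESix.LeviCard.factorization_LL F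
  let G4 := GaloisField 2 2
  letI : Fintype G4 := Fintype.ofFinite G4
  have hG4 : Fintype.card G4 = 2 ^ 2 := by
    rw [← Nat.card_eq_fintype_card]; exact GaloisField.card 2 2 (by norm_num)
  obtain ⟨e, -⟩ := Cfsg.Agent.TwoESix.LeviF.exists_e F hG4 h15
  refine InE.of_injective (X := ↥(Cfsg.Agent.TwoESix.LeviC.LL K))
    (Subgroup.inclusion (inf_le_right)) (Subgroup.inclusion_injective _) ?_
  intro L ⟨e'⟩
  exact ⟨G4, inferInstance, inferInstance, hG4, ⟨e'.trans e⟩⟩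

end Cfsg.Agent.H708.TSPsu62
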