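import Cfsg.Agent.H708.WtSeven

/-!
# A torus normalised by an element of order three and multiplicity one weights

Continuation of `WtSeven`: `S ≤ G` elementary abelian of order `8`, `g` of order `7` acting on `S` without fixed points.
If the representation has degree at most `13`, then non-trivial weights of `S` have multiplicity one, and

* `exists_fixed` : `S` has a non-zero fixed vector if the degree is at least `8`;
* `fix_of_loc` : an element `y` of odd order centralised by the hyperplane `V` of `S`, inverted by `s ∈ S ∖ V`, and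
  normalised by an element `r` of order three acting on `⟨y⟩` without fixed points and normalising `V`, fixes all fixed
  vectors of `V`.
-/

set_option autoImplicit false

namespace Cfsg.Agent.H708.ReeSix

section eig

variable {K : Type*} [Field K] {M : Type*} [AddCommGroup M] [Module K M]

theorem pow_apply_of_sq {f : Module.End K M} {v : M} (h : f (f v - v) = f v - v) (n : ℕ) :
    (f ^ n) v = v + (n : K) • (f v - v) := by
  induction n with
  | zero => simp
  | succ n ih =>
    have h1 : f v = v + (f v - v) := by abel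
    rw [pow_succ', Module.End.mul_apply, ih, map_add, map_smul, h]
    nth_rewrite 1 [h1]
    rw [Nat.cast_succ, add_smul, one_smul]
    abel

theorem exists_eig [IsAlgClosed K] [FiniteDimensional K M] {f : Module.End K M} {k : ℕ} (hk : (k : K) ≠ 0)
    (hf : f ^ k = 1) {W : Submodule K M} (hW : ∀ w ∈ W, f w ∈ W) {v : M} (hv : v ∈ W) (hne : f v ≠ v) :
    ∃ u ∈ W, u ≠ 0 ∧ ∃ ζ : K, ζ ≠ 1 ∧ f u = ζ • u := by
  set W' : Submodule K M := W.map (f - 1) with hW'
  have hW'W : W' ≤ W := by
    rintro _ ⟨w, hw, rfl⟩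
    exact W.sub_mem (hW w hw) hw
  have hinv : ∀ w ∈ W', f w ∈ W' := by
    rintro _ ⟨w, hw, rfl⟩
    refine ⟨f w, hW w hw, ?_⟩
    simp [LinearMap.sub_apply, map_sub]
  have hnt : Nontrivial W' := by
    refine ⟨⟨⟨(f - 1) v, v, hv, rfl⟩, 0, fun h => hne ?_⟩⟩
    have h1 : (f - 1) v = 0 := congrArg Subtype.val h
    rw [LinearMap.sub_apply, Module.End.one_apply, sub_eq_zero] at h1
    exact h1
  obtain ⟨ζ, hζ⟩ := Module.End.exists_eigenvalue (f.restrict hinv)
  obtain ⟨⟨u, huW⟩, hu⟩ := hζ.exists_hasEigenvector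
  have hu0 : u ≠ 0 := fun h => hu.2 (Subtype.ext h)
  have hfu : f u = ζ • u := congrArg Subtype.val hu.apply_eq_smul
  refine ⟨u, hW'W huW, hu0, ζ, ?_, hfu⟩
  rintro rfl
  obtain ⟨w, -, hw⟩ := huW
  rw [LinearMap.sub_apply, Module.End.one_apply] at hw
  rw [one_smul, ← hw] at hfu
  have h1 := pow_apply_of_sq hfu k
  rw [hf, Module.End.one_apply, left_eq_add, smul_eq_zero, hw] at h1
  exact h1.elim hk hu0

end eig

section wt

variable {F : Type*} [Field F] {V : Type*} [AddCommGroup V] [Module F V] {G : Type*} [Group G]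
  (ρ : G →* Module.End F V) {S : Subgroup G}

theorem wt_of {v : V} (hv : v ≠ 0) (h : ∀ s : S, ∃ c : F, ρ s v = c • v) : ∃ χ : S →* F, ∀ s : S, ρ s v = χ s • v := by
  choose c hc using h
  have hinj : ∀ a b : F, a • v = b • v → a = b := fun a b h => smul_left_injective F hv h
  exact ⟨{ toFun := c
           map_one' := by
             apply hinj
             rw [← hc, one_smul, Subgroup.coe_one, map_one, Module.End.one_apply]
           map_mul' := fun s t => by
             apply hinj
             rw [← hc, Subgroup.coe_mul, map_mul, Module.End.mul_apply, hc t, map_smul, hc s, smul_smul, mul_comm] },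
    hc⟩

theorem comm_of_sq (hS : ∀ s ∈ S, s * s = 1) : ∀ s ∈ S, ∀ t ∈ S, s * t = t * s := by
  intro s hs t ht
  have h1 := hS _ (S.mul_mem hs ht)
  have hsi : s⁻¹ = s := inv_eq_of_mul_eq_one_left (hS s hs)
  have hti : t⁻¹ = t := inv_eq_of_mul_eq_one_left (hS t ht)
  have h3 : (s * t)⁻¹ = s * t := inv_eq_of_mul_eq_one_left h1
  rw [mul_inv_rev, hsi, hti] at h3
  exact h3.symm

theorem span_wt (h2 : (2 : F) ≠ 0) (hS : ∀ s ∈ S, s * s = 1) (T : Finset S) :
    Submodule.span F {w : V | ∀ t ∈ T, ρ (t : G) w = w ∨ ρ (t : G) w = -w} = ⊤ := by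
  classical
  have hcomm := comm_of_sq hS
  have hss : ∀ t ∈ S, ∀ v, ρ t (ρ t v) = v := by
    intro t ht v
    rw [← Module.End.mul_apply, ← map_mul, hS t ht, map_one, Module.End.one_apply]
  induction T using Finset.induction_on with
  | empty => simp
  | insert t T _ ih =>
    rw [eq_top_iff, ← ih, Submodule.span_le]
    intro w hw
    have key : ∀ x ∈ T, ρ (x : G) (ρ (t : G) w) = ρ (t : G) w ∨ ρ (x : G) (ρ (t : G) w) = -ρ (t : G) w := by
      intro x hx
      rw [← Module.End.mul_apply, ← map_mul, hcomm x x.2 t t.2, map_mul, Module.End.mul_apply]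
      rcases hw x hx with h | h
      · left; rw [h]
      · right; rw [h, map_neg]
    have h1 : w + ρ (t : G) w ∈ Submodule.span F {w : V | ∀ x ∈ insert t T, ρ (x : G) w = w ∨ ρ (x : G) w = -w} := by
      apply Submodule.subset_span
      intro x hx
      rcases Finset.mem_insert.1 hx with rfl | hx
      · left; rw [map_add, hss _ x.2, add_comm]
      · rcases hw x hx with h | h
        · left
          rw [map_add, h, ← Module.End.mul_apply, ← map_mul, hcomm x x.2 t t.2, map_mul, Module.End.mul_apply, h]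
        · right
          rw [map_add, h, ← Module.End.mul_apply, ← map_mul, hcomm x x.2 t t.2, map_mul, Module.End.mul_apply, h, map_neg,
            neg_add]
    have h3 : w - ρ (t : G) w ∈ Submodule.span F {w : V | ∀ x ∈ insert t T, ρ (x : G) w = w ∨ ρ (x : G) w = -w} := by
      apply Submodule.subset_span
      intro x hx
      rcases Finset.mem_insert.1 hx with rfl | hx
      · right; rw [map_sub, hss _ x.2, neg_sub]
      · rcases hw x hx with h | h
        · left
          rw [map_sub, h, ← Module.End.mul_apply, ← map_mul, hcomm x x.2 t t.2, map_mul, Module.End.mul_apply, h]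
        · right
          rw [map_sub, h, ← Module.End.mul_apply, ← map_mul, hcomm x x.2 t t.2, map_mul, Module.End.mul_apply, h, map_neg,
            neg_sub, sub_neg_eq_add, neg_add_eq_sub]
    have h4 : w = (2 : F)⁻¹ • ((w + ρ (t : G) w) + (w - ρ (t : G) w)) := by
      have : (w + ρ (t : G) w) + (w - ρ (t : G) w) = (2 : F) • w := by rw [two_smul]; abel
      rw [this, smul_smul, inv_mul_cancel₀ h2, one_smul]
    rw [SetLike.mem_coe, h4]
    exact Submodule.smul_mem _ _ (Submodule.add_mem _ h1 h3)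

theorem exists_fixed [Finite S] [Module.Finite F V] (h2 : (2 : F) ≠ 0) (h8 : Nat.card S = 8) (hS : ∀ s ∈ S, s * s = 1)
    {g : G} (hg : ∀ s ∈ S, g⁻¹ * s * g ∈ S) (hg7 : g ^ 7 = 1) (hfix : ∀ s ∈ S, g⁻¹ * s * g = s → s = 1)
    (hn : Module.finrank F V < 14) (hn8 : 8 ≤ Module.finrank F V) : ∃ v : V, v ≠ 0 ∧ ∀ s ∈ S, ρ s v = v := by
  classical
  have := Fintype.ofFinite S
  have hsp := span_wt ρ h2 hS Finset.univ
  obtain ⟨b, hb, hbs, hbi⟩ := exists_linearIndependent F {w : V | ∀ t ∈ (Finset.univ : Finset S), ρ (t : G) w = w ∨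
    ρ (t : G) w = -w}
  rw [hsp] at hbs
  have hfinb : Finite b := hbi.finite
  have := Fintype.ofFinite b
  have hcard : Fintype.card b = Module.finrank F V := by
    have := finrank_span_set_eq_card hbi
    rw [hbs, finrank_top] at this
    rw [this, Set.toFinset_card]
  have hne : ∀ x : b, (x : V) ≠ 0 := fun x => hbi.ne_zero x
  have hwt : ∀ x : b, ∃ χ : S →* F, ∀ s : S, ρ s (x : V) = χ s • (x : V) := by
    intro x
    refine wt_of ρ (hne x) fun s => ?_
    rcases hb x.2 s (Finset.mem_univ s) with h | h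
    · exact ⟨1, by rw [h, one_smul]⟩
    · exact ⟨-1, by rw [h, neg_one_smul]⟩
  choose χ hχ using hwt
  by_contra hcon
  push Not at hcon
  have hχ1 : ∀ x, χ x ≠ 1 := by
    intro x h
    obtain ⟨s, hs, hsx⟩ := hcon x (hne x)
    apply hsx
    have := hχ x ⟨s, hs⟩
    rwa [h, MonoidHom.one_apply, one_smul] at this
  have hinj : Function.Injective χ := by
    intro x y hxy
    by_contra hne'
    have hlin : LinearIndependent F ![(x : V), (y : V)] := by
      have h1 := hbi.comp ![x, y] (by
        intro i j hij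
        fin_cases i <;> fin_cases j
        · rfl
        · exact absurd hij hne'
        · exact absurd hij.symm hne'
        · rfl)
      convert h1 using 1
      ext i
      fin_cases i <;> rfl
    have h := bound ρ h2 hS hg hg7 hfix (hχ1 x) hlin (fun j s => by
      fin_cases j
      · exact hχ x s
      · change ρ s (y : V) = χ x s • (y : V)
        rw [hxy]
        exact hχ y s)
    rw [Fintype.card_fin] at h
    omega
  let ψ : Option b → (S →* F) := fun o => o.elim 1 χ
  have hψ : Function.Injective ψ := by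
    rintro (_ | x) (_ | y) h
    · rfl
    · exact absurd h.symm (hχ1 y)
    · exact absurd h (hχ1 x)
    · exact congrArg some (hinj h)
  have hl := (linearIndependent_monoidHom S F).comp ψ hψ
  have hle := hl.fintype_card_le_finrank
  rw [Module.finrank_fintype_fun_eq_card, Fintype.card_option, ← Nat.card_eq_fintype_card (α := S), h8, hcard] at hle
  omega

end wt

section loc

variable {K : Type*} [Field K] {M : Type*} [AddCommGroup M] [Module K M] {G : Type*} [Group G]
  (ρ : G →* Module.End K M) {S V : Subgroup G}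

theorem fix_of_loc [IsAlgClosed K] [FiniteDimensional K M] [Finite S] (h2 : (2 : K) ≠ 0)
    (hn : Module.finrank K M < 14) (hS : ∀ s ∈ S, s * s = 1)
    {g : G} (hg : ∀ s ∈ S, g⁻¹ * s * g ∈ S) (hg7 : g ^ 7 = 1) (hfix : ∀ s ∈ S, g⁻¹ * s * g = s → s = 1)
    (hVS : V ≤ S) {s : G} (hs : s ∈ S) (hcov : ∀ x ∈ S, x ∈ V ∨ ∃ v ∈ V, x = v * s) {y : G}
    (hyV : ∀ v ∈ V, v * y = y * v) (hk : ((orderOf y : ℕ) : K) ≠ 0) (hodd : Odd (orderOf y))
    (hsy : s * y * s⁻¹ = y⁻¹) {r : G} (hr3 : r ^ 3 = 1) (hrV : ∀ v ∈ V, r⁻¹ * v * r ∈ V) {j : ℕ}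
    (hry : r⁻¹ * y * r = y ^ j) (hrf : ∀ i : ℕ, r⁻¹ * y ^ i * r = y ^ i → y ^ i = 1) {v : M}
    (hv : ∀ b ∈ V, ρ b v = v) : ρ y v = v := by
  classical
  by_contra hne
  have hcomm := comm_of_sq hS
  have hss := hS s hs
  have hsi : s⁻¹ = s := inv_eq_of_mul_eq_one_left hss
  let W : Submodule K M :=
    { carrier := {v | ∀ b ∈ V, ρ b v = v}
      add_mem' := fun {a b} ha hb x hx => by rw [map_add, ha x hx, hb x hx]
      zero_mem' := fun x _ => map_zero _
      smul_mem' := fun c a ha x hx => by rw [map_smul, ha x hx] }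
  have hW : ∀ v, v ∈ W ↔ ∀ b ∈ V, ρ b v = v := fun _ => Iff.rfl
  have hyW : ∀ w ∈ W, ρ y w ∈ W := by
    intro w hw b hb
    rw [← Module.End.mul_apply, ← map_mul, hyV b hb, map_mul, Module.End.mul_apply, hw b hb]
  have hsW : ∀ w ∈ W, ρ s w ∈ W := by
    intro w hw b hb
    rw [← Module.End.mul_apply, ← map_mul, hcomm b (hVS hb) s hs, map_mul, Module.End.mul_apply, hw b hb]
  have hrW : ∀ w ∈ W, ρ r w ∈ W := by
    intro w hw b hb
    have h1 : b * r = r * (r⁻¹ * b * r) := by group
    rw [← Module.End.mul_apply, ← map_mul, h1, map_mul, Module.End.mul_apply, hw _ (hrV b hb)]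
  obtain ⟨u, huW, hu0, ζ, hζ1, hyu⟩ := exists_eig (f := ρ y) hk (by rw [← map_pow, pow_orderOf_eq_one, map_one]) hyW
    (v := v) hv hne
  have hpow : ∀ (w : M) (c : K), ρ y w = c • w → ∀ n : ℕ, ρ (y ^ n) w = c ^ n • w := by
    intro w c hw n
    induction n with
    | zero => simp
    | succ n ih => rw [pow_succ', map_mul, Module.End.mul_apply, ih, map_smul, hw, smul_smul, pow_succ]
  have hinj : ∀ {w : M}, w ≠ 0 → ∀ {a b : K}, a • w = b • w → a = b := fun hw _ _ h => smul_left_injective K hw h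
  have hζk : ζ ^ orderOf y = 1 := by
    apply hinj hu0
    rw [← hpow u ζ hyu, pow_orderOf_eq_one, map_one, Module.End.one_apply, one_smul]
  have hk0 : orderOf y ≠ 0 := fun h => hk (by rw [h, Nat.cast_zero])
  have hζ0 : ζ ≠ 0 := by
    intro h
    rw [h, zero_pow hk0] at hζk
    exact zero_ne_one hζk
  -- the action of `s` and `r` on eigenvectors
  have hsyw : ∀ (w : M) (c : K), c ≠ 0 → ρ y w = c • w → ρ y (ρ s w) = c⁻¹ • ρ s w := by
    intro w c hc hw
    have h1 : y * s = s * y⁻¹ := by rw [← hsy, hsi]; simp only [mul_assoc, ← mul_assoc s s, hss, one_mul]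
    have h3 : ρ y⁻¹ w = c⁻¹ • w := by
      have h4 : ρ y⁻¹ (ρ y w) = w := by
        rw [← Module.End.mul_apply, ← map_mul, inv_mul_cancel, map_one, Module.End.one_apply]
      rw [hw, map_smul] at h4
      rw [← h4, smul_smul, inv_mul_cancel₀ hc, one_smul, h4]
    rw [← Module.End.mul_apply, ← map_mul, h1, map_mul, Module.End.mul_apply, h3, map_smul]
  have hyu1 : ρ y (ρ r u) = ζ ^ j • ρ r u := by
    have h1 : y * r = r * (r⁻¹ * y * r) := by group
    rw [← Module.End.mul_apply, ← map_mul, h1, hry, map_mul, Module.End.mul_apply, hpow u ζ hyu, map_smul]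
  -- `ζ ^ (j ^ 3) = ζ`
  have hry' : ∀ i : ℕ, r⁻¹ * y ^ i * r = y ^ (j * i) := by
    intro i
    have h1 : r⁻¹ * y ^ i * r = (r⁻¹ * y * r) ^ i := by
      have := conj_pow (a := r⁻¹) (b := y) (i := i)
      rw [inv_inv] at this
      exact this.symm
    rw [h1, hry, ← pow_mul]
  have hj3 : ζ ^ (j * (j * j)) = ζ := by
    apply hinj hu0
    rw [← hpow u ζ hyu, ← hry', ← hry', ← hry]
    have h1 : r⁻¹ * (r⁻¹ * (r⁻¹ * y * r) * r) * r = (r ^ 3)⁻¹ * y * r ^ 3 := by
      simp only [pow_succ, pow_zero, one_mul, mul_inv_rev, mul_assoc]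
    rw [h1, hr3, inv_one, one_mul, mul_one, hyu]
  have hζj : ζ ^ j ≠ ζ := by
    intro h
    set z : Kˣ := Units.mk0 ζ hζ0 with hz
    have hzj : z ^ j = z ^ 1 := Units.ext (by rw [Units.val_pow_eq_pow_val, Units.val_pow_eq_pow_val, pow_one]; exact h)
    have hz1 : z ≠ 1 := fun h => hζ1 (congrArg Units.val h)
    have hzk : z ^ orderOf y = 1 := Units.ext (by rw [Units.val_pow_eq_pow_val]; exact hζk)
    obtain ⟨e, he⟩ := orderOf_dvd_of_pow_eq_one hzk
    have h1 : j ≡ 1 [MOD orderOf z] := pow_eq_pow_iff_modEq.1 hzj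
    have h3 : j * e ≡ 1 * e [MOD orderOf y] := by rw [he]; exact h1.mul_right' e
    have h4 : y ^ (j * e) = y ^ e := by rw [one_mul] at h3; exact pow_eq_pow_iff_modEq.2 h3
    have h5 := hrf e (by rw [hry', h4])
    have h6 := orderOf_dvd_of_pow_eq_one h5
    have he0 : 0 < e := by
      rcases Nat.eq_zero_or_pos e with h | h
      · rw [h, mul_zero] at he; exact absurd he hk0
      · exact h
    have h7 := Nat.le_of_dvd he0 h6
    have h8 : orderOf z ≤ 1 := by
      by_contra hcon
      push Not at hcon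
      have : e * 2 ≤ orderOf z * e := by rw [mul_comm e 2]; exact Nat.mul_le_mul_right e hcon
      omega
    have h9 : orderOf z ≠ 0 := by
      intro h
      rw [h, zero_mul] at he
      exact hk0 he
    exact hz1 (orderOf_eq_one_iff.1 (by omega))
  have hζj1 : ζ ^ j ≠ 1 := by
    intro h
    rw [pow_mul, h, one_pow] at hj3
    exact hζ1 hj3.symm
  have hζji : ζ ^ j ≠ ζ⁻¹ := by
    intro h
    have h1 : ζ ^ (j * j) = ζ := by rw [pow_mul, h, inv_pow, h, inv_inv]
    rw [mul_comm, pow_mul, h1] at hj3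
    exact hζj hj3
  have hsq : ∀ c : K, c ^ orderOf y = 1 → c * c = 1 → c = 1 := by
    intro c hc hcc
    obtain ⟨k, hk⟩ := hodd
    rw [hk, pow_succ, pow_mul, pow_two, hcc, one_pow, one_mul] at hc
    exact hc
  have hζζ : ζ ≠ ζ⁻¹ := by
    intro h
    apply hζ1
    apply hsq ζ hζk
    nth_rewrite 2 [h]
    exact mul_inv_cancel₀ hζ0
  have hζj0 : ζ ^ j ≠ 0 := pow_ne_zero j hζ0
  have hζζj : ζ ^ j ≠ (ζ ^ j)⁻¹ := by
    intro h
    apply hζj1
    apply hsq (ζ ^ j) (by rw [← pow_mul, mul_comm, pow_mul, hζk, one_pow])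
    nth_rewrite 2 [h]
    exact mul_inv_cancel₀ hζj0
  -- four eigenvectors
  have hu1 : ρ r u ≠ 0 := by
    intro h
    apply hu0
    have h1 : ρ r⁻¹ (ρ r u) = u := by
      rw [← Module.End.mul_apply, ← map_mul, inv_mul_cancel, map_one, Module.End.one_apply]
    rw [← h1, h, map_zero]
  have hsne : ∀ w : M, w ≠ 0 → ρ s w ≠ 0 := by
    intro w hw h
    apply hw
    have h1 : ρ s (ρ s w) = w := by
      rw [← Module.End.mul_apply, ← map_mul, hss, map_one, Module.End.one_apply]
    rw [← h1, h, map_zero]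
  have hlin4 : LinearIndependent K ![u, ρ s u, ρ r u, ρ s (ρ r u)] := by
    refine Module.End.eigenvectors_linearIndependent' (ρ y) ![ζ, ζ⁻¹, ζ ^ j, (ζ ^ j)⁻¹] ?_ _ ?_
    · intro a b hab
      have e1 : ζ⁻¹ ≠ (ζ ^ j)⁻¹ := fun h => hζj (inv_injective h).symm
      have e2 : ζ ≠ (ζ ^ j)⁻¹ := fun h => hζji ((congrArg Inv.inv h).trans (inv_inv _)).symm
      fin_cases a <;> fin_cases b
      · rfl
      · exact absurd hab hζζ
      · exact absurd hab.symm hζj
      · exact absurd hab e2
      · exact absurd hab.symm hζζ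
      · rfl
      · exact absurd hab.symm hζji
      · exact absurd hab e1
      · exact absurd hab hζj
      · exact absurd hab hζji
      · rfl
      · exact absurd hab hζζj
      · exact absurd hab.symm e2
      · exact absurd hab.symm e1
      · exact absurd hab.symm hζζj
      · rfl
    · intro i
      rw [Module.End.hasEigenvector_iff, Module.End.mem_eigenspace_iff]
      fin_cases i
      · exact ⟨hyu, hu0⟩
      · exact ⟨hsyw u ζ hζ0 hyu, hsne u hu0⟩
      · exact ⟨hyu1, hu1⟩
      · exact ⟨hsyw _ _ hζj0 hyu1, hsne _ hu1⟩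
  -- two weight vectors
  set e : Fin 2 → M := ![u - ρ s u, ρ r u - ρ s (ρ r u)] with he
  have hlin2 : LinearIndependent K e := by
    rw [he, LinearIndependent.pair_iff]
    intro a b hab
    have h1 := (Fintype.linearIndependent_iff.1 hlin4) ![a, -a, b, -b] (by
      rw [Fin.sum_univ_four]
      simp only [Matrix.cons_val_zero, Matrix.cons_val_one, Matrix.cons_val, neg_smul]
      rw [smul_sub, smul_sub] at hab
      rw [← hab]
      abel)
    exact ⟨h1 0, h1 2⟩
  have hV : ∀ w ∈ W, ∀ x ∈ V, ρ x (w - ρ s w) = w - ρ s w := by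
    intro w hw x hx
    rw [map_sub, hw x hx, hsW w hw x hx]
  have hVs : ∀ w ∈ W, ∀ x ∈ V, ρ (x * s) (w - ρ s w) = -(w - ρ s w) := by
    intro w hw x hx
    have h1 : ρ s (w - ρ s w) = -(w - ρ s w) := by
      rw [map_sub, ← Module.End.mul_apply (ρ s) (ρ s), ← map_mul, hss, map_one, Module.End.one_apply, neg_sub]
    rw [map_mul, Module.End.mul_apply, h1, map_neg, hV w hw x hx]
  have hru : ρ r u ∈ W := hrW u huW
  have he0 : e 0 ≠ 0 := hlin2.ne_zero 0
  obtain ⟨χ, hχ⟩ := wt_of (S := S) ρ (v := e 0) he0 (fun x => by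
    rcases hcov x x.2 with h | ⟨v, hv, hx⟩
    · exact ⟨1, by rw [one_smul]; exact hV u huW x h⟩
    · refine ⟨-1, ?_⟩
      rw [hx, neg_one_smul]
      exact hVs u huW v hv)
  have hχ1 : χ ≠ 1 := by
    intro h
    have h1 := hχ ⟨s, hs⟩
    rw [h, MonoidHom.one_apply, one_smul] at h1
    have h3 := hVs u huW 1 V.one_mem
    rw [one_mul] at h3
    have h4 : e 0 = -(e 0) := h1.symm.trans h3
    have h5 : (2 : K) • e 0 = 0 := by
      rw [two_smul]
      nth_rewrite 2 [h4]
      exact add_neg_cancel _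
    exact he0 ((smul_eq_zero.1 h5).resolve_left h2)
  have h := bound ρ h2 hS hg hg7 hfix hχ1 hlin2 (fun i x => by
    fin_cases i
    · exact hχ x
    · change ρ x (ρ r u - ρ s (ρ r u)) = χ x • (ρ r u - ρ s (ρ r u))
      rcases hcov x x.2 with h | ⟨v, hv, hx⟩
      · have h1 : χ x = 1 := by
          apply hinj he0
          rw [← hχ, one_smul]
          exact hV u huW x h
        rw [h1, one_smul]
        exact hV _ hru x h
      · have h1 : χ x = -1 := by
          apply hinj he0
          rw [← hχ, neg_one_smul, hx]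
          exact hVs u huW v hv
        rw [h1, neg_one_smul, hx]
        exact hVs _ hru v hv)
  rw [Fintype.card_fin] at h
  omega

end loc

end Cfsg.Agent.H708.ReeSix
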