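import Mathlib

/-!
# Seven conjugate weights of an elementary abelian group of order `2³`

`ρ : G →* End V`, `S ≤ G` a finite subgroup of exponent `2`, `char F ≠ 2`, `g` an element with `g⁷ = 1` which
normalises `S` and fixes only the identity of `S`.  If `ρ` is non-trivial on `S` then `V` contains weight vectors for
seven different weights of `S`.
-/

set_option autoImplicit false

namespace Cfsg.Agent.H708.ReeSix

section abstr

variable {F : Type*} [Field F] {V : Type*} [AddCommGroup V] [Module F V] {G : Type*} [Group G]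
  (ρ : G →* Module.End F V) {S : Subgroup G}

/-- vectors of different weights are independent -/
theorem eq_zero_of_sum [Fintype S] (hS : ((Fintype.card S : ℕ) : F) ≠ 0) {I : Type*} [Fintype I] {χ : I → (S →* F)}
    (hinj : Function.Injective χ) (h2 : ∀ i s, χ i s * χ i s = 1) {u : I → V}
    (hu : ∀ i (s : S), ρ s (u i) = χ i s • u i) (h0 : ∑ i, u i = 0) (j : I) : u j = 0 := by
  classical
  have h1 : ∑ s : S, χ j s • ρ s (∑ i, u i) = 0 := by
    rw [h0]
    simp
  have h3 : ∑ s : S, χ j s • ρ s (∑ i, u i) = ∑ i, (∑ s : S, (χ j * χ i) s) • u i := by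
    simp only [map_sum, hu, Finset.smul_sum, Finset.sum_smul, MonoidHom.mul_apply, smul_smul]
    rw [Finset.sum_comm]
  rw [h3, Finset.sum_eq_single j] at h1
  · have h4 : ∑ s : S, (χ j * χ j) s = ((Fintype.card S : ℕ) : F) := by
      simp [MonoidHom.mul_apply, h2]
    rw [h4] at h1
    exact (smul_eq_zero.1 h1).resolve_left hS
  · intro i _ hij
    rw [sum_hom_units_eq_zero, zero_smul]
    intro he
    apply hij
    apply hinj
    ext s
    have h5 : χ j s * χ i s = 1 := by
      rw [← MonoidHom.mul_apply, he, MonoidHom.one_apply]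
    have h6 := h2 i s
    have h7 : χ i s ≠ 0 := fun h => by rw [h, mul_zero] at h6; exact zero_ne_one h6
    exact mul_right_cancel₀ h7 (h6.trans h5.symm)
  · intro h
    exact absurd (Finset.mem_univ j) h

/-- a non-trivial weight -/
theorem exists_wt [Finite S] (h2 : (2 : F) ≠ 0) (hS : ∀ s ∈ S, s * s = 1) {s₀ : G} (hs₀ : s₀ ∈ S) (hρ : ρ s₀ ≠ 1) :
    ∃ χ : S →* F, χ ≠ 1 ∧ ∃ v : V, v ≠ 0 ∧ ∀ s : S, ρ s v = χ s • v := by
  classical
  have := Fintype.ofFinite S
  have hcomm : ∀ s ∈ S, ∀ t ∈ S, s * t = t * s := by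
    intro s hs t ht
    have h1 := hS _ (S.mul_mem hs ht)
    have hsi : s⁻¹ = s := inv_eq_of_mul_eq_one_left (hS s hs)
    have hti : t⁻¹ = t := inv_eq_of_mul_eq_one_left (hS t ht)
    have h3 : (s * t)⁻¹ = s * t := inv_eq_of_mul_eq_one_left h1
    rw [mul_inv_rev, hsi, hti] at h3
    exact h3.symm
  -- a vector negated by `s₀`
  obtain ⟨v₀, hv₀⟩ : ∃ v₀, ρ s₀ v₀ ≠ v₀ := by
    by_contra h
    push Not at h
    exact hρ (LinearMap.ext h)
  have hss : ∀ t ∈ S, ∀ v, ρ t (ρ t v) = v := by
    intro t ht v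
    rw [← Module.End.mul_apply, ← map_mul, hS t ht, map_one, Module.End.one_apply]
  have key : ∀ T : Finset S, ∃ v : V, v ≠ 0 ∧ ρ s₀ v = -v ∧ ∀ t ∈ T, ∃ c : F, ρ (t : G) v = c • v := by
    intro T
    induction T using Finset.induction_on with
    | empty =>
      refine ⟨ρ s₀ v₀ - v₀, sub_ne_zero.2 hv₀, ?_, by simp⟩
      rw [map_sub, hss s₀ hs₀, neg_sub]
    | insert t T _ ih =>
      obtain ⟨v, hv, hv0, hvT⟩ := ih
      by_cases ht : ρ (t : G) v = -v
      · refine ⟨v, hv, hv0, fun x hx => ?_⟩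
        rcases Finset.mem_insert.1 hx with rfl | hx
        · exact ⟨-1, by rw [ht, neg_one_smul]⟩
        · exact hvT x hx
      · refine ⟨v + ρ (t : G) v, fun h => ht ?_, ?_, fun x hx => ?_⟩
        · exact eq_neg_of_add_eq_zero_right h
        · rw [map_add, ← Module.End.mul_apply, ← map_mul, hcomm s₀ hs₀ t t.2, map_mul, Module.End.mul_apply, hv0,
            map_neg, neg_add]
        · rcases Finset.mem_insert.1 hx with rfl | hx
          · exact ⟨1, by rw [map_add, hss _ x.2, one_smul, add_comm]⟩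
          · obtain ⟨c, hc⟩ := hvT x hx
            refine ⟨c, ?_⟩
            rw [map_add, ← Module.End.mul_apply, ← map_mul, hcomm x x.2 t t.2, map_mul, Module.End.mul_apply, hc,
              map_smul, smul_add]
  obtain ⟨v, hv, hv0, hvT⟩ := key Finset.univ
  choose c hc using fun s : S => hvT s (Finset.mem_univ s)
  have hinj : ∀ a b : F, a • v = b • v → a = b := fun a b h => smul_left_injective F hv h
  let χ : S →* F :=
    { toFun := c
      map_one' := by
        apply hinj
        rw [← hc, one_smul, Subgroup.coe_one, map_one, Module.End.one_apply]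
      map_mul' := fun s t => by
        apply hinj
        rw [← hc, Subgroup.coe_mul, map_mul, Module.End.mul_apply, hc t, map_smul, hc s, smul_smul, mul_comm] }
  refine ⟨χ, fun h => ?_, v, hv, hc⟩
  have h1 : c ⟨s₀, hs₀⟩ = 1 := DFunLike.congr_fun h ⟨s₀, hs₀⟩
  have h3 := hc ⟨s₀, hs₀⟩
  rw [h1, one_smul] at h3
  have h4 : v = -v := h3.symm.trans hv0
  have h5 : (2 : F) • v = 0 := by
    rw [two_smul]
    nth_rewrite 2 [h4]
    exact add_neg_cancel v
  exact hv ((smul_eq_zero.1 h5).resolve_left h2)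

/-- **seven weights** -/
theorem bound [Finite S] [Module.Finite F V] (h2 : (2 : F) ≠ 0) (hS : ∀ s ∈ S, s * s = 1) {g : G}
    (hg : ∀ s ∈ S, g⁻¹ * s * g ∈ S) (hg7 : g ^ 7 = 1) (hfix : ∀ s ∈ S, g⁻¹ * s * g = s → s = 1) {χ : S →* F}
    (hχ : χ ≠ 1) {J : Type*} [Fintype J] {b : J → V} (hb : LinearIndependent F b)
    (hwt : ∀ j (s : S), ρ s (b j) = χ s • b j) : 7 * Fintype.card J ≤ Module.finrank F V := by
  classical
  have := Fintype.ofFinite S
  have hcomm : ∀ s ∈ S, ∀ t ∈ S, s * t = t * s := by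
    intro s hs t ht
    have h1 := hS _ (S.mul_mem hs ht)
    have hsi : s⁻¹ = s := inv_eq_of_mul_eq_one_left (hS s hs)
    have hti : t⁻¹ = t := inv_eq_of_mul_eq_one_left (hS t ht)
    have h3 : (s * t)⁻¹ = s * t := inv_eq_of_mul_eq_one_left h1
    rw [mul_inv_rev, hsi, hti] at h3
    exact h3.symm
  -- the order of `S` is a power of two
  have hcard : ((Fintype.card S : ℕ) : F) ≠ 0 := by
    have hp : IsPGroup 2 S := fun s => ⟨1, by rw [pow_one, pow_two]; exact Subtype.ext (hS s s.2)⟩
    obtain ⟨k, hk⟩ := IsPGroup.iff_card.1 hp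
    rw [← Nat.card_eq_fintype_card, hk, Nat.cast_pow]
    exact pow_ne_zero k (by exact_mod_cast h2)
  -- conjugation by `g⁻¹`
  let f : S →* S :=
    { toFun := fun s => ⟨g⁻¹ * s * g, hg s s.2⟩
      map_one' := Subtype.ext (by simp)
      map_mul' := fun s t => Subtype.ext (by simp [mul_assoc]) }
  have hf : ∀ s : S, ((f s : S) : G) = g⁻¹ * s * g := fun _ => rfl
  let T : (S →* F) → (S →* F) := fun χ => χ.comp f
  have hT : ∀ (n : ℕ) (ψ : S →* F) (s : S), (T^[n] ψ) s = ψ (f^[n] s) := by
    intro n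
    induction n with
    | zero => intro ψ s; rfl
    | succ n ih =>
      intro ψ s
      rw [Function.iterate_succ_apply, ih, Function.iterate_succ_apply']
      rfl
  have hfn : ∀ (n : ℕ) (s : S), ((f^[n] s : S) : G) = (g ^ n)⁻¹ * s * g ^ n := by
    intro n
    induction n with
    | zero => intro s; simp
    | succ n ih =>
      intro s
      rw [Function.iterate_succ_apply', hf, ih, pow_succ]
      group
  have hper : Function.IsPeriodicPt T 7 χ := by
    change T^[7] χ = χ
    ext s
    rw [hT]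
    congr 1
    apply Subtype.ext
    rw [hfn, hg7]
    simp
  have hnofix : ¬ Function.IsFixedPt T χ := by
    intro hfx
    apply hχ
    -- the commutator map
    have hinj : Function.Injective fun s : S => s⁻¹ * f s := by
      intro s t hst
      have h1 : s⁻¹ * f s = t⁻¹ * f t := hst
      have hsc : ∀ a b : S, a * b = b * a := fun a b => Subtype.ext (hcomm a a.2 b b.2)
      have h3 : f (s * t⁻¹) = s * t⁻¹ := by
        rw [map_mul, map_inv]
        have h4 : f s = s * (t⁻¹ * f t) := by rw [← h1, mul_inv_cancel_left]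
        rw [h4, mul_assoc, mul_assoc, mul_inv_cancel, mul_one]
      have h5 : ((s * t⁻¹ : S) : G) = 1 := hfix _ (s * t⁻¹).2 (by rw [← hf, h3])
      have h6 : s * t⁻¹ = 1 := Subtype.ext h5
      exact mul_inv_eq_one.1 h6
    have hsurj := Finite.surjective_of_injective hinj
    ext s
    obtain ⟨t, rfl⟩ := hsurj s
    have h1 : χ (f t) = χ t := DFunLike.congr_fun hfx t
    change χ (t⁻¹ * f t) = 1
    rw [map_mul, h1, ← map_mul, inv_mul_cancel, map_one]
  have hmin : Function.minimalPeriod T χ = 7 := by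
    have hdvd := hper.minimalPeriod_dvd
    rcases (Nat.dvd_prime (by norm_num : Nat.Prime 7)).1 hdvd with h | h
    · exact absurd (Function.minimalPeriod_eq_one_iff_isFixedPt.1 h) hnofix
    · exact h
  have hinjT : Function.Injective fun i : Fin 7 => T^[(i : ℕ)] χ := by
    intro i j hij
    have h := Function.iterate_injOn_Iio_minimalPeriod (f := T) (x := χ)
    rw [hmin] at h
    exact Fin.ext (h i.2 j.2 hij)
  have hρg : ∀ (n : ℕ) (s : S) (v : V) (ψ : S →* F), (∀ t : S, ρ t v = ψ t • v) →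
      ρ s (ρ (g ^ n) v) = (T^[n] ψ) s • ρ (g ^ n) v := by
    intro n s v ψ hv
    rw [hT, ← map_smul, ← hv, hfn, ← Module.End.mul_apply, ← Module.End.mul_apply, ← map_mul, ← map_mul]
    congr 2
    group
  have hlin : LinearIndependent F fun x : Fin 7 × J => ρ (g ^ (x.1 : ℕ)) (b x.2) := by
    rw [Fintype.linearIndependent_iff]
    intro c hc x
    rw [Fintype.sum_prod_type] at hc
    have h1 := eq_zero_of_sum ρ hcard hinjT (fun i s => by
      rw [← map_mul]
      have : s * s = 1 := Subtype.ext (hS s s.2)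
      rw [this, map_one]) (u := fun i : Fin 7 => ∑ j, c (i, j) • ρ (g ^ (i : ℕ)) (b j)) (fun i s => by
        rw [map_sum, Finset.smul_sum]
        refine Finset.sum_congr rfl fun j _ => ?_
        rw [map_smul, hρg _ s (b j) χ (hwt j), smul_comm]) hc x.1
    have h3 : ρ (g ^ (x.1 : ℕ)) (∑ j, c (x.1, j) • b j) = 0 := by
      rw [map_sum, ← h1]
      refine Finset.sum_congr rfl fun j _ => ?_
      rw [map_smul]
    have h4 : ∑ j, c (x.1, j) • b j = 0 := by
      have h5 : ρ (g ^ (x.1 : ℕ))⁻¹ (ρ (g ^ (x.1 : ℕ)) (∑ j, c (x.1, j) • b j)) = 0 := by rw [h3, map_zero]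
      rwa [← Module.End.mul_apply, ← map_mul, inv_mul_cancel, map_one, Module.End.one_apply] at h5
    exact (Fintype.linearIndependent_iff.1 hb) (fun j => c (x.1, j)) h4 x.2
  have h := hlin.fintype_card_le_finrank
  rwa [Fintype.card_prod, Fintype.card_fin] at h

end abstr

end Cfsg.Agent.H708.ReeSix
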